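import Mathlib
import Cfsg.Agent.Lib.Helper1.Ab2Gen

set_option autoImplicit false

universe u

namespace Cfsg.Agent.Lib.Helper1

/-- an automorphism stabilizing a chain from `⊤` to `⊥` in a finite `p`-group is a `p`-element -/
theorem stabN_pow {P : Type*} [Group P] [Finite P] {p : ℕ} [Fact p.Prime] (hP : IsPGroup p P)
    (c : ℕ → Subgroup P) (n : ℕ) (hc0 : c 0 = ⊤) (hcn : c n = ⊥)
    (hle : ∀ i < n, c (i + 1) ≤ c i) (γ : MulAut P)
    (hγ : ∀ i < n, ∀ x ∈ c i, x⁻¹ * γ x ∈ c (i + 1)) : ∃ k : ℕ, γ ^ (p ^ k) = 1 := by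
  have key : ∀ j ≤ n, ∃ k : ℕ, ∀ x ∈ c (n - j), (γ ^ (p ^ k)) x = x := by
    intro j
    induction j with
    | zero =>
      intro _
      refine ⟨0, fun x hx => ?_⟩
      rw [Nat.sub_zero, hcn, Subgroup.mem_bot] at hx
      subst hx; simp
    | succ j ih =>
      intro hj
      obtain ⟨k, hk⟩ := ih (by omega)
      have hi : n - (j + 1) < n := by omega
      have e : n - (j + 1) + 1 = n - j := by omega
      have hst := hγ (n - (j + 1)) hi
      obtain ⟨k', hk'⟩ := IsPGroup.iff_card.mp (hP.to_subgroup (c (n - j)))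
      refine ⟨k + k', ?_⟩
      have h1 : ∀ x ∈ c (n - (j + 1) + 1), (γ ^ (p ^ k)) x = x := by rw [e]; exact hk
      have h2 := stab_step γ (c (n - (j + 1) + 1)) (c (n - (j + 1))) (hle _ hi)
        hst (p ^ k) h1
      have h3 : Nat.card ↥(c (n - (j + 1) + 1)) = p ^ k' := by rw [e]; exact hk'
      rw [h3, ← pow_add] at h2
      exact h2
  obtain ⟨k, hk⟩ := key n le_rfl
  refine ⟨k, MulEquiv.ext fun x => ?_⟩
  have := hk x (by rw [Nat.sub_self, hc0]; trivial)
  simpa using this

/-- for `p = 2`: an automorphism preserving a chain with cyclic steps of exponent 2 is a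
2-element -/
theorem two_pow_of_chain {P : Type*} [Group P] [Finite P] (hP : IsPGroup 2 P)
    (c : ℕ → Subgroup P) (n : ℕ) (hc0 : c 0 = ⊤) (hcn : c n = ⊥)
    (hstep : ∀ i < n, cstep 2 (c (i + 1)) (c i)) (β : MulAut P)
    (hinv : ∀ i, ∀ x ∈ c i, β x ∈ c i) (hinv' : ∀ i, ∀ x ∈ c i, β⁻¹ x ∈ c i) :
    ∃ k : ℕ, β ^ (2 ^ k) = 1 := by
  haveI : Fact (Nat.Prime 2) := ⟨Nat.prime_two⟩
  apply stabN_pow hP c n hc0 hcn (fun i hi => (hstep i hi).1) β
  intro i hi x hx
  have := cstep_pow (hstep i hi) β (hinv (i + 1)) (hinv i) (hinv' i) x hx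
  simpa using this

/-- the structure of an abelian `p`-group of rank at most two with no characteristic chain with
cyclic steps: it is homocyclic of rank two -/
theorem ab2_core {H : Type u} [CommGroup H] [Finite H] {p : ℕ} [Fact p.Prime] (hP : IsPGroup p H)
    (π : H →* H) (hπ : ∀ x, π x = x ^ p) (hidx : π.range.index ≤ p ^ 2)
    (hch : ∀ (c : ℕ → Subgroup H) (n : ℕ), c 0 = ⊤ → c n = ⊥ →
      (∀ i < n, cstep p (c (i + 1)) (c i)) →
      (∀ i, ∀ α : MulAut H, ∀ x ∈ c i, α x ∈ c i) → False) :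
    ∃ k : ℕ, 1 ≤ k ∧ π.range.index = p ^ 2 ∧
      Nonempty (H ≃* Multiplicative (ZMod (p ^ k) × ZMod (p ^ k))) := by
  classical
  have hp := (Fact.out : p.Prime)
  have hcomm : ∀ a b : H, a * b = b * a := mul_comm
  have hαπ : ∀ (α : MulAut H) x, α (π x) = π (α x) := fun α x => by rw [hπ, hπ, map_pow]
  have hR1 : ∀ y, y ∈ π.range ↔ ∃ x, y = x ^ p := fun y =>
    ⟨fun ⟨x, hx⟩ => ⟨x, by rw [← hx, hπ]⟩, fun ⟨x, hx⟩ => ⟨x, by rw [hx, hπ]⟩⟩
  obtain ⟨d, hd⟩ := hP.index π.range
  have hd2 : d ≤ 2 := by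
    rw [hd] at hidx
    exact (Nat.pow_le_pow_iff_right hp.one_lt).mp hidx
  obtain ⟨K, hK⟩ := IsPGroup.iff_card.mp hP
  have hexK : ∀ x : H, x ^ (p ^ K) = 1 := fun x => by rw [← hK]; exact pow_card_eq_one'
  have hchain : ∀ X : Subgroup H, (∀ α : MulAut H, ∀ x ∈ X, α x ∈ X) → cstep p X ⊤ →
      cstep p π.range X → False := by
    intro X hX h0 h1
    have h1' : cstep p ((⊤ : Subgroup H).map π) X := by
      rw [← MonoidHom.range_eq_map]; exact h1
    refine hch (chain2 π X) (2 * K) rfl ?_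
      (fun i _ => chain2_cstep hcomm π hπ X h0 h1' i)
      (fun i α => chain2_inv π X α (hαπ α) (hX α) i)
    rw [eq_bot_iff]
    intro y hy
    obtain ⟨x, rfl⟩ := chain2_even π hπ X K y hy
    rw [Subgroup.mem_bot]; exact hexK x
  have hcardH : Nat.card H = p ^ d * Nat.card π.range := by
    rw [← hd]; exact (Subgroup.index_mul_card π.range).symm
  interval_cases d
  · exfalso
    have hRtop : π.range = ⊤ := Subgroup.index_eq_one.mp (by rw [hd]; rfl)
    exact hchain ⊤ (fun _ _ _ => trivial) (cstep_refl p ⊤) (by rw [hRtop]; exact cstep_refl p ⊤)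
  · exfalso
    exact hchain ⊤ (fun _ _ _ => trivial) (cstep_refl p ⊤)
      (cstep_of_card inferInstance le_top (by rw [Subgroup.card_top, hcardH, pow_one]))
  · have hex : ∃ a, ∀ x : H, x ^ (p ^ a) = 1 := ⟨K, hexK⟩
    obtain ⟨a, ha, hamin⟩ : ∃ a, (∀ x : H, x ^ (p ^ a) = 1) ∧
        ∀ b < a, ¬ ∀ x : H, x ^ (p ^ b) = 1 :=
      ⟨Nat.find hex, Nat.find_spec hex, fun b hb => Nat.find_min hex hb⟩
    have ha1 : 1 ≤ a := by
      by_contra h0
      have : a = 0 := by omega
      subst this
      have htriv : ∀ x : H, x = 1 := fun x => by simpa using ha x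
      have h1 : π.range = ⊤ := by
        rw [eq_top_iff]; intro x _; rw [htriv x]; exact Subgroup.one_mem _
      rw [h1, Subgroup.index_top] at hd
      have := hp.one_lt
      nlinarith
    obtain ⟨X, hX⟩ : ∃ X : Subgroup H, ∀ x, x ∈ X ↔ x ^ (p ^ (a - 1)) = 1 :=
      ⟨(powMonoidHom (p ^ (a - 1)) : H →* H).ker, fun x => Iff.rfl⟩
    have hRX : π.range ≤ X := by
      rintro _ ⟨y, rfl⟩
      rw [hX, hπ, ← pow_mul, ← pow_succ']
      have : a - 1 + 1 = a := by omega
      rw [this]; exact ha y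
    have hXtop : X ≠ ⊤ := by
      intro h
      apply hamin (a - 1) (by omega)
      intro x
      exact (hX x).mp (by rw [h]; trivial)
    have invX : ∀ α : MulAut H, ∀ x ∈ X, α x ∈ X := by
      intro α x hx; rw [hX] at hx ⊢; rw [← map_pow, hx, map_one]
    by_cases hXR : X = π.range
    · have hKer' : ∀ h : H, h ^ (p ^ (a - 1)) = 1 → ∃ w, h = w ^ p := fun h hh =>
        (hR1 h).mp (hXR ▸ (hX h).mpr hh)
      have hQcard : Nat.card (H ⧸ π.range) = p ^ 2 := by rw [← Subgroup.index_eq_card, hd]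
      have hQcomm : ∀ u v : H ⧸ π.range, u * v = v * u := fun u v => mul_comm u v
      have hQexp : ∀ u : H ⧸ π.range, u ^ p = 1 := by
        intro u
        obtain ⟨u, rfl⟩ := QuotientGroup.mk_surjective u
        rw [← QuotientGroup.mk_pow, QuotientGroup.eq_one_iff]
        exact (hR1 _).mpr ⟨u, rfl⟩
      refine ⟨a, ha1, hd, ?_⟩
      haveI : Nontrivial (H ⧸ π.range) := by
        rw [← Finite.one_lt_card_iff_nontrivial, hQcard]
        exact Nat.one_lt_pow (by norm_num) hp.one_lt
      obtain ⟨q1, hq1⟩ := exists_ne (1 : H ⧸ π.range)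
      have hq1card : Nat.card (Subgroup.zpowers q1) = p := by
        rw [Nat.card_zpowers]; exact orderOf_eq_prime (hQexp q1) hq1
      obtain ⟨q2, hq2⟩ : ∃ q2, q2 ∉ Subgroup.zpowers q1 := by
        by_contra hall
        push_neg at hall
        have h1 : Subgroup.zpowers q1 = ⊤ := by rw [eq_top_iff]; intro x _; exact hall x
        rw [h1, Subgroup.card_top, hQcard] at hq1card
        have h2 := hp.two_le
        nlinarith
      obtain ⟨hgenQ, hindQ⟩ := r2_coord hQcomm hQexp hQcard hq1 hq2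
      obtain ⟨x, rfl⟩ := QuotientGroup.mk_surjective q1
      obtain ⟨y, rfl⟩ := QuotientGroup.mk_surjective q2
      have hgen : ∀ h : H, ∃ i j : ℕ, ∃ r, h = x ^ i * y ^ j * r ^ p := by
        intro h
        obtain ⟨i, j, hij⟩ := hgenQ (QuotientGroup.mk h)
        have h1 : (QuotientGroup.mk (x ^ i * y ^ j) : H ⧸ π.range) = QuotientGroup.mk h := by
          rw [hij]; rfl
        obtain ⟨r, hr⟩ := (hR1 _).mp (QuotientGroup.eq.mp h1)
        exact ⟨i, j, r, by rw [← hr, mul_inv_cancel_left]⟩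
      have hind : ∀ i j : ℕ, (∃ r, x ^ i * y ^ j = r ^ p) → p ∣ i ∧ p ∣ j := by
        rintro i j ⟨r, hr⟩
        apply hindQ
        have h1 : (QuotientGroup.mk (x ^ i * y ^ j) : H ⧸ π.range) = 1 := by
          rw [QuotientGroup.eq_one_iff, hr]; exact (hR1 _).mpr ⟨r, rfl⟩
        exact h1
      obtain ⟨e⟩ := homocyclic_equiv (M := Additive H) hp ha1
        (fun z => congrArg Additive.ofMul (ha (Additive.toMul z)))
        (fun z hz => by
          obtain ⟨w, hw⟩ := hKer' (Additive.toMul z) (congrArg Additive.toMul hz)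
          exact ⟨Additive.ofMul w, congrArg Additive.ofMul hw⟩)
        (Additive.ofMul x) (Additive.ofMul y)
        (fun h => by
          obtain ⟨i, j, r, hr⟩ := hgen (Additive.toMul h)
          exact ⟨i, j, Additive.ofMul r, congrArg Additive.ofMul hr⟩)
        (fun i j ⟨r, hr⟩ => hind i j ⟨Additive.toMul r, congrArg Additive.toMul hr⟩)
      exact ⟨AddEquiv.toMultiplicativeRight e⟩
    · exfalso
      have hc1 : Nat.card X = p * Nat.card π.range ∧ Nat.card H = p * Nat.card X := by
        obtain ⟨t, ht⟩ := Subgroup.card_dvd_of_le hRX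
        obtain ⟨s, hs⟩ := Subgroup.card_subgroup_dvd_card X
        have hpos : 0 < Nat.card π.range := Nat.card_pos
        have hts : t * s = p ^ 2 := by
          rw [hs, ht, mul_assoc] at hcardH
          have h1 : Nat.card π.range * (t * s) = Nat.card π.range * p ^ 2 := by
            rw [hcardH]; ring
          exact Nat.eq_of_mul_eq_mul_left hpos h1
        have ht1 : t ≠ 1 := by
          rintro rfl
          rw [mul_one] at ht
          exact hXR (Subgroup.eq_of_le_of_card_ge hRX (by rw [ht])).symm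
        have hs1 : s ≠ 1 := by
          rintro rfl
          rw [mul_one] at hs
          exact hXtop (Subgroup.eq_top_of_card_eq X hs.symm)
        obtain ⟨i, hi, rfl⟩ := (Nat.dvd_prime_pow hp).mp (Dvd.intro s hts)
        have hi1 : i = 1 := by
          interval_cases i
          · exact absurd (pow_zero p) ht1
          · rfl
          · exfalso
            apply hs1
            have h1 : p ^ 2 * s = p ^ 2 * 1 := by rw [hts, mul_one]
            exact Nat.eq_of_mul_eq_mul_left (pow_pos hp.pos 2) h1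
        subst hi1
        rw [pow_one] at ht hts
        have hsp : s = p := by
          have h1 : p * s = p * p := by rw [hts]; ring
          exact Nat.eq_of_mul_eq_mul_left hp.pos h1
        exact ⟨by rw [ht, mul_comm], by rw [hs, hsp, mul_comm]⟩
      exact hchain X invX
        (cstep_of_card inferInstance le_top (by rw [Subgroup.card_top]; exact hc1.2))
        (cstep_of_card inferInstance hRX hc1.1)

end Cfsg.Agent.Lib.Helper1
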