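import Mathlib
import Cfsg.Agent.Lib.Helper7.PCore

set_option autoImplicit false
set_option maxHeartbeats 1000000

namespace Cfsg.Agent.Lib.Helper1

theorem dq_arith (q c i i' : ℕ) (h1 : c * c ≤ q) (h2 : i * i ≤ q) (h3 : q ≤ c * i') (h4 : i' ≤ i)
    (hq : 0 < q) : c * c = q ∧ i' = i := by
  have hc : 0 < c := by
    rcases Nat.eq_zero_or_pos c with h | h
    · subst h; simp at h3; omega
    · exact h
  have h5 : q ≤ c * i := le_trans h3 (Nat.mul_le_mul_left c h4)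
  have h6 : q * q ≤ (c * c) * q := by
    calc q * q ≤ (c * i) * (c * i) := Nat.mul_le_mul h5 h5
      _ = (c * c) * (i * i) := by ring
      _ ≤ (c * c) * q := Nat.mul_le_mul_left _ h2
  have h7 : q ≤ c * c := Nat.le_of_mul_le_mul_right h6 hq
  have h8 : c * c = q := le_antisymm h1 h7
  have h9 : i ≤ c := by
    by_contra hlt
    push_neg at hlt
    have : c * c < i * i := Nat.mul_self_lt_mul_self hlt
    omega
  have h10 : c ≤ i' := by
    have : c * c ≤ c * i' := by rw [h8]; exact h3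
    exact Nat.le_of_mul_le_mul_left this hc
  exact ⟨h8, by omega⟩

theorem dq_invol_aux {G : Type*} [Group G] (t t₁ s s₁ : G) (ht : t * t = 1) (ht₁ : t₁ * t₁ = 1)
    (hs : s * s = 1) (hs₁ : s₁ * s₁ = 1) (hy : t * s = t₁ * s₁) :
    (t * t₁) * (t * s) = (t * s) * (t * t₁) := by
  have e1 : s₁ = t₁ * t * s := by
    have : s₁ = t₁ * (t₁ * s₁) := by rw [← mul_assoc, ht₁, one_mul]
    rw [this, ← hy, mul_assoc]
  rw [e1] at hs₁
  have e2 : (t₁ * t * s)⁻¹ = t₁ * t * s := inv_eq_of_mul_eq_one_left hs₁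
  have ti : t⁻¹ = t := inv_eq_of_mul_eq_one_left ht
  have t₁i : t₁⁻¹ = t₁ := inv_eq_of_mul_eq_one_left ht₁
  have si : s⁻¹ = s := inv_eq_of_mul_eq_one_left hs
  have e3 : (t₁ * t * s)⁻¹ = s * t * t₁ := by
    rw [mul_inv_rev, mul_inv_rev, si, ti, t₁i, ← mul_assoc]
  have e4 : t₁ * t * s = s * t * t₁ := by rw [← e2, e3]
  calc (t * t₁) * (t * s) = t * (t₁ * t * s) := by simp only [mul_assoc]
    _ = t * (s * t * t₁) := by rw [e4]
    _ = (t * s) * (t * t₁) := by simp only [mul_assoc]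

theorem dq_invol_count {G : Type*} [Group G] [Finite G] (Q : Subgroup G) [hQn : Q.Normal] (a x : G)
    (ha2 : a * a = 1)
    (hw : ∀ q ∈ Q, q * (a * x * a * x⁻¹) = (a * x * a * x⁻¹) * q → q = 1) :
    Nat.card ↥(Q ⊓ Subgroup.centralizer ({a} : Set G)) ^ 2 = Nat.card ↥Q ∧
      ∀ q ∈ Q, (q * a) * (q * a) = 1 → ∃ u ∈ Q, q * a = u * a * u⁻¹ := by
  classical
  haveI : Fintype G := Fintype.ofFinite G
  have hainv : a⁻¹ = a := inv_eq_of_mul_eq_one_left ha2
  generalize hwdef : a * x * a * x⁻¹ = w at hw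
  have hfree : ∀ φ ∈ Q, ∀ u ∈ Q, u * (φ * w) = (φ * w) * u → u = 1 := by
    intro φ hφ u hu hcomm
    have hκmem : ∀ v : Q, (v : G) * w * (v : G)⁻¹ * w⁻¹ ∈ Q := by
      intro v
      have : (v : G) * w * (v : G)⁻¹ * w⁻¹ = (v : G) * (w * (v : G)⁻¹ * w⁻¹) := by group
      rw [this]
      exact Q.mul_mem v.2 (hQn.conj_mem _ (Q.inv_mem v.2) w)
    have hκinj : Function.Injective
        (fun v : Q => (⟨(v : G) * w * (v : G)⁻¹ * w⁻¹, hκmem v⟩ : Q)) := by
      intro v v' h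
      have h1 : (v : G) * w * (v : G)⁻¹ * w⁻¹ = (v' : G) * w * (v' : G)⁻¹ * w⁻¹ :=
        congrArg Subtype.val h
      have h3 : (v : G) * w * (v : G)⁻¹ = (v' : G) * w * (v' : G)⁻¹ := mul_right_cancel h1
      have h2 : ((v' : G)⁻¹ * v) * w = w * ((v' : G)⁻¹ * v) := by
        calc ((v' : G)⁻¹ * v) * w = (v' : G)⁻¹ * ((v : G) * w * (v : G)⁻¹) * v := by group
          _ = (v' : G)⁻¹ * ((v' : G) * w * (v' : G)⁻¹) * v := by rw [h3]
          _ = w * ((v' : G)⁻¹ * v) := by group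
      have h4 := hw _ (Q.mul_mem (Q.inv_mem v'.2) v.2) h2
      exact Subtype.ext (inv_mul_eq_one.mp h4).symm
    have hκsurj := Finite.surjective_of_injective hκinj
    obtain ⟨v, hv⟩ := hκsurj ⟨φ, hφ⟩
    have hv' : (v : G) * w * (v : G)⁻¹ * w⁻¹ = φ := congrArg Subtype.val hv
    have h5 : φ * w = (v : G) * w * (v : G)⁻¹ := by rw [← hv']; group
    rw [h5] at hcomm
    have h6 : ((v : G)⁻¹ * u * v) * w = w * ((v : G)⁻¹ * u * v) := by
      calc ((v : G)⁻¹ * u * v) * w = (v : G)⁻¹ * (u * ((v : G) * w * (v : G)⁻¹)) * v := by group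
        _ = (v : G)⁻¹ * (((v : G) * w * (v : G)⁻¹) * u) * v := by rw [hcomm]
        _ = w * ((v : G)⁻¹ * u * v) := by group
    have h7 := hw _ (by
      have : (v : G)⁻¹ * u * v = (v : G)⁻¹ * u * ((v : G)⁻¹)⁻¹ := by group
      rw [this]; exact hQn.conj_mem u hu _) h6
    have h8 : u = (v : G) * ((v : G)⁻¹ * u * v) * (v : G)⁻¹ := by group
    rw [h8, h7]; group
  generalize hQf : (Finset.univ.filter (· ∈ Q) : Finset G) = Qf
  have hQmem : ∀ g, g ∈ Qf ↔ g ∈ Q := by intro g; rw [← hQf]; simp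
  generalize hCf : Qf.filter (fun q => q * a = a * q) = Cf
  generalize hIf : Qf.filter (fun q => (q * a) * (q * a) = 1) = If
  have hCmem : ∀ g, g ∈ Cf ↔ g ∈ Q ∧ g * a = a * g := by
    intro g; rw [← hCf, Finset.mem_filter, hQmem]
  have hImem : ∀ g, g ∈ If ↔ g ∈ Q ∧ (g * a) * (g * a) = 1 := by
    intro g; rw [← hIf, Finset.mem_filter, hQmem]
  have h_i : Cf.card * Cf.card ≤ Qf.card := by
    rw [← Finset.card_product]
    apply Finset.card_le_card_of_injOn (fun cd : G × G => cd.1 * (x * cd.2 * x⁻¹))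
    · rintro ⟨c, d⟩ hcd
      rw [Finset.mem_coe, Finset.mem_product] at hcd
      rw [Finset.mem_coe, hQmem]
      exact Q.mul_mem ((hCmem c).mp hcd.1).1 (hQn.conj_mem _ ((hCmem d).mp hcd.2).1 x)
    · rintro ⟨c, d⟩ hcd ⟨c₁, d₁⟩ hcd₁ heq
      rw [Finset.mem_coe, Finset.mem_product] at hcd hcd₁
      obtain ⟨hcQ, hca⟩ := (hCmem c).mp hcd.1
      obtain ⟨hdQ, hda⟩ := (hCmem d).mp hcd.2
      obtain ⟨hc₁Q, hc₁a⟩ := (hCmem c₁).mp hcd₁.1
      obtain ⟨hd₁Q, hd₁a⟩ := (hCmem d₁).mp hcd₁.2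
      have heq' : c * (x * d * x⁻¹) = c₁ * (x * d₁ * x⁻¹) := heq
      have hg : c₁⁻¹ * c = x * (d₁ * d⁻¹) * x⁻¹ := by
        have : c₁⁻¹ * c = c₁⁻¹ * (c * (x * d * x⁻¹)) * (x * d * x⁻¹)⁻¹ := by group
        rw [this, heq']; group
      have hca' : Commute c a := hca
      have hc₁a' : Commute c₁ a := hc₁a
      have hda' : Commute d a := hda
      have hd₁a' : Commute d₁ a := hd₁a
      have hga : Commute (c₁⁻¹ * c) a := hc₁a'.inv_left.mul_left hca'
      have hgxa : Commute (c₁⁻¹ * c) (x * a * x⁻¹) := by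
        rw [hg]
        exact (Commute.conj_iff x).mpr (hd₁a'.mul_left hda'.inv_left)
      have hgw : (c₁⁻¹ * c) * w = w * (c₁⁻¹ * c) := by
        have hw' : w = a * (x * a * x⁻¹) := by rw [← hwdef]; group
        rw [hw']
        exact hga.mul_right hgxa
      have hg1 := hw _ (Q.mul_mem (Q.inv_mem hc₁Q) hcQ) hgw
      have hcc : c = c₁ := (inv_mul_eq_one.mp hg1).symm
      subst hcc
      have hdd : d = d₁ := by
        have h1 : x * d * x⁻¹ = x * d₁ * x⁻¹ := mul_left_cancel heq'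
        have : d = x⁻¹ * (x * d * x⁻¹) * x := by group
        rw [this, h1]; group
      rw [hdd]
  have key : ∀ p q : G, (p * a) * (x * (q * a) * x⁻¹) = p * (a * (x * q * x⁻¹) * a⁻¹) * w := by
    intro p q; rw [← hwdef]; group
  have h_ii : If.card * If.card ≤ Qf.card := by
    rw [← Finset.card_product]
    apply Finset.card_le_card_of_injOn (fun pq : G × G => pq.1 * (a * (x * pq.2 * x⁻¹) * a⁻¹))
    · rintro ⟨p, q⟩ hpq
      rw [Finset.mem_coe, Finset.mem_product] at hpq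
      rw [Finset.mem_coe, hQmem]
      exact Q.mul_mem ((hImem p).mp hpq.1).1
        (hQn.conj_mem _ (hQn.conj_mem _ ((hImem q).mp hpq.2).1 x) a)
    · rintro ⟨p, q⟩ hpq ⟨p₁, q₁⟩ hpq₁ heq
      rw [Finset.mem_coe, Finset.mem_product] at hpq hpq₁
      obtain ⟨hpQ, hp2⟩ := (hImem p).mp hpq.1
      obtain ⟨hqQ, hq2⟩ := (hImem q).mp hpq.2
      obtain ⟨hp₁Q, hp₁2⟩ := (hImem p₁).mp hpq₁.1
      obtain ⟨hq₁Q, hq₁2⟩ := (hImem q₁).mp hpq₁.2
      have heq' : p * (a * (x * q * x⁻¹) * a⁻¹) = p₁ * (a * (x * q₁ * x⁻¹) * a⁻¹) := heq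
      have hy : (p * a) * (x * (q * a) * x⁻¹) = (p₁ * a) * (x * (q₁ * a) * x⁻¹) := by
        rw [key, key, heq']
      have hs2 : (x * (q * a) * x⁻¹) * (x * (q * a) * x⁻¹) = 1 := by
        have : (x * (q * a) * x⁻¹) * (x * (q * a) * x⁻¹) = x * ((q * a) * (q * a)) * x⁻¹ := by
          group
        rw [this, hq2]; group
      have hs₁2 : (x * (q₁ * a) * x⁻¹) * (x * (q₁ * a) * x⁻¹) = 1 := by
        have : (x * (q₁ * a) * x⁻¹) * (x * (q₁ * a) * x⁻¹) =
            x * ((q₁ * a) * (q₁ * a)) * x⁻¹ := by group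
        rw [this, hq₁2]; group
      have hcomm := dq_invol_aux (p * a) (p₁ * a) (x * (q * a) * x⁻¹) (x * (q₁ * a) * x⁻¹)
        hp2 hp₁2 hs2 hs₁2 hy
      rw [key p q] at hcomm
      have huQ : (p * a) * (p₁ * a) ∈ Q := by
        have : (p * a) * (p₁ * a) = p * (a * p₁ * a⁻¹) := by rw [hainv]; group
        rw [this]; exact Q.mul_mem hpQ (hQn.conj_mem _ hp₁Q a)
      have hφQ : p * (a * (x * q * x⁻¹) * a⁻¹) ∈ Q :=
        Q.mul_mem hpQ (hQn.conj_mem _ (hQn.conj_mem _ hqQ x) a)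
      have hu1 := hfree _ hφQ _ huQ hcomm
      have hpp : p = p₁ := by
        have h1 : (p * a)⁻¹ = p₁ * a := inv_eq_of_mul_eq_one_right hu1
        have h2 : (p * a)⁻¹ = p * a := inv_eq_of_mul_eq_one_left hp2
        have h3 : p * a = p₁ * a := by rw [← h2, h1]
        exact mul_right_cancel h3
      subst hpp
      have hqq : q = q₁ := by
        have h1 : x * (q * a) * x⁻¹ = x * (q₁ * a) * x⁻¹ := mul_left_cancel hy
        have h2 : q * a = q₁ * a := by
          have : q * a = x⁻¹ * (x * (q * a) * x⁻¹) * x := by group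
          rw [this, h1]; group
        exact mul_right_cancel h2
      rw [hqq]
  have h_iii : Qf.card ≤ Cf.card * (Qf.image (fun u => u * a * u⁻¹ * a⁻¹)).card := by
    apply Finset.card_le_mul_card_image
    intro b hb
    obtain ⟨u₀, hu₀, rfl⟩ := Finset.mem_image.mp hb
    apply Finset.card_le_card_of_injOn (fun v => u₀⁻¹ * v)
    · intro v hv
      rw [Finset.mem_coe, Finset.mem_filter] at hv
      rw [Finset.mem_coe, hCmem]
      refine ⟨Q.mul_mem (Q.inv_mem ((hQmem u₀).mp hu₀)) ((hQmem v).mp hv.1), ?_⟩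
      have h1 : v * a * v⁻¹ = u₀ * a * u₀⁻¹ := mul_right_cancel hv.2
      calc u₀⁻¹ * v * a = u₀⁻¹ * (v * a * v⁻¹) * v := by group
        _ = u₀⁻¹ * (u₀ * a * u₀⁻¹) * v := by rw [h1]
        _ = a * (u₀⁻¹ * v) := by group
    · intro v _ v' _ h
      exact mul_left_cancel h
  have himg : Qf.image (fun u => u * a * u⁻¹ * a⁻¹) ⊆ If := by
    intro b hb
    obtain ⟨u, hu, rfl⟩ := Finset.mem_image.mp hb
    rw [hImem]
    have huQ := (hQmem u).mp hu
    refine ⟨?_, ?_⟩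
    · have : u * a * u⁻¹ * a⁻¹ = u * (a * u⁻¹ * a⁻¹) := by group
      rw [this]; exact Q.mul_mem huQ (hQn.conj_mem _ (Q.inv_mem huQ) a)
    · have : (u * a * u⁻¹ * a⁻¹ * a) * (u * a * u⁻¹ * a⁻¹ * a) = u * (a * a) * u⁻¹ := by group
      rw [this, ha2]; group
  have hQpos : 0 < Qf.card := Finset.card_pos.mpr ⟨1, (hQmem 1).mpr Q.one_mem⟩
  obtain ⟨hcq, hii⟩ := dq_arith _ _ _ _ h_i h_ii h_iii (Finset.card_le_card himg) hQpos
  have himgeq : Qf.image (fun u => u * a * u⁻¹ * a⁻¹) = If :=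
    Finset.eq_of_subset_of_card_le himg (le_of_eq hii.symm)
  have hcardQ : Nat.card ↥Q = Qf.card := by
    rw [Nat.card_eq_fintype_card]
    exact Fintype.card_of_subtype Qf hQmem
  have hcardC : Nat.card ↥(Q ⊓ Subgroup.centralizer ({a} : Set G)) = Cf.card := by
    rw [Nat.card_eq_fintype_card]
    apply Fintype.card_of_subtype Cf
    intro g
    rw [hCmem, Subgroup.mem_inf, Subgroup.mem_centralizer_iff]
    constructor
    · rintro ⟨h1, h2⟩
      refine ⟨h1, fun h hh => ?_⟩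
      rw [Set.mem_singleton_iff] at hh
      rw [hh]; exact h2.symm
    · rintro ⟨h1, h2⟩
      exact ⟨h1, (h2 a (Set.mem_singleton a)).symm⟩
  refine ⟨by rw [hcardC, hcardQ, pow_two, hcq], ?_⟩
  intro q hq hq2
  have hqI : q ∈ If := (hImem q).mpr ⟨hq, hq2⟩
  rw [← himgeq] at hqI
  obtain ⟨u, hu, hu'⟩ := Finset.mem_image.mp hqI
  refine ⟨u, (hQmem u).mp hu, ?_⟩
  rw [← hu']; group

theorem dq_main {G : Type*} [Group G] [Finite G] {r : ℕ} [Fact r.Prime] (hr : r ≠ 2)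
    [hN : (Cfsg.pCore 2 G).Normal]
    (hquot : Nonempty (G ⧸ Cfsg.pCore 2 G ≃* DihedralGroup r)) (R : Sylow r G)
    (hC : Cfsg.pCore 2 G ⊓ Subgroup.centralizer ((R : Subgroup G) : Set G) = ⊥) :
    Nonempty (↥(Subgroup.normalizer ((R : Subgroup G) : Set G)) ≃* DihedralGroup r) ∧
    ∀ a : G, a ∈ Subgroup.normalizer ((R : Subgroup G) : Set G) → orderOf a = 2 →
      (∀ b : G, orderOf b = 2 → b ∉ Cfsg.pCore 2 G → ∃ g : G, g * a * g⁻¹ = b) ∧
      Nat.card ↥(Cfsg.pCore 2 G ⊓ Subgroup.centralizer ({a} : Set G)) ^ 2 =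
        Nat.card ↥(Cfsg.pCore 2 G) := by
  classical
  have hrp : r.Prime := Fact.out
  haveI : Fact (Nat.Prime 2) := ⟨Nat.prime_two⟩
  haveI : NeZero r := ⟨hrp.ne_zero⟩
  obtain ⟨e⟩ := hquot
  set Q := Cfsg.pCore 2 G with hQdef
  have hQ2 : IsPGroup 2 Q := Cfsg.Agent.Lib.Helper7.pCore_isPGroup 2 G
  have hRQ : Disjoint (R : Subgroup G) Q := IsPGroup.disjoint_of_ne r 2 hr _ _ R.isPGroup' hQ2
  have hRQ' : ∀ g, g ∈ (R : Subgroup G) → g ∈ Q → g = 1 := by
    intro g h1 h2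
    have : g ∈ (R : Subgroup G) ⊓ Q := ⟨h1, h2⟩
    rw [hRQ.eq_bot] at this
    exact Subgroup.mem_bot.mp this
  have hcardG : Nat.card G = 2 * r * Nat.card Q := by
    rw [Subgroup.card_eq_card_quotient_mul_card_subgroup Q, Nat.card_congr e.toEquiv,
      DihedralGroup.nat_card]
  obtain ⟨k, hk⟩ := IsPGroup.iff_card.mp hQ2
  have hRne : (R : Subgroup G) ≠ ⊥ :=
    R.ne_bot_of_dvd_card (by rw [hcardG]; exact dvd_mul_of_dvd_left (dvd_mul_left r 2) _)
  have hRcard : Nat.card (R : Subgroup G) = r := by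
    obtain ⟨j, hj⟩ := IsPGroup.iff_card.mp R.isPGroup'
    have hdvd : r ^ j ∣ 2 * r * 2 ^ k := by
      rw [← hj, ← hk, ← hcardG]; exact Subgroup.card_subgroup_dvd_card _
    have hcop : Nat.Coprime (r ^ j) (2 ^ (k + 1)) :=
      Nat.Coprime.pow _ _ ((Nat.coprime_primes hrp Nat.prime_two).mpr hr)
    have hdvd' : r ^ j ∣ 2 ^ (k + 1) * r := by
      have : 2 * r * 2 ^ k = 2 ^ (k + 1) * r := by ring
      rw [← this]; exact hdvd
    have hdvd'' : r ^ j ∣ r ^ 1 := by rw [pow_one]; exact hcop.dvd_of_dvd_mul_left hdvd'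
    have hj1 : j ≤ 1 := (Nat.pow_dvd_pow_iff_le_right hrp.one_lt).mp hdvd''
    have hj0 : j ≠ 0 := by
      rintro rfl
      rw [pow_zero] at hj
      exact hRne (Subgroup.card_eq_one.mp hj)
    have : j = 1 := by omega
    rw [hj, this, pow_one]
  have hH'card : Nat.card (Subgroup.map (QuotientGroup.mk' Q) (R : Subgroup G)) = r := by
    have hinj : Function.Injective ((QuotientGroup.mk' Q).comp (R : Subgroup G).subtype) := by
      rw [injective_iff_map_eq_one]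
      intro y hy
      have h1 : (y : G) ∈ Q := (QuotientGroup.eq_one_iff (y : G)).mp hy
      exact Subtype.ext (hRQ' _ y.2 h1)
    have hrange : ((QuotientGroup.mk' Q).comp (R : Subgroup G).subtype).range =
        Subgroup.map (QuotientGroup.mk' Q) (R : Subgroup G) := by
      rw [MonoidHom.range_comp, Subgroup.range_subtype]
    rw [← hrange, ← Nat.card_congr (MonoidHom.ofInjective hinj).toEquiv, hRcard]
  have hH'idx : (Subgroup.map (QuotientGroup.mk' Q) (R : Subgroup G)).index = 2 := by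
    have h1 := Subgroup.card_mul_index (Subgroup.map (QuotientGroup.mk' Q) (R : Subgroup G))
    rw [hH'card, Nat.card_congr e.toEquiv, DihedralGroup.nat_card] at h1
    have : r * (Subgroup.map (QuotientGroup.mk' Q) (R : Subgroup G)).index = r * 2 := by
      rw [h1]; ring
    exact Nat.eq_of_mul_eq_mul_left hrp.pos this
  haveI hH'n : (Subgroup.map (QuotientGroup.mk' Q) (R : Subgroup G)).Normal :=
    Subgroup.normal_of_index_eq_two hH'idx
  have hKeq : Subgroup.comap (QuotientGroup.mk' Q)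
      (Subgroup.map (QuotientGroup.mk' Q) (R : Subgroup G)) = (R : Subgroup G) ⊔ Q := by
    rw [Subgroup.comap_map_eq, QuotientGroup.ker_mk']
  haveI hKn : ((R : Subgroup G) ⊔ Q).Normal := by rw [← hKeq]; infer_instance
  have hRK : (R : Subgroup G) ≤ (R : Subgroup G) ⊔ Q := le_sup_left
  have hfrat := Sylow.normalizer_sup_eq_top (R.subtype hRK)
  rw [Sylow.coe_subtype, Subgroup.map_subgroupOf_eq_of_le hRK] at hfrat
  have hNQ : Subgroup.normalizer ((R : Subgroup G) : Set G) ⊔ Q = ⊤ := by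
    rw [← hfrat, ← sup_assoc, sup_eq_left.mpr Subgroup.le_normalizer]
  have hNQbot : ∀ q, q ∈ Subgroup.normalizer ((R : Subgroup G) : Set G) → q ∈ Q → q = 1 := by
    intro q hqN hqQ
    have hcent : q ∈ Subgroup.centralizer ((R : Subgroup G) : Set G) := by
      rw [Subgroup.mem_centralizer_iff]
      intro y hy
      have hy' : y ∈ (R : Subgroup G) := hy
      have h1 : q * y * q⁻¹ ∈ (R : Subgroup G) := (Subgroup.mem_normalizer_iff.mp hqN y).mp hy'
      have h2 : q * y * q⁻¹ * y⁻¹ ∈ (R : Subgroup G) :=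
        Subgroup.mul_mem _ h1 (Subgroup.inv_mem _ hy')
      have h3 : q * y * q⁻¹ * y⁻¹ ∈ Q := by
        have : q * y * q⁻¹ * y⁻¹ = q * (y * q⁻¹ * y⁻¹) := by group
        rw [this]; exact Q.mul_mem hqQ (hN.conj_mem _ (Q.inv_mem hqQ) y)
      have h4 := hRQ' _ h2 h3
      have : y * q = (q * y * q⁻¹ * y⁻¹)⁻¹ * (q * y) := by group
      rw [this, h4]; group
    have : q ∈ Q ⊓ Subgroup.centralizer ((R : Subgroup G) : Set G) := ⟨hqQ, hcent⟩
    rw [hC] at this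
    exact Subgroup.mem_bot.mp this
  set N := Subgroup.normalizer ((R : Subgroup G) : Set G) with hNdef
  have hψinj : Function.Injective ((QuotientGroup.mk' Q).comp N.subtype) := by
    rw [injective_iff_map_eq_one]
    intro y hy
    have h1 : (y : G) ∈ Q := (QuotientGroup.eq_one_iff (y : G)).mp hy
    exact Subtype.ext (hNQbot _ y.2 h1)
  have hψsurj : Function.Surjective ((QuotientGroup.mk' Q).comp N.subtype) := by
    intro z
    obtain ⟨g, rfl⟩ := QuotientGroup.mk_surjective z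
    have hg : g ∈ N ⊔ Q := by rw [hNQ]; trivial
    rw [← SetLike.mem_coe, Subgroup.mul_normal N Q] at hg
    obtain ⟨n, hn, q, hq, rfl⟩ := Set.mem_mul.mp hg
    refine ⟨⟨n, hn⟩, ?_⟩
    show (QuotientGroup.mk n : G ⧸ Q) = QuotientGroup.mk (n * q)
    rw [QuotientGroup.mk_mul, (QuotientGroup.eq_one_iff q).mpr hq, mul_one]
  obtain ⟨ε⟩ : Nonempty (N ≃* DihedralGroup r) :=
    ⟨(MulEquiv.ofBijective _ ⟨hψinj, hψsurj⟩).trans e⟩
  refine ⟨⟨ε⟩, ?_⟩
  have hrefl : ∀ n : N, orderOf n = 2 → ∃ i, ε n = DihedralGroup.sr i := by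
    intro n hn
    have h1 : orderOf (ε n) = 2 := by rw [MulEquiv.orderOf_eq, hn]
    rcases hεn : ε n with i | i
    · exfalso
      rw [hεn, DihedralGroup.orderOf_r] at h1
      have h2 : r / r.gcd i.val ∣ r := Nat.div_dvd_of_dvd (Nat.gcd_dvd_left _ _)
      rw [h1] at h2
      exact hr ((Nat.prime_dvd_prime_iff_eq Nat.prime_two hrp).mp h2).symm
    · exact ⟨i, rfl⟩
  have hrot : ∀ n : N, n ^ r = 1 → ∃ j, ε n = DihedralGroup.r j := by
    intro n hn
    rcases hεn : ε n with j | j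
    · exact ⟨j, rfl⟩
    · exfalso
      have h1 : (ε n) ^ r = 1 := by rw [← map_pow, hn, map_one]
      rw [hεn] at h1
      have h2 : orderOf (DihedralGroup.sr j) ∣ r := orderOf_dvd_of_pow_eq_one h1
      rw [DihedralGroup.orderOf_sr] at h2
      exact hr ((Nat.prime_dvd_prime_iff_eq Nat.prime_two hrp).mp h2).symm
  intro a haN ha2
  have haa : a * a = 1 := by rw [← pow_two, ← ha2, pow_orderOf_eq_one]
  obtain ⟨i, hi⟩ := hrefl ⟨a, haN⟩ (by rw [Subgroup.orderOf_mk]; exact ha2)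
  obtain ⟨⟨x, hxR⟩, hx1⟩ := (Subgroup.ne_bot_iff_exists_ne_one).mp hRne
  have hx1' : x ≠ 1 := fun h => hx1 (Subtype.ext h)
  have hxN : x ∈ N := Subgroup.le_normalizer hxR
  have hxr : x ^ r = 1 := by
    have h1 : (⟨x, hxR⟩ : (R : Subgroup G)) ^ Nat.card (R : Subgroup G) = 1 := pow_card_eq_one'
    rw [hRcard] at h1
    simpa using congrArg Subtype.val h1
  obtain ⟨j, hj⟩ := hrot ⟨x, hxN⟩ (Subtype.ext (by simpa using hxr))
  have hax : a * x * a * x = 1 := by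
    have h1 : ε ((⟨a, haN⟩ : N) * ⟨x, hxN⟩ * ⟨a, haN⟩ * ⟨x, hxN⟩) = 1 := by
      rw [map_mul, map_mul, map_mul, hi, hj, DihedralGroup.sr_mul_r, DihedralGroup.sr_mul_sr,
        DihedralGroup.r_mul_r]
      have : i - (i + j) + j = 0 := by ring
      rw [this]; exact DihedralGroup.one_def.symm
    have h2 := ε.injective (h1.trans (map_one ε).symm)
    simpa using congrArg Subtype.val h2
  have haxa : a * x * a = x⁻¹ := eq_inv_of_mul_eq_one_left hax
  have hwR : a * x * a * x⁻¹ ∈ (R : Subgroup G) := by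
    rw [haxa]
    exact Subgroup.mul_mem _ (Subgroup.inv_mem _ hxR) (Subgroup.inv_mem _ hxR)
  have hw1 : a * x * a * x⁻¹ ≠ 1 := by
    intro h
    rw [haxa] at h
    have h2 : x * x = 1 := by
      rw [← inv_eq_one, mul_inv_rev]; exact h
    have h3 : orderOf x ∣ 2 := orderOf_dvd_of_pow_eq_one (by rw [pow_two]; exact h2)
    have h4 : orderOf x ∣ r := orderOf_dvd_of_pow_eq_one hxr
    have h5 : orderOf x ∣ Nat.gcd 2 r := Nat.dvd_gcd h3 h4
    rw [Nat.Coprime.gcd_eq_one ((Nat.coprime_primes Nat.prime_two hrp).mpr (Ne.symm hr))] at h5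
    exact hx1' (orderOf_eq_one_iff.mp (Nat.dvd_one.mp h5))
  have hCw : ∀ q ∈ Q, q * (a * x * a * x⁻¹) = (a * x * a * x⁻¹) * q → q = 1 := by
    intro q hq hcomm
    generalize a * x * a * x⁻¹ = w at hwR hw1 hcomm
    have hcent : q ∈ Subgroup.centralizer ((R : Subgroup G) : Set G) := by
      rw [Subgroup.mem_centralizer_iff]
      intro y hy
      have hy' : y ∈ (R : Subgroup G) := hy
      have hz := zpowers_eq_top_of_prime_card (G := (R : Subgroup G)) (p := r) hRcard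
        (g := ⟨w, hwR⟩) (fun h => hw1 (congrArg Subtype.val h))
      have hmem : (⟨y, hy'⟩ : (R : Subgroup G)) ∈
          Subgroup.zpowers (⟨w, hwR⟩ : (R : Subgroup G)) := by rw [hz]; trivial
      obtain ⟨m, hm⟩ := Subgroup.mem_zpowers_iff.mp hmem
      have hm' : w ^ m = y := by simpa using congrArg Subtype.val hm
      rw [← hm']
      exact (Commute.zpow_left (show Commute w q from hcomm.symm) m).eq
    have : q ∈ Q ⊓ Subgroup.centralizer ((R : Subgroup G) : Set G) := ⟨hq, hcent⟩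
    rw [hC] at this
    exact Subgroup.mem_bot.mp this
  obtain ⟨hcount, hconj⟩ := dq_invol_count Q a x haa hCw
  refine ⟨?_, hcount⟩
  intro b hb2 hbQ
  have hbb : b * b = 1 := by rw [← pow_two, ← hb2, pow_orderOf_eq_one]
  have hb' : b ∈ N ⊔ Q := by rw [hNQ]; trivial
  rw [← SetLike.mem_coe, Subgroup.mul_normal N Q] at hb'
  obtain ⟨n, hn, q, hq, rfl⟩ := Set.mem_mul.mp hb'
  have hnn : n * n = 1 := by
    apply hNQbot _ (N.mul_mem hn hn)
    have : n * n = (n * q * (n * q)) * (q⁻¹ * (n⁻¹ * q⁻¹ * n⁻¹⁻¹)) := by group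
    rw [this, hbb, one_mul]
    exact Q.mul_mem (Q.inv_mem hq) (hN.conj_mem _ (Q.inv_mem hq) _)
  have hn1 : n ≠ 1 := by
    rintro rfl
    rw [one_mul] at hbQ
    exact hbQ hq
  have hno : orderOf (⟨n, hn⟩ : N) = 2 := by
    rw [Subgroup.orderOf_mk]
    exact orderOf_eq_prime (by rw [pow_two]; exact hnn) hn1
  obtain ⟨i', hi'⟩ := hrefl ⟨n, hn⟩ hno
  have h2ne : (2 : ZMod r) ≠ 0 := by
    intro h
    have h' : ((2 : ℕ) : ZMod r) = 0 := by exact_mod_cast h
    rw [ZMod.natCast_eq_zero_iff] at h'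
    have h3 := Nat.le_of_dvd (by norm_num) h'
    have h4 := hrp.two_le
    omega
  obtain ⟨kk, hkk2⟩ : ∃ kk : ZMod r, kk + kk = i - i' := by
    refine ⟨(i - i') * (2 : ZMod r)⁻¹, ?_⟩
    rw [← two_mul, mul_comm (i - i'), ← mul_assoc, mul_inv_cancel₀ h2ne, one_mul]
  have hρ : DihedralGroup.r kk * DihedralGroup.sr i = DihedralGroup.sr i' * DihedralGroup.r kk := by
    rw [DihedralGroup.r_mul_sr, DihedralGroup.sr_mul_r]
    congr 1
    linear_combination (-1 : ZMod r) * hkk2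
  obtain ⟨ρ, hρ'⟩ : ∃ ρ : N, ε ρ = DihedralGroup.r kk :=
    ⟨ε.symm (DihedralGroup.r kk), ε.apply_symm_apply _⟩
  have hconj1 : ρ * ⟨a, haN⟩ = ⟨n, hn⟩ * ρ := by
    apply ε.injective
    rw [map_mul, map_mul, hρ', hi, hi', hρ]
  have hconj2 : (ρ : G) * a = n * ρ := congrArg Subtype.val hconj1
  have hq3 : a * ((ρ : G)⁻¹ * q * (ρ : G)⁻¹⁻¹) * a⁻¹ ∈ Q :=
    hN.conj_mem _ (hN.conj_mem _ hq _) a
  have hq3a : a * ((ρ : G)⁻¹ * q * (ρ : G)⁻¹⁻¹) * a⁻¹ * a = (ρ : G)⁻¹ * (n * q) * ρ := by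
    have h1 : n = (ρ : G) * a * (ρ : G)⁻¹ := by rw [hconj2]; group
    rw [h1]; group
  have hq3sq : (a * ((ρ : G)⁻¹ * q * (ρ : G)⁻¹⁻¹) * a⁻¹ * a) *
      (a * ((ρ : G)⁻¹ * q * (ρ : G)⁻¹⁻¹) * a⁻¹ * a) = 1 := by
    rw [hq3a]
    have : (ρ : G)⁻¹ * (n * q) * ρ * ((ρ : G)⁻¹ * (n * q) * ρ) =
        (ρ : G)⁻¹ * ((n * q) * (n * q)) * ρ := by group
    rw [this, hbb]; group
  obtain ⟨u, huQ, hu⟩ := hconj _ hq3 hq3sq
  refine ⟨(ρ : G) * u, ?_⟩
  have : (ρ : G) * u * a * ((ρ : G) * u)⁻¹ = (ρ : G) * (u * a * u⁻¹) * (ρ : G)⁻¹ := by group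
  rw [this, ← hu, hq3a]; group

end Cfsg.Agent.Lib.Helper1
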