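import Mathlib
import Cfsg.Prelude.Def_FusionSystem
import Cfsg.Agent.Lib.Helper1.FusNormal
import Cfsg.Agent.Lib.Helper6.PResidual
import Cfsg.Agent.S5076

/-! Focal and hyperfocal subgroups of saturated fusion systems. -/

set_option autoImplicit false

namespace Cfsg.Agent.Lib.Helper1

open Cfsg Cfsg.Agent.Lib.Helper8 Cfsg.Agent.Lib.Helper7
open scoped commutatorElement

variable {Ω : Type*} [Group Ω] {S : Subgroup Ω}

theorem fs_fullyNormalized_top [Finite S] (F : FusionSystem S) : F.IsFullyNormalized S := by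
  refine ⟨le_rfl, fun Q _ => ?_⟩
  have e : FusionSystem.normalizerIn S S = S := inf_eq_left.mpr Subgroup.le_normalizer
  rw [e]
  exact Subgroup.card_le_of_le inf_le_left

theorem fs_fullyAutomized_of_top_or_essential [Finite S] (p : ℕ) [Fact p.Prime]
    (hS : IsPGroup p S) (F : FusionSystem S) (hF : F.IsSaturated p) (P : Subgroup Ω)
    (hP : P = S ∨ F.IsEssential p P) : F.IsFullyAutomized p P := by
  rcases hP with rfl | hess
  · exact fs_fullyAutomized_of_fullyNormalized p hS F hF _ (fs_fullyNormalized_top F)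
  · exact fs_fullyAutomized_of_fullyNormalized p hS F hF _ hess.2.1

/-- for a fully automized `P`, every element of `Aut_F(P)` is the product of an element of
`O^p(Aut_F(P))` and a conjugation by an element of `N_S(P)` -/
theorem fs_aut_decomp [Finite S] (p : ℕ) [Fact p.Prime] (F : FusionSystem S) (P : Subgroup Ω)
    (hP : F.IsFullyAutomized p P) (α : MulAut P) (hα : α ∈ F.autGroup P) :
    ∃ r : F.autGroup P, r ∈ pResidual p (F.autGroup P) ∧ ∃ g ∈ S,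
      ∃ hg : g ∈ Subgroup.normalizer (P : Set Ω),
        α = (r : MulAut P) * P.normalizerMonoidHom ⟨g, hg⟩ := by
  obtain ⟨hPS, R, hR⟩ := hP
  haveI : Finite P := fs_finite_of_le hPS
  haveI : Finite ↥(F.autGroup P) := inferInstance
  obtain ⟨r, hr, s, hs, hrs⟩ := Cfsg.Agent.Lib.Helper6.pres_exists_mul R ⟨α, hα⟩
  have h1 : s ∈ (R : Subgroup ↥(F.autGroup P)) := hs
  rw [hR, Subgroup.mem_subgroupOf, Cfsg.Agent.S5076.autInducedBy_eq_map] at h1
  obtain ⟨n, hn, hns⟩ := h1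
  refine ⟨r, hr, (n : Ω), Subgroup.mem_subgroupOf.mp hn, n.2, ?_⟩
  have h2 : α = (r : MulAut P) * (s : MulAut P) := congrArg Subtype.val hrs
  rw [h2, ← hns]

theorem pResidual_map_le {G H : Type*} [Group G] [Group H] (p : ℕ) (f : G →* H) :
    (pResidual p G).map f ≤ pResidual p H := by
  unfold pResidual
  rw [MonoidHom.map_closure, Subgroup.closure_le]
  rintro _ ⟨g, hg, rfl⟩
  apply Subgroup.subset_closure
  exact Nat.Coprime.coprime_dvd_left (orderOf_map_dvd f g) hg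

theorem fs_hyp_le (F : FusionSystem S) (p : ℕ) : F.hyperfocalSubgroup p ≤ S := by
  unfold FusionSystem.hyperfocalSubgroup
  rw [Subgroup.closure_le]
  rintro y ⟨P, α, x, hPS, -, rfl⟩
  exact S.mul_mem (S.inv_mem (hPS x.2)) (hPS ((α : MulAut P) x).2)

theorem fs_hyp_conj_mem (F : FusionSystem S) (p : ℕ) {s : Ω} (hs : s ∈ S) {y : Ω}
    (hy : y ∈ F.hyperfocalSubgroup p) : s * y * s⁻¹ ∈ F.hyperfocalSubgroup p := by
  have hle : F.hyperfocalSubgroup p ≤
      (F.hyperfocalSubgroup p).comap (MulAut.conj s).toMonoidHom := by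
    conv_lhs => unfold FusionSystem.hyperfocalSubgroup
    rw [Subgroup.closure_le]
    rintro y ⟨P, α, x, hPS, hα, rfl⟩
    show s * ((x : Ω)⁻¹ * ((α : MulAut P) x : P)) * s⁻¹ ∈ F.hyperfocalSubgroup p
    have hinj : Function.Injective (MulAut.conj s).toMonoidHom := (MulAut.conj s).injective
    have hP'S : P.map (MulAut.conj s).toMonoidHom ≤ S := by
      rintro _ ⟨z, hz, rfl⟩
      exact S.mul_mem (S.mul_mem hs (hPS hz)) (S.inv_mem hs)
    have hcong : ∀ a : ↥(F.autGroup P),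
        MulAut.congr (P.equivMapOfInjective _ hinj) (a : MulAut P) ∈
          F.autGroup (P.map (MulAut.conj s).toMonoidHom) := fun a =>
      fs_autGroup_congr F hPS hP'S (conjHom P s) (F.conj_mem hPS hs)
        (P.equivMapOfInjective _ hinj) (fun x => rfl) a a.2
    let f : ↥(F.autGroup P) →* ↥(F.autGroup (P.map (MulAut.conj s).toMonoidHom)) :=
      ((MulAut.congr (P.equivMapOfInjective _ hinj)).toMonoidHom.comp
        (F.autGroup P).subtype).codRestrict _ hcong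
    have hfα : f α ∈ pResidual p ↥(F.autGroup (P.map (MulAut.conj s).toMonoidHom)) :=
      pResidual_map_le p f ⟨α, hα, rfl⟩
    apply Subgroup.subset_closure
    refine ⟨P.map (MulAut.conj s).toMonoidHom, f α, P.equivMapOfInjective _ hinj x, hP'S, hfα, ?_⟩
    have e1 : ((f α : MulAut ↥(P.map (MulAut.conj s).toMonoidHom))
        (P.equivMapOfInjective _ hinj x)) = P.equivMapOfInjective _ hinj ((α : MulAut P) x) := by
      show (P.equivMapOfInjective _ hinj) ((α : MulAut P)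
        ((P.equivMapOfInjective _ hinj).symm (P.equivMapOfInjective _ hinj x))) = _
      rw [MulEquiv.symm_apply_apply]
    rw [e1]
    show s * ((x : Ω)⁻¹ * ((α : MulAut P) x : P)) * s⁻¹ =
      (s * (x : Ω) * s⁻¹)⁻¹ * (s * (((α : MulAut P) x : P) : Ω) * s⁻¹)
    group
  exact hle hy

/-- the maps `φ` with `x⁻¹ φ(x) ∈ N` for all `x` form a fusion system when `[S,S] ≤ N` -/
def fs_focSys (F : FusionSystem S) (N : Subgroup Ω) (hN : ⁅S, S⁆ ≤ N) : FusionSystem S where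
  Hom P := {φ | φ ∈ F.Hom P ∧ ∀ x : P, (x : Ω)⁻¹ * φ x ∈ N}
  le_of_mem h := F.le_of_mem h.1
  injective_of_mem h := F.injective_of_mem h.1
  conj_mem := by
    intro P g hP hg
    refine ⟨F.conj_mem hP hg, fun x => ?_⟩
    have h := Subgroup.commutator_mem_commutator (S.inv_mem (hP x.2)) hg
    have e : (x : Ω)⁻¹ * conjHom P g x = ⁅(x : Ω)⁻¹, g⁆ := by
      rw [commutatorElement_def]
      show (x : Ω)⁻¹ * (g * x * g⁻¹) = _
      group
    rw [e]; exact hN h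
  comp_mem := by
    intro P Q φ ψ hφ hψ h
    refine ⟨F.comp_mem hφ.1 hψ.1 h, fun x => ?_⟩
    have e : (x : Ω)⁻¹ * (ψ.comp (φ.codRestrict Q h)) x =
        ((x : Ω)⁻¹ * φ x) * ((φ x)⁻¹ * ψ ⟨φ x, h x⟩) := by
      show (x : Ω)⁻¹ * ψ ⟨φ x, h x⟩ = _
      group
    rw [e]; exact N.mul_mem (hφ.2 x) (hψ.2 ⟨φ x, h x⟩)
  inv_mem := by
    intro P φ hφ
    obtain ⟨ψ, hψ, hψφ⟩ := F.inv_mem hφ.1
    refine ⟨ψ, ⟨hψ, ?_⟩, hψφ⟩
    rintro ⟨_, x, rfl⟩
    rw [hψφ x]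
    have := N.inv_mem (hφ.2 x)
    simpa using this

/-- the maps `φ` with `φ(x) ∈ s x s⁻¹ N` for all `x` (some `s ∈ S`) form a fusion system when
`S` normalizes `N` -/
def fs_hypSys (F : FusionSystem S) (N : Subgroup Ω)
    (hN : ∀ s ∈ S, ∀ y ∈ N, s * y * s⁻¹ ∈ N) : FusionSystem S where
  Hom P := {φ | φ ∈ F.Hom P ∧ ∃ s ∈ S, ∀ x : P, (s * (x : Ω) * s⁻¹)⁻¹ * φ x ∈ N}
  le_of_mem h := F.le_of_mem h.1
  injective_of_mem h := F.injective_of_mem h.1
  conj_mem := by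
    intro P g hP hg
    refine ⟨F.conj_mem hP hg, g, hg, fun x => ?_⟩
    have e : (g * (x : Ω) * g⁻¹)⁻¹ * conjHom P g x = 1 := by
      show (g * (x : Ω) * g⁻¹)⁻¹ * (g * x * g⁻¹) = 1
      group
    rw [e]; exact N.one_mem
  comp_mem := by
    rintro P Q φ ψ ⟨hφ, s, hs, hφs⟩ ⟨hψ, t, ht, hψt⟩ h
    refine ⟨F.comp_mem hφ hψ h, t * s, S.mul_mem ht hs, fun x => ?_⟩
    have e : (t * s * (x : Ω) * (t * s)⁻¹)⁻¹ * (ψ.comp (φ.codRestrict Q h)) x =
        (t * ((s * (x : Ω) * s⁻¹)⁻¹ * φ x) * t⁻¹) * ((t * φ x * t⁻¹)⁻¹ * ψ ⟨φ x, h x⟩) := by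
      show (t * s * (x : Ω) * (t * s)⁻¹)⁻¹ * ψ ⟨φ x, h x⟩ = _
      group
    rw [e]; exact N.mul_mem (hN t ht _ (hφs x)) (hψt ⟨φ x, h x⟩)
  inv_mem := by
    rintro P φ ⟨hφ, s, hs, hφs⟩
    obtain ⟨ψ, hψ, hψφ⟩ := F.inv_mem hφ
    refine ⟨ψ, ⟨hψ, s⁻¹, S.inv_mem hs, ?_⟩, hψφ⟩
    rintro ⟨_, x, rfl⟩
    rw [hψφ x]
    have h1 := hN s⁻¹ (S.inv_mem hs) _ (N.inv_mem (hφs x))
    have e : (s⁻¹ * φ x * s⁻¹⁻¹)⁻¹ * (x : Ω) =
        s⁻¹ * ((s * (x : Ω) * s⁻¹)⁻¹ * φ x)⁻¹ * s⁻¹⁻¹ := by group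
    show (s⁻¹ * φ x * s⁻¹⁻¹)⁻¹ * (x : Ω) ∈ N
    rw [e]; exact h1

end Cfsg.Agent.Lib.Helper1
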