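import Mathlib
import Cfsg.Prelude.Def_FusionComponents
import Cfsg.Agent.Lib.Helper1.FusStab
import Cfsg.Agent.Lib.Helper1.FusHyp
import Cfsg.Agent.Lib.Helper1.FusSat2
import Cfsg.Agent.Lib.Helper6.PCore
import Cfsg.Agent.S5086
import Cfsg.Agent.S5088
import Cfsg.Agent.Lib.Helper1.FusQuot

/-! Normal `p`-subgroups of automizers; the core of a constrained system is radical. -/

set_option autoImplicit false

namespace Cfsg.Agent.Lib.Helper1

open Cfsg Cfsg.Agent.Lib.Helper8 Cfsg.Agent.Lib.Helper7 FusionSystem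

variable {Ω : Type*} [Group Ω] {S : Subgroup Ω}

/-- restriction `Aut_F(P) → Aut_F(Q)` for a strongly closed `Q ≤ P` -/
def fs_resHom (F : FusionSystem S) {P Q : Subgroup Ω} (hPS : P ≤ S) (hQP : Q ≤ P)
    (hQ : F.StronglyClosed Q) : ↥(F.autGroup P) →* ↥(F.autGroup Q) where
  toFun β := ⟨restrictAut Q hQP (β : MulAut P)
      (fun x hx => fs_aut_stronglyClosed F Q hQ P hPS _ β.2 x hx)
      (fun x hx => fs_aut_stronglyClosed F Q hQ P hPS _ (Subgroup.inv_mem _ β.2) x hx),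
    restrictAut_mem F hPS Q hQP _ β.2 _ _⟩
  map_one' := Subtype.ext (MulEquiv.ext (fun q => Subtype.ext rfl))
  map_mul' β₁ β₂ := Subtype.ext (MulEquiv.ext (fun q => Subtype.ext rfl))

theorem fs_resHom_apply (F : FusionSystem S) {P Q : Subgroup Ω} (hPS : P ≤ S) (hQP : Q ≤ P)
    (hQ : F.StronglyClosed Q) (β : F.autGroup P) (q : Q) :
    (((fs_resHom F hPS hQP hQ β : F.autGroup Q) : MulAut Q) q : Ω) =
      (((β : MulAut P) ⟨q, hQP q.2⟩ : P) : Ω) := rfl

/-- conjugation by an element of a strongly closed `T` centralizing `P ∩ T` lies in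
`O_p(Aut_F(P))` -/
theorem fs_nmh_mem_pCore [Finite S] (p : ℕ) [Fact p.Prime] (hS : IsPGroup p S)
    (F : FusionSystem S) (T : Subgroup Ω) (hT : F.StronglyClosed T) (P : Subgroup Ω)
    (hPS : P ≤ S) (n : Ω) (hn : n ∈ Subgroup.normalizer (P : Set Ω)) (hnT : n ∈ T)
    (hnc : ∀ y ∈ P, y ∈ T → n * y = y * n) :
    P.normalizerMonoidHom ⟨n, hn⟩ ∈
      (pCore p ↥(F.autGroup P)).map (F.autGroup P).subtype := by
  have hTn := fs_stronglyClosed_normal F T hT
  haveI : Finite P := fs_finite_of_le hPS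
  have hinv : ∀ γ ∈ F.autGroup P, ∀ x ∈ T.subgroupOf P, γ x ∈ T.subgroupOf P :=
    fun γ hγ x hx => Subgroup.mem_subgroupOf.mpr
      (fs_aut_stronglyClosed F T hT P hPS γ hγ x (Subgroup.mem_subgroupOf.mp hx))
  have hKn : ((F.autGroup P ⊓ stabSub (T.subgroupOf P) ⊤ le_top ⊓
      stabSub ((⊥ : Subgroup Ω).subgroupOf P) (T.subgroupOf P)
        (Subgroup.subgroupOf_mono P bot_le)).subgroupOf (F.autGroup P)).Normal := by
    constructor
    intro w hw a
    rw [Subgroup.mem_subgroupOf] at hw ⊢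
    obtain ⟨hw12, hw3⟩ := Subgroup.mem_inf.mp hw
    obtain ⟨hw1, hw2⟩ := Subgroup.mem_inf.mp hw12
    refine Subgroup.mem_inf.mpr ⟨Subgroup.mem_inf.mpr ⟨?_, ?_⟩, ?_⟩
    · exact (a * w * a⁻¹).2
    · exact stabSub_conj _ _ _ (a : MulAut P) (hinv a a.2) (fun x _ => Subgroup.mem_top _) hw2
    · refine stabSub_conj _ _ _ (a : MulAut P) (fun x hx => ?_)
        (fun x hx => hinv _ (inv_mem a.2) x hx) hw3
      rw [Subgroup.mem_subgroupOf, Subgroup.mem_bot] at hx ⊢
      have hx1 : x = 1 := Subtype.ext hx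
      rw [hx1, map_one]; rfl
  have hKp : IsPGroup p ↥(F.autGroup P ⊓ stabSub (T.subgroupOf P) ⊤ le_top ⊓
      stabSub ((⊥ : Subgroup Ω).subgroupOf P) (T.subgroupOf P)
        (Subgroup.subgroupOf_mono P bot_le)) := by
    apply isPGroup_of_forall_pow
    intro α hα
    obtain ⟨hα12, hα3⟩ := Subgroup.mem_inf.mp hα
    obtain ⟨hα1, hα2⟩ := Subgroup.mem_inf.mp hα12
    have hm : ∀ x ∈ T.subgroupOf P, (α ^ 1) x = x := by
      intro x hx
      have h := (hα3 x hx).1
      rw [Subgroup.mem_subgroupOf, Subgroup.mem_bot] at h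
      have h' : x⁻¹ * α x = 1 := Subtype.ext h
      rw [pow_one]; exact (inv_mul_eq_one.mp h').symm
    have h1 := stab_step α (T.subgroupOf P) ⊤ le_top (fun x hx => (hα2 x hx).1) 1 hm
    obtain ⟨k, hk⟩ := IsPGroup.iff_card.mp ((hS.to_le hPS).to_subgroup (T.subgroupOf P))
    refine ⟨k, ?_⟩
    ext x
    have h2 := h1 x (Subgroup.mem_top x)
    rw [one_mul, hk] at h2
    rw [h2]; rfl
  have hmem : P.normalizerMonoidHom ⟨n, hn⟩ ∈ F.autGroup P ⊓ stabSub (T.subgroupOf P) ⊤ le_top ⊓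
      stabSub ((⊥ : Subgroup Ω).subgroupOf P) (T.subgroupOf P)
        (Subgroup.subgroupOf_mono P bot_le) := by
    refine Subgroup.mem_inf.mpr ⟨Subgroup.mem_inf.mpr ⟨?_, ?_⟩, ?_⟩
    · exact fs_nmh_mem_autGroup F hPS ⟨n, hn⟩ (hT.1 hnT)
    · exact nmh_mem_stabSub_top T (hPS.trans hTn) n hn hnT
    · apply nmh_mem_stabSub ⊥ T bot_le n hn
      intro x hx hxT
      have h1 := hnc x hx hxT
      constructor
      · rw [Subgroup.mem_bot, h1]; group
      · rw [Subgroup.mem_bot]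
        have h2 : n⁻¹ * x = x * n⁻¹ := by
          calc n⁻¹ * x = n⁻¹ * (x * n) * n⁻¹ := by group
            _ = n⁻¹ * (n * x) * n⁻¹ := by rw [h1]
            _ = x * n⁻¹ := by group
        rw [h2]; group
  have hle := le_pCore hKn hKp.comap_subtype
  have hmemA : P.normalizerMonoidHom ⟨n, hn⟩ ∈ F.autGroup P := (Subgroup.mem_inf.mp
    (Subgroup.mem_inf.mp hmem).1).1
  exact ⟨⟨_, hmemA⟩, hle (Subgroup.mem_subgroupOf.mpr hmem), rfl⟩

/-- if `O_p(F)` is centric, an element of `S` inducing on it an automorphism in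
`O_p(Aut_F(O_p(F)))` lies in it -/
theorem fs_core_radical [Finite S] (p : ℕ) [Fact p.Prime] (hS : IsPGroup p S)
    (F : FusionSystem S) (hF : F.IsSaturated p)
    (hcen : centralizerIn S F.core ≤ F.core) (s : Ω) (hsS : s ∈ S)
    (hs : s ∈ Subgroup.normalizer (F.core : Set Ω))
    (h : F.core.normalizerMonoidHom ⟨s, hs⟩ ∈
      (pCore p ↥(F.autGroup F.core)).map (F.autGroup F.core).subtype) : s ∈ F.core := by
  have hQ : F.IsNormal F.core := fs_core_normal F
  have hQsc := fs_normal_stronglyClosed F F.core hQ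
  have hQS := hQ.1
  have hQn : S ≤ Subgroup.normalizer (F.core : Set Ω) := fs_stronglyClosed_normal F _ hQsc
  haveI : Finite F.core := fs_finite_of_le hQS
  let c : ↥S →* ↥(F.autGroup F.core) :=
    (F.core.normalizerMonoidHom.comp (Subgroup.inclusion hQn)).codRestrict _
      (fun s => fs_nmh_mem_autGroup F hQS (Subgroup.inclusion hQn s) s.2)
  have hc : ∀ (s : S) (q : F.core),
      ((((c s : F.autGroup F.core) : MulAut F.core) q : F.core) : Ω) =
        (s : Ω) * q * (s : Ω)⁻¹ := fun s q => rfl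
  have hpn : (pCore p ↥(F.autGroup F.core)).Normal := pCore_normal p _
  have hRS : ((pCore p ↥(F.autGroup F.core)).comap c).map S.subtype ≤ S := by
    rintro _ ⟨s, -, rfl⟩; exact s.2
  have hRsc : F.StronglyClosed (((pCore p ↥(F.autGroup F.core)).comap c).map S.subtype) := by
    refine ⟨hRS, fun P hP φ hφ x => ?_⟩
    obtain ⟨ψ, hψ, hψP, hψQ⟩ := hQ.2 P φ hφ
    obtain ⟨sx, hsx, esx⟩ := hP x.2
    have hφS : φ x ∈ S := (F.le_of_mem hφ).2 x
    refine ⟨⟨φ x, hφS⟩, ?_, rfl⟩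
    show c ⟨φ x, hφS⟩ ∈ pCore p ↥(F.autGroup F.core)
    have hψQ' : ∀ q : F.core,
        (ψ.comp (Subgroup.inclusion (le_sup_right : F.core ≤ P ⊔ F.core))) q ∈ F.core := by
      intro q
      exact hψQ.le ⟨Subgroup.inclusion le_sup_right q, Subgroup.mem_subgroupOf.mpr q.2, rfl⟩
    obtain ⟨β, hβ, hβv⟩ := fs_aut_of_hom F hQS (fs_restrict F le_sup_right hψ) hψQ'
    have hcomm : c ⟨φ x, hφS⟩ * ⟨β, hβ⟩ = ⟨β, hβ⟩ * c sx := by
      apply Subtype.ext
      ext q
      show ((((c ⟨φ x, hφS⟩ : F.autGroup F.core) : MulAut F.core) (β q) : F.core) : Ω) =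
        ((β (((c sx : F.autGroup F.core) : MulAut F.core) q) : F.core) : Ω)
      rw [hc, hβv, hβv]
      have e : Subgroup.inclusion (le_sup_right : F.core ≤ P ⊔ F.core)
          (((c sx : F.autGroup F.core) : MulAut F.core) q) =
          Subgroup.inclusion (le_sup_left : P ≤ P ⊔ F.core) x *
            Subgroup.inclusion le_sup_right q *
            (Subgroup.inclusion (le_sup_left : P ≤ P ⊔ F.core) x)⁻¹ := by
        apply Subtype.ext
        show ((((c sx : F.autGroup F.core) : MulAut F.core) q : F.core) : Ω) =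
          (x : Ω) * q * (x : Ω)⁻¹
        rw [hc, ← esx]
        rfl
      rw [MonoidHom.comp_apply, MonoidHom.comp_apply, e, map_mul, map_mul, map_inv, hψP x]
    have e2 : c ⟨φ x, hφS⟩ = ⟨β, hβ⟩ * c sx * (⟨β, hβ⟩ : F.autGroup F.core)⁻¹ := by
      rw [← hcomm]; group
    rw [e2]
    exact hpn.conj_mem _ hsx _
  have hRn : S ≤ Subgroup.normalizer
      ((((pCore p ↥(F.autGroup F.core)).comap c).map S.subtype : Subgroup Ω) : Set Ω) :=
    fs_stronglyClosed_normal F _ hRsc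
  have hQP : ∀ P, F.IsCentric P → F.IsRadical p P → F.core ≤ P :=
    ((Cfsg.Agent.S5086.result p hS F hF F.core).mp hQ).2
  have hRnormal : F.IsNormal (((pCore p ↥(F.autGroup F.core)).comap c).map S.subtype) := by
    rw [Cfsg.Agent.S5086.result p hS F hF]
    refine ⟨hRsc, fun P hc' hrad => ?_⟩
    have hPS := hc'.1
    have hCP := hc'.2 P (fs_isConj_refl F hPS)
    have hQleP := hQP P hc' hrad
    haveI : Finite P := fs_finite_of_le hPS
    apply fs_le_of_normal_pgroup p hS F _ hRS hRn P hCP hrad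
      (((pCore p ↥(F.autGroup F.core)).comap (fs_resHom F hPS hQleP hQsc)).map
        (F.autGroup P).subtype)
    · rintro _ ⟨β, -, rfl⟩; exact β.2
    · have e : (((pCore p ↥(F.autGroup F.core)).comap (fs_resHom F hPS hQleP hQsc)).map
          (F.autGroup P).subtype).subgroupOf (F.autGroup P) =
          (pCore p ↥(F.autGroup F.core)).comap (fs_resHom F hPS hQleP hQsc) :=
        Subgroup.comap_map_eq_self_of_injective (Subgroup.subtype_injective _) _
      rw [e]
      exact hpn.comap _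
    · apply isPGroup_of_forall_pow
      rintro _ ⟨β, hβ, rfl⟩
      obtain ⟨a, ha⟩ := (Cfsg.Agent.Lib.Helper6.pc_isPGroup p ↥(F.autGroup F.core)) ⟨_, hβ⟩
      have ha' : fs_resHom F hPS hQleP hQsc (β ^ (p ^ a)) = 1 := by
        rw [map_pow]
        exact congrArg Subtype.val ha
      have hfix : ∀ y : P, (y : Ω) ∈ F.core →
          ((β ^ (p ^ a) : F.autGroup P) : MulAut P) y = y := by
        intro y hy
        have h1 := fs_resHom_apply F hPS hQleP hQsc (β ^ (p ^ a)) ⟨y, hy⟩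
        rw [ha'] at h1
        exact Subtype.ext h1.symm
      have hst : ∀ x ∈ (⊤ : Subgroup P),
          x⁻¹ * ((β ^ (p ^ a) : F.autGroup P) : MulAut P) x ∈ F.core.subgroupOf P := by
        intro x _
        rw [Subgroup.mem_subgroupOf]
        apply hcen
        refine Subgroup.mem_inf.mpr ⟨hPS (Subtype.property _), ?_⟩
        rw [Subgroup.mem_centralizer_iff]
        intro q hq
        have hq1 : (x : Ω) * q * (x : Ω)⁻¹ ∈ F.core :=
          (Subgroup.mem_normalizer_iff.mp (hQn (hPS x.2)) q).mp hq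
        have h1 := hfix (x * ⟨q, hQleP hq⟩ * x⁻¹) hq1
        rw [map_mul, map_mul, map_inv, hfix ⟨q, hQleP hq⟩ hq] at h1
        have h2 := congrArg (fun z : P => (z : Ω)) h1
        simp only [Subgroup.coe_mul, Subgroup.coe_inv] at h2 ⊢
        calc q * ((x : Ω)⁻¹ * ((((β ^ (p ^ a) : F.autGroup P) : MulAut P) x : P) : Ω))
            = (x : Ω)⁻¹ * ((x : Ω) * q * (x : Ω)⁻¹) *
                ((((β ^ (p ^ a) : F.autGroup P) : MulAut P) x : P) : Ω) := by group
          _ = (x : Ω)⁻¹ * (((((β ^ (p ^ a) : F.autGroup P) : MulAut P) x : P) : Ω) * q *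
                ((((β ^ (p ^ a) : F.autGroup P) : MulAut P) x : P) : Ω)⁻¹) *
                ((((β ^ (p ^ a) : F.autGroup P) : MulAut P) x : P) : Ω) := by rw [h2]
          _ = (x : Ω)⁻¹ * ((((β ^ (p ^ a) : F.autGroup P) : MulAut P) x : P) : Ω) * q := by
              group
      have hm : ∀ x ∈ F.core.subgroupOf P,
          ((((β ^ (p ^ a) : F.autGroup P) : MulAut P)) ^ 1) x = x := by
        intro x hx
        rw [pow_one]; exact hfix x (Subgroup.mem_subgroupOf.mp hx)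
      have h1 := stab_step _ (F.core.subgroupOf P) ⊤ le_top hst 1 hm
      obtain ⟨k, hk⟩ := IsPGroup.iff_card.mp ((hS.to_le hPS).to_subgroup (F.core.subgroupOf P))
      refine ⟨a + k, ?_⟩
      ext x
      have h2 := h1 x (Subgroup.mem_top x)
      rw [one_mul, hk] at h2
      have e3 : ((F.autGroup P).subtype β) ^ p ^ (a + k) =
          (((β ^ (p ^ a) : F.autGroup P) : MulAut P)) ^ (p ^ k) := by
        rw [pow_add, pow_mul]; rfl
      rw [e3, h2]; rfl
    · intro n hn hnR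
      obtain ⟨sn, hsn, rfl⟩ := hnR
      refine ⟨⟨P.normalizerMonoidHom ⟨sn, hn⟩, fs_nmh_mem_autGroup F hPS ⟨sn, hn⟩ sn.2⟩, ?_, rfl⟩
      show fs_resHom F hPS hQleP hQsc _ ∈ pCore p _
      have e : fs_resHom F hPS hQleP hQsc ⟨P.normalizerMonoidHom ⟨sn, hn⟩,
          fs_nmh_mem_autGroup F hPS ⟨sn, hn⟩ sn.2⟩ = c sn :=
        Subtype.ext (MulEquiv.ext (fun q => Subtype.ext rfl))
      rw [e]; exact hsn
  have hRQ : ((pCore p ↥(F.autGroup F.core)).comap c).map S.subtype ≤ F.core :=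
    le_sSup hRnormal
  apply hRQ
  obtain ⟨κ, hκ, e⟩ := h
  refine ⟨⟨s, hsS⟩, ?_, rfl⟩
  show c ⟨s, hsS⟩ ∈ pCore p _
  have e2 : c ⟨s, hsS⟩ = κ := Subtype.ext e.symm
  rw [e2]; exact hκ

/-- a normal subsystem of a constrained system is constrained -/
theorem normal_constrained [Finite S] (p : ℕ) [Fact p.Prime] (hS : IsPGroup p S)
    (F : FusionSystem S) (hF : F.IsConstrained p) {T : Subgroup Ω} (E : FusionSystem T)
    (hE : E.IsNormalIn F p) : E.IsConstrained p := by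
  obtain ⟨hFsat, Q₀, hQ₀, hQ₀c⟩ := hF
  obtain ⟨⟨hEsat, -, hsub, hTsc, -, -⟩, -⟩ := hE
  have hTS := hTsc.1
  haveI : Finite T := fs_finite_of_le hTS
  have hTp : IsPGroup p T := hS.to_le hTS
  have hQ : F.IsNormal F.core := fs_core_normal F
  have hQsc := fs_normal_stronglyClosed F F.core hQ
  have hQS := hQ.1
  have hQn : S ≤ Subgroup.normalizer (F.core : Set Ω) := fs_stronglyClosed_normal F _ hQsc
  have hcen : centralizerIn S F.core ≤ F.core := by
    have h1 : Q₀ ≤ F.core := le_sSup hQ₀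
    have h2 := hQ₀c.2 Q₀ (fs_isConj_refl F hQ₀.1)
    intro x hx
    obtain ⟨hxS, hxC⟩ := Subgroup.mem_inf.mp hx
    exact h1 (h2 (Subgroup.mem_inf.mpr
      ⟨hxS, Subgroup.centralizer_le (SetLike.coe_subset_coe.mpr h1) hxC⟩))
  obtain ⟨m, Qs, hQs0, hQsl, hQsm, hQss⟩ := (Cfsg.Agent.S5088.result p hS F hFsat F.core).mp hQ
  have hQT : E.IsNormal (F.core ⊓ T) := by
    rw [Cfsg.Agent.S5088.result p hTp E hEsat]
    refine ⟨m, fun i => Qs i ⊓ T, ?_, ?_, ?_, ?_⟩
    · show Qs 0 ⊓ T = ⊥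
      rw [hQs0]; exact bot_inf_eq _
    · show Qs (Fin.last m) ⊓ T = F.core ⊓ T
      rw [hQsl]
    · intro i j hij
      exact inf_le_inf_right T (hQsm hij)
    · intro i
      obtain ⟨hsc, hc⟩ := hQss i
      refine ⟨⟨inf_le_right, fun P hP φ hφ x => Subgroup.mem_inf.mpr
        ⟨hsc.2 P (hP.trans inf_le_left) φ (hsub P hφ) x, (E.le_of_mem hφ).2 x⟩⟩, ?_⟩
      show ⁅F.core ⊓ T, Qs i.succ ⊓ T⁆ ≤ Qs (Fin.castSucc i) ⊓ T
      refine le_inf ((Subgroup.commutator_mono inf_le_left inf_le_left).trans hc) ?_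
      exact (Subgroup.commutator_mono inf_le_right inf_le_right).trans
        (Subgroup.commutator_le_self T)
  have hX : centralizerIn T (F.core ⊓ T) ≤ F.core ⊓ T := by
    intro x hx
    obtain ⟨hxT, hxC⟩ := Subgroup.mem_inf.mp hx
    have hxS := hTS hxT
    have hxn := hQn hxS
    refine Subgroup.mem_inf.mpr ⟨?_, hxT⟩
    apply fs_core_radical p hS F hFsat hcen x hxS hxn
    apply fs_nmh_mem_pCore p hS F T hTsc F.core hQS x hxn hxT
    intro y hy hyT
    exact (Subgroup.mem_centralizer_iff.mp hxC y (Subgroup.mem_inf.mpr ⟨hy, hyT⟩)).symm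
  have hQTsc := fs_normal_stronglyClosed E _ hQT
  refine ⟨hEsat, F.core ⊓ T, hQT, inf_le_right, fun Q' hconj => ?_⟩
  obtain ⟨φ, hφ, hr⟩ := hconj
  have hQ' : Q' = F.core ⊓ T := by
    rw [← hr]
    apply le_antisymm
    · rintro _ ⟨x, rfl⟩
      exact hQTsc.2 _ le_rfl φ hφ x
    · intro t ht
      obtain ⟨s, -, e⟩ := fs_sc_surj E _ hQTsc le_rfl hφ t ht
      exact ⟨s, e⟩
  rw [hQ']
  exact hX

end Cfsg.Agent.Lib.Helper1
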