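import Mathlib
import Cfsg.Prelude.Def_FusionComponents
import Cfsg.Agent.Lib.Helper1.FusMorph
import Cfsg.Agent.Lib.Helper2.SylowAux
import Cfsg.Agent.Lib.Helper6.PCore
import Cfsg.Agent.Lib.Helper7.PCore
import Cfsg.Agent.S5076
import Cfsg.Agent.Lib.Helper1.FusNormal
import Cfsg.Agent.Lib.Helper1.FusQuot

/-! Fusion systems realized by finite groups. -/

set_option autoImplicit false

namespace Cfsg.Agent.Lib.Helper1

open Cfsg Cfsg.Agent.Lib.Helper8 FusionSystem

variable {Ω : Type*} [Group Ω] {S : Subgroup Ω}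

/-- a system realized by a finite group on a Sylow subgroup is saturated -/
theorem realized_saturated (p : ℕ) [Fact p.Prime] (F : FusionSystem S) {G : Type*} [Group G]
    [Finite G] (ι : S →* G) (hι : F.IsRealizedBy ι) (T : Sylow p G)
    (hT : (T : Subgroup G) = ι.range) : F.IsSaturated p := by
  have hTp : IsPGroup p ↥(T : Subgroup G) := T.isPGroup'
  let e : ↥(T : Subgroup G) ≃* ↥S :=
    (MulEquiv.subgroupCongr hT).trans (MonoidHom.ofInjective hι.1).symm
  have hιe : ∀ y : ↥(T : Subgroup G), ι (e y) = (y : G) := fun y =>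
    MonoidHom.apply_ofInjective_symm hι.1 (MulEquiv.subgroupCongr hT y)
  have heι : ∀ (s : S) (h : ι s ∈ (T : Subgroup G)), e ⟨ι s, h⟩ = s := fun s h =>
    hι.1 (hιe ⟨ι s, h⟩)
  have hαinj : Function.Injective (S.subtype.comp e.toMonoidHom) := by
    intro a b hab
    exact e.injective (Subtype.ext hab)
  refine morph_saturated p hTp (groupFusionSystem (T : Subgroup G))
    (Cfsg.Agent.S5076.result p T) F (S.subtype.comp e.toMonoidHom) ⟨⟨?_, ?_⟩, ?_, ?_⟩
  · intro y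
    exact (e y).2
  · rintro P φ ⟨hPT, hφT, g, hg⟩
    have hP'S : imageAlong (S.subtype.comp e.toMonoidHom) P ≤ S := by
      rintro _ ⟨y, -, rfl⟩
      exact (e y).2
    let eP := (P.subgroupOf (T : Subgroup G)).equivMapOfInjective
      (S.subtype.comp e.toMonoidHom) hαinj
    let φT : ↥(P.subgroupOf (T : Subgroup G)) →* ↥(T : Subgroup G) :=
      (φ.codRestrict (T : Subgroup G) hφT).comp (Subgroup.subgroupOfEquivOfLe hPT).toMonoidHom
    let φ' : ↥(imageAlong (S.subtype.comp e.toMonoidHom) P) →* Ω :=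
      (S.subtype.comp e.toMonoidHom).comp (φT.comp eP.symm.toMonoidHom)
    have hφ'v : ∀ y : ↥(P.subgroupOf (T : Subgroup G)), φ' (eP y) = ((e (φT y) : S) : Ω) := by
      intro y
      show ((e (φT (eP.symm (eP y))) : S) : Ω) = _
      rw [MulEquiv.symm_apply_apply]
    have hφTv : ∀ y : ↥(P.subgroupOf (T : Subgroup G)), ((φT y : ↥(T : Subgroup G)) : G) =
        g * ((y : ↥(T : Subgroup G)) : G) * g⁻¹ := fun y => hg _
    have hφ'S : ∀ x, φ' x ∈ S := fun x => Subtype.property _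
    refine ⟨φ', ?_, hPT, hφT, fun x => ⟨⟨x, hPT x.2⟩, Subgroup.mem_subgroupOf.mpr x.2, rfl⟩, ?_⟩
    · rw [hι.2 _ hP'S φ' hφ'S]
      refine ⟨g, fun x' => ?_⟩
      obtain ⟨y, rfl⟩ := eP.surjective x'
      have e1 : (⟨φ' (eP y), hφ'S _⟩ : S) = e (φT y) := Subtype.ext (hφ'v y)
      have e2 : (⟨((eP y : ↥(imageAlong (S.subtype.comp e.toMonoidHom) P)) : Ω),
          hP'S (Subtype.property _)⟩ : S) = e (y : ↥(T : Subgroup G)) := Subtype.ext rfl
      rw [e1, e2, hιe, hιe, hφTv]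
    · intro x
      have e3 : (⟨(S.subtype.comp e.toMonoidHom) ⟨x, hPT x.2⟩,
          ⟨⟨x, hPT x.2⟩, Subgroup.mem_subgroupOf.mpr x.2, rfl⟩⟩ :
            ↥(imageAlong (S.subtype.comp e.toMonoidHom) P)) =
          eP ⟨⟨x, hPT x.2⟩, Subgroup.mem_subgroupOf.mpr x.2⟩ := Subtype.ext rfl
      rw [e3, hφ'v]
      rfl
  · ext x
    constructor
    · rintro ⟨y, rfl⟩
      exact (e y).2
    · intro hx
      refine ⟨e.symm ⟨x, hx⟩, ?_⟩
      show ((e (e.symm ⟨x, hx⟩) : S) : Ω) = x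
      rw [MulEquiv.apply_symm_apply]
  · intro P' hP'S φ' hφ'
    have hφ'S := (F.le_of_mem hφ').2
    obtain ⟨g, hg⟩ := (hι.2 P' hP'S φ' hφ'S).mp hφ'
    have hPT : preimageAlong (S.subtype.comp e.toMonoidHom) P' ≤ (T : Subgroup G) :=
      Cfsg.Agent.S5132.pre_le _ _
    have hP' : ∀ x : ↥(preimageAlong (S.subtype.comp e.toMonoidHom) P'),
        (S.subtype.comp e.toMonoidHom) ⟨x, hPT x.2⟩ ∈ P' :=
      fun x => ((Cfsg.Agent.S5132.mem_pre _ P' (x : G)).mp x.2).2
    have hkey : ∀ x : ↥(preimageAlong (S.subtype.comp e.toMonoidHom) P'),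
        g * (x : G) * g⁻¹ = ι ⟨φ' ⟨(S.subtype.comp e.toMonoidHom) ⟨x, hPT x.2⟩, hP' x⟩,
          hφ'S _⟩ := by
      intro x
      rw [hg]
      have e4 : (⟨((⟨(S.subtype.comp e.toMonoidHom) ⟨x, hPT x.2⟩, hP' x⟩ : ↥P') : Ω),
          hP'S (hP' x)⟩ : S) = e ⟨x, hPT x.2⟩ := Subtype.ext rfl
      rw [e4, hιe]
    have hφT : ∀ x : ↥(preimageAlong (S.subtype.comp e.toMonoidHom) P'),
        conjHom (preimageAlong (S.subtype.comp e.toMonoidHom) P') g x ∈ (T : Subgroup G) := by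
      intro x
      show g * (x : G) * g⁻¹ ∈ (T : Subgroup G)
      rw [hkey x]
      exact hT.ge ⟨_, rfl⟩
    refine ⟨conjHom _ g, ⟨hPT, hφT, g, fun x => rfl⟩, hPT, hφT, hP', fun x => ?_⟩
    have h5 : e ⟨conjHom (preimageAlong (S.subtype.comp e.toMonoidHom) P') g x, hφT x⟩ =
        ⟨φ' ⟨(S.subtype.comp e.toMonoidHom) ⟨x, hPT x.2⟩, hP' x⟩, hφ'S _⟩ := by
      apply hι.1
      rw [hιe]
      exact hkey x
    exact (congrArg (fun s : S => (s : Ω)) h5).symm

/-- a system with a model is constrained -/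
theorem model_constrained (p : ℕ) [Fact p.Prime] (F : FusionSystem S) {G : Type*} [Group G]
    (ι : S →* G) (hG : F.IsModel p G ι) : F.IsConstrained p := by
  obtain ⟨hfin, hι, ⟨T, hT⟩, hcent⟩ := hG
  haveI := hfin
  haveI : Finite S := Finite.of_injective ι hι.1
  have hsat := realized_saturated p F ι hι T hT
  refine ⟨hsat, ?_⟩
  have hcn : (pCore p G).Normal := Cfsg.Agent.Lib.Helper7.pCore_normal p G
  have hcoreT : pCore p G ≤ ι.range := by
    rw [← hT]
    exact Cfsg.Agent.Lib.Helper2.normal_pGroup_le_sylow (pCore p G) hcn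
      (Cfsg.Agent.Lib.Helper6.pc_isPGroup p G) T
  have hQS : ((pCore p G).comap ι).map S.subtype ≤ S := by
    rintro _ ⟨s, -, rfl⟩; exact s.2
  have hQmem : ∀ s : S, (s : Ω) ∈ ((pCore p G).comap ι).map S.subtype ↔ ι s ∈ pCore p G := by
    intro s
    constructor
    · rintro ⟨s', hs', e⟩
      have e2 : s' = s := Subtype.ext e
      rw [← e2]; exact hs'
    · intro h
      exact ⟨s, h, rfl⟩
  have hnormal : F.IsNormal (((pCore p G).comap ι).map S.subtype) := by
    refine ⟨hQS, fun P φ hφ => ?_⟩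
    have hPS := (F.le_of_mem hφ).1
    have hφS := (F.le_of_mem hφ).2
    obtain ⟨g, hg⟩ := (hι.2 P hPS φ hφS).mp hφ
    have hPQS : P ⊔ ((pCore p G).comap ι).map S.subtype ≤ S := sup_le hPS hQS
    have hle : P ⊔ ((pCore p G).comap ι).map S.subtype ≤
        ((ι.range).comap ((MulAut.conj g).toMonoidHom.comp ι)).map S.subtype := by
      apply sup_le
      · intro x hx
        refine ⟨⟨x, hPS hx⟩, ?_, rfl⟩
        show g * ι ⟨x, hPS hx⟩ * g⁻¹ ∈ ι.range
        rw [← hg ⟨x, hx⟩]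
        exact ⟨_, rfl⟩
      · rintro _ ⟨s, hs, rfl⟩
        refine ⟨s, ?_, rfl⟩
        show g * ι s * g⁻¹ ∈ ι.range
        exact hcoreT (hcn.conj_mem _ hs g)
    have hmem : ∀ x : ↥(P ⊔ ((pCore p G).comap ι).map S.subtype),
        ((MulAut.conj g).toMonoidHom.comp (ι.comp (Subgroup.inclusion hPQS))) x ∈ ι.range := by
      intro x
      obtain ⟨s, hs, e⟩ := hle x.2
      have e2 : s = Subgroup.inclusion hPQS x := Subtype.ext e
      have hs' := hs
      rw [e2] at hs'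
      exact hs'
    let ψ : ↥(P ⊔ ((pCore p G).comap ι).map S.subtype) →* Ω :=
      S.subtype.comp ((MonoidHom.ofInjective hι.1).symm.toMonoidHom.comp
        (((MulAut.conj g).toMonoidHom.comp (ι.comp (Subgroup.inclusion hPQS))).codRestrict
          ι.range hmem))
    have hψS : ∀ x, ψ x ∈ S := fun x => Subtype.property _
    have hψv : ∀ x : ↥(P ⊔ ((pCore p G).comap ι).map S.subtype),
        ι ⟨ψ x, hψS x⟩ = g * ι ⟨x, hPQS x.2⟩ * g⁻¹ := fun x =>
      MonoidHom.apply_ofInjective_symm hι.1 _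
    refine ⟨ψ, (hι.2 _ hPQS ψ hψS).mpr ⟨g, hψv⟩, ?_, ?_⟩
    · intro x
      have h1 : (⟨ψ (Subgroup.inclusion le_sup_left x), hψS _⟩ : S) = ⟨φ x, hφS x⟩ := by
        apply hι.1
        rw [hψv, hg x]
        rfl
      exact congrArg (fun s : S => (s : Ω)) h1
    · ext y
      constructor
      · rintro ⟨x, hx, rfl⟩
        have hxQ : ((⟨(x : Ω), hPQS x.2⟩ : S) : Ω) ∈ ((pCore p G).comap ι).map S.subtype :=
          Subgroup.mem_subgroupOf.mp hx
        rw [hQmem] at hxQ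
        have h2 : ((⟨ψ x, hψS x⟩ : S) : Ω) ∈ ((pCore p G).comap ι).map S.subtype := by
          rw [hQmem, hψv]
          exact hcn.conj_mem _ hxQ g
        exact h2
      · intro hy
        have hyS := hQS hy
        have hy' := (hQmem ⟨y, hyS⟩).mp hy
        have h3 : g⁻¹ * ι ⟨y, hyS⟩ * g⁻¹⁻¹ ∈ pCore p G := hcn.conj_mem _ hy' g⁻¹
        obtain ⟨x₀, hx₀⟩ := hcoreT h3
        have hx₀Q : (x₀ : Ω) ∈ ((pCore p G).comap ι).map S.subtype := by
          rw [hQmem, hx₀]; exact h3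
        refine ⟨⟨x₀, Subgroup.mem_sup_right hx₀Q⟩, Subgroup.mem_subgroupOf.mpr hx₀Q, ?_⟩
        have h4 : (⟨ψ ⟨x₀, Subgroup.mem_sup_right hx₀Q⟩, hψS _⟩ : S) = ⟨y, hyS⟩ := by
          apply hι.1
          rw [hψv]
          have e5 : (⟨((⟨(x₀ : Ω), Subgroup.mem_sup_right hx₀Q⟩ :
              ↥(P ⊔ ((pCore p G).comap ι).map S.subtype)) : Ω), hPQS (Subgroup.mem_sup_right hx₀Q)⟩ : S) = x₀ :=
            Subtype.ext rfl
          rw [e5, hx₀]
          group
        exact congrArg (fun s : S => (s : Ω)) h4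
  have hQsc := fs_normal_stronglyClosed F _ hnormal
  refine ⟨_, hnormal, hQS, fun Q' hconj => ?_⟩
  obtain ⟨φ, hφ, hr⟩ := hconj
  have hQ' : Q' = ((pCore p G).comap ι).map S.subtype := by
    rw [← hr]
    apply le_antisymm
    · rintro _ ⟨x, rfl⟩
      exact hQsc.2 _ le_rfl φ hφ x
    · intro t ht
      obtain ⟨s, -, e⟩ := fs_sc_surj F _ hQsc le_rfl hφ t ht
      exact ⟨s, e⟩
  rw [hQ']
  intro x hx
  obtain ⟨hxS, hxC⟩ := Subgroup.mem_inf.mp hx
  have h1 : ι ⟨x, hxS⟩ ∈ Subgroup.centralizer ((pCore p G : Subgroup G) : Set G) := by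
    rw [Subgroup.mem_centralizer_iff]
    intro n hn
    obtain ⟨s, rfl⟩ := hcoreT hn
    have hsQ : (s : Ω) ∈ ((pCore p G).comap ι).map S.subtype := (hQmem s).mpr hn
    have hc := Subgroup.mem_centralizer_iff.mp hxC s hsQ
    rw [← map_mul, ← map_mul]
    congr 1
    exact Subtype.ext hc
  exact (hQmem ⟨x, hxS⟩).mpr (hcent h1)

end Cfsg.Agent.Lib.Helper1
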