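import Mathlib
import Cfsg.Prelude.Def_FusionComponents
import Cfsg.Agent.Lib.Helper1.FusReal
import Cfsg.Agent.Lib.Helper1.FusRad
import Cfsg.Agent.Lib.Helper1.FusStab
import Cfsg.Agent.Lib.Helper3.ZJ
import Cfsg.Agent.Lib.Helper3.SubnSylow
import Cfsg.Agent.Lib.Helper6.SylowInf
import Cfsg.Agent.Lib.Helper6.FixedPts

/-! The fusion system of a normal subgroup is normal in the fusion system of the group. -/

set_option autoImplicit false

namespace Cfsg.Agent.Lib.Helper1

open Cfsg FusionSystem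

variable {G : Type*} [Group G]

/-- `F_T(H)` is realized by `H` -/
theorem sub_realized (H T : Subgroup G) (hTH : T ≤ H) :
    (fusionSystemOfSubgroup H T hTH).IsRealizedBy (Subgroup.inclusion hTH) := by
  refine ⟨Subgroup.inclusion_injective hTH, ?_⟩
  intro P hP φ hφ
  constructor
  · rintro ⟨-, -, g, hg, hgx⟩
    refine ⟨⟨g, hg⟩, fun x => ?_⟩
    apply Subtype.ext
    exact hgx x
  · rintro ⟨g, hg⟩
    refine ⟨hP, hφ, g, g.2, fun x => ?_⟩
    exact congrArg Subtype.val (hg x)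

/-- `F_S(G)` is realized by `G` -/
theorem grp_realized (S : Subgroup G) : (groupFusionSystem S).IsRealizedBy S.subtype := by
  refine ⟨S.subtype_injective, ?_⟩
  intro P hP φ hφ
  constructor
  · rintro ⟨-, -, g, hgx⟩
    exact ⟨g, fun x => hgx x⟩
  · rintro ⟨g, hg⟩
    exact ⟨hP, hφ, g, fun x => hg x⟩

/-- realization is stable under composing with an isomorphism -/
theorem realized_comp_equiv {Ω : Type*} [Group Ω] {S : Subgroup Ω} (F : FusionSystem S)
    {G' : Type*} [Group G'] (ι : S →* G) (hι : F.IsRealizedBy ι) (e : G ≃* G') :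
    F.IsRealizedBy (e.toMonoidHom.comp ι) := by
  refine ⟨e.injective.comp hι.1, ?_⟩
  intro P hP φ hφ
  rw [hι.2 P hP φ hφ]
  constructor
  · rintro ⟨g, hg⟩
    refine ⟨e g, fun x => ?_⟩
    show e (ι _) = e g * e (ι _) * (e g)⁻¹
    rw [hg x, map_mul, map_mul, map_inv]
  · rintro ⟨g, hg⟩
    refine ⟨e.symm g, fun x => ?_⟩
    apply e.injective
    rw [map_mul, map_mul, map_inv, MulEquiv.apply_symm_apply]
    exact hg x

theorem conj_mem_centralizer {T : Subgroup G} {n : G}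
    (hn : n ∈ Subgroup.normalizer (T : Set G)) {c : G}
    (hc : c ∈ Subgroup.centralizer (T : Set G)) :
    n * c * n⁻¹ ∈ Subgroup.centralizer (T : Set G) := by
  rw [Subgroup.mem_centralizer_iff]
  intro t ht
  have h1 : n⁻¹ * t * n ∈ T := by
    have := (Subgroup.mem_normalizer_iff.mp (Subgroup.inv_mem _ hn) t).mp ht
    rwa [inv_inv] at this
  have h2 := Subgroup.mem_centralizer_iff.mp hc _ h1
  have h3 : t * (n * c * n⁻¹) = n * ((n⁻¹ * t * n) * c) * n⁻¹ := by group
  rw [h3, h2]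
  group

/-- the fusion system of a normal subgroup `H` on `S ∩ H` is normal in the fusion system of the
group -/
theorem grp_normal_sub [Finite G] (p : ℕ) [Fact p.Prime] (S : Sylow p G) (H : Subgroup G)
    [hHn : H.Normal] (T : Subgroup G) (hT : T = (S : Subgroup G) ⊓ H) (hTH : T ≤ H) :
    (fusionSystemOfSubgroup H T hTH).IsNormalIn (groupFusionSystem (S : Subgroup G)) p := by
  obtain ⟨R, hR⟩ := Cfsg.Agent.Lib.Helper3.exists_sylow_subgroupOf_normal S H
  have hmemT : ∀ x : G, x ∈ T ↔ x ∈ (S : Subgroup G) ∧ x ∈ H := by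
    intro x; rw [hT]; exact Subgroup.mem_inf
  have hTS : T ≤ (S : Subgroup G) := fun x hx => ((hmemT x).mp hx).1
  have hFsat := Cfsg.Agent.S5076.result p S
  have hEsat : (fusionSystemOfSubgroup H T hTH).IsSaturated p := by
    refine realized_saturated p _ (Subgroup.inclusion hTH) (sub_realized H T hTH) R ?_
    rw [hR, Subgroup.inclusion_range, hT, Subgroup.inf_subgroupOf_right]
  have hsc : (groupFusionSystem (S : Subgroup G)).StronglyClosed T := by
    refine ⟨hTS, ?_⟩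
    rintro P hP φ ⟨hPS, hφS, g, hg⟩ x
    apply (hmemT _).mpr
    refine ⟨hφS x, ?_⟩
    rw [hg]
    exact hHn.conj_mem _ ((hmemT _).mp (hP x.2)).2 g
  have hSN : (S : Subgroup G) ≤ Subgroup.normalizer (T : Set G) := by
    intro s hs
    rw [Subgroup.mem_normalizer_iff]
    intro x
    rw [hmemT, hmemT]
    constructor
    · rintro ⟨h1, h2⟩
      exact ⟨Subgroup.mul_mem _ (Subgroup.mul_mem _ hs h1) (Subgroup.inv_mem _ hs),
        hHn.conj_mem _ h2 s⟩
    · rintro ⟨h1, h2⟩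
      have e : x = s⁻¹ * (s * x * s⁻¹) * s⁻¹⁻¹ := by group
      rw [e]
      exact ⟨Subgroup.mul_mem _ (Subgroup.mul_mem _ (Subgroup.inv_mem _ hs) h1)
        (Subgroup.inv_mem _ (Subgroup.inv_mem _ hs)), hHn.conj_mem _ h2 s⁻¹⟩
  refine ⟨⟨hEsat, hFsat, ?_, hsc, ?_, ?_⟩, ?_⟩
  · -- subsystem
    rintro P φ ⟨hPT, hφT, g, -, hg⟩
    exact ⟨hPT.trans hTS, fun x => hTS (hφT x), g, hg⟩
  · -- invariance
    intro P hPT φ hφ α hα
    obtain ⟨-, hφT, h, hh, hφh⟩ := hφ
    have hαF := (fs_mem_autGroup_iff (groupFusionSystem (S : Subgroup G)) hTS α).mp hα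
    obtain ⟨-, -, g, hg⟩ := hαF
    have hg' : ∀ x : T, ((α x : T) : G) = g * x * g⁻¹ := hg
    refine ⟨conjHom _ (g * h * g⁻¹), ⟨?_, ?_, g * h * g⁻¹, hHn.conj_mem h hh g, fun x => rfl⟩, ?_⟩
    · rintro _ ⟨t, -, rfl⟩
      exact (α t).2
    · rintro ⟨_, t, ht, rfl⟩
      show g * h * g⁻¹ * ((α t : T) : G) * (g * h * g⁻¹)⁻¹ ∈ T
      rw [hg' t]
      have ht' : (t : G) ∈ P := Subgroup.mem_subgroupOf.mp ht
      have h1 := hφT ⟨t, ht'⟩
      rw [hφh] at h1
      have h2 := hg' ⟨_, h1⟩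
      have h3 : g * h * g⁻¹ * (g * (t : G) * g⁻¹) * (g * h * g⁻¹)⁻¹ =
          g * (h * (t : G) * h⁻¹) * g⁻¹ := by group
      rw [h3, ← h2]
      exact (α _).2
    · intro x hφx hαx
      show g * h * g⁻¹ * ((α ⟨x, hPT x.2⟩ : T) : G) * (g * h * g⁻¹)⁻¹ = _
      rw [hg', hg']
      show _ = g * φ x * g⁻¹
      rw [hφh]
      group
  · -- Frattini
    intro P hPT φ hφ
    have hφT := hsc.2 P hPT φ hφ
    obtain ⟨hPS, hφS, g, hg⟩ := hφ
    have hfr := Sylow.normalizer_sup_eq_top R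
    have hRT : (R : Subgroup H).map H.subtype = T := by
      rw [hR, Subgroup.subgroupOf_map_subtype, ← hT]
    rw [hRT] at hfr
    have hgtop : g ∈ Subgroup.normalizer (T : Set G) ⊔ H := by
      rw [hfr]; exact Subgroup.mem_top g
    have hle : Subgroup.normalizer (T : Set G) ≤ Subgroup.normalizer (H : Set G) := by
      rw [Subgroup.normalizer_eq_top_iff.mpr hHn]; exact le_top
    obtain ⟨n, hn, h, hh, rfl⟩ := mem_sup_of_le_normalizer hle hgtop
    have hαmem : T.normalizerMonoidHom ⟨n, hn⟩ ∈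
        (groupFusionSystem (S : Subgroup G)).autGroup T := by
      rw [fs_mem_autGroup_iff _ hTS]
      exact ⟨hTS, fun x => hTS (Subtype.property _), n, fun x => rfl⟩
    have hval : ∀ x : P, h * (x : G) * h⁻¹ ∈ T := by
      intro x
      have h1 := hφT x
      rw [hg] at h1
      have h2 := (Subgroup.mem_normalizer_iff.mp (Subgroup.inv_mem _ hn) _).mp h1
      have h3 : n⁻¹ * (n * h * (x : G) * (n * h)⁻¹) * n⁻¹⁻¹ = h * (x : G) * h⁻¹ := by group
      rwa [h3] at h2
    refine ⟨T.normalizerMonoidHom ⟨n, hn⟩, hαmem, conjHom P h,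
      ⟨hPT, hval, h, hh, fun x => rfl⟩, ?_⟩
    intro x hx
    rw [hg]
    show _ = n * (h * (x : G) * h⁻¹) * n⁻¹
    group
  · -- extension condition
    intro α hα
    have hαE := (fs_mem_autGroup_iff (fusionSystemOfSubgroup H T hTH) le_rfl α).mp hα
    obtain ⟨-, -, h, hh, hαh⟩ := hαE
    have hαh' : ∀ x : T, ((α x : T) : G) = h * x * h⁻¹ := hαh
    have hhN : h ∈ Subgroup.normalizer (T : Set G) := by
      apply Cfsg.Agent.Lib.Helper6.sy_mem_normalizer_of_conj_le T h
      intro t ht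
      rw [← hαh' ⟨t, ht⟩]
      exact (α _).2
    have hSC : (S : Subgroup G) ≤
        Subgroup.normalizer ((Subgroup.centralizer (T : Set G) : Subgroup G) : Set G) := by
      intro s hs
      rw [Subgroup.mem_normalizer_iff]
      intro c
      constructor
      · intro hc
        exact conj_mem_centralizer (hSN hs) hc
      · intro hc
        have := conj_mem_centralizer (Subgroup.inv_mem _ (hSN hs)) hc
        have e : s⁻¹ * (s * c * s⁻¹) * s⁻¹⁻¹ = c := by group
        rwa [e] at this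
    obtain ⟨P, hP⟩ := Cfsg.Agent.Lib.Helper6.gl_sylow_inf_of_le_normalizer S
      (Subgroup.centralizer (T : Set G)) hSC
    have hDp : IsPGroup p ↥(centralizerIn (S : Subgroup G) T) := S.isPGroup'.to_le inf_le_left
    have hVp : IsPGroup p ↥(((centralizerIn (S : Subgroup G) T).map
        (MulAut.conj h).toMonoidHom).subgroupOf (Subgroup.centralizer (T : Set G))) :=
      (hDp.map _).comap_subtype
    have hVle : ((centralizerIn (S : Subgroup G) T).map
        (MulAut.conj h).toMonoidHom).subgroupOf (Subgroup.centralizer (T : Set G)) ≤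
        (P : Subgroup ↥(Subgroup.centralizer (T : Set G))) ⊔
          H.subgroupOf (Subgroup.centralizer (T : Set G)) := by
      intro v hv
      obtain ⟨d, hd, hdv⟩ := Subgroup.mem_subgroupOf.mp hv
      have hdv' : h * d * h⁻¹ = (v : G) := hdv
      have hdC : d ∈ Subgroup.centralizer (T : Set G) := hd.2
      have hcomm : h * d * h⁻¹ * d⁻¹ ∈ Subgroup.centralizer (T : Set G) :=
        Subgroup.mul_mem _ (conj_mem_centralizer hhN hdC) (Subgroup.inv_mem _ hdC)
      have e : v = ⟨h * d * h⁻¹ * d⁻¹, hcomm⟩ * ⟨d, hdC⟩ := by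
        apply Subtype.ext
        show (v : G) = h * d * h⁻¹ * d⁻¹ * d
        rw [← hdv']; group
      rw [e]
      apply Subgroup.mul_mem
      · apply Subgroup.mem_sup_right
        apply Subgroup.mem_subgroupOf.mpr
        show h * d * h⁻¹ * d⁻¹ ∈ H
        have : h * d * h⁻¹ * d⁻¹ = h * (d * h⁻¹ * d⁻¹) := by group
        rw [this]
        exact Subgroup.mul_mem _ hh (hHn.conj_mem _ (Subgroup.inv_mem _ hh) d)
      · apply Subgroup.mem_sup_left
        have : (⟨d, hdC⟩ : ↥(Subgroup.centralizer (T : Set G))) ∈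
            (((S : Subgroup G) ⊓ Subgroup.centralizer (T : Set G)).subgroupOf
              (Subgroup.centralizer (T : Set G))) := Subgroup.mem_subgroupOf.mpr hd
        rw [← hP] at this
        exact this
    obtain ⟨k, hk, hkV⟩ := sylow_conj_mod_normal P
      (H.subgroupOf (Subgroup.centralizer (T : Set G))) _ hVp hVle
    have hkH : (k : G) ∈ H := Subgroup.mem_subgroupOf.mp hk
    have hkC : (k : G) ∈ Subgroup.centralizer (T : Set G) := k.2
    -- the element `g = k * h`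
    have hgH : (k : G) * h ∈ H := Subgroup.mul_mem _ hkH hh
    have hgT : ∀ t ∈ T, (k : G) * h * t * ((k : G) * h)⁻¹ = h * t * h⁻¹ := by
      intro t ht
      have h1 : h * t * h⁻¹ ∈ T := by
        rw [← hαh' ⟨t, ht⟩]; exact (α _).2
      have h2 := Subgroup.mem_centralizer_iff.mp hkC _ h1
      have h3 : (k : G) * h * t * ((k : G) * h)⁻¹ = (k : G) * (h * t * h⁻¹) * (k : G)⁻¹ := by
        group
      rw [h3, ← h2]
      group
    have hgD : ∀ d ∈ centralizerIn (S : Subgroup G) T,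
        (k : G) * h * d * ((k : G) * h)⁻¹ ∈ centralizerIn (S : Subgroup G) T := by
      intro d hd
      have hdC : d ∈ Subgroup.centralizer (T : Set G) := hd.2
      have hv : (⟨h * d * h⁻¹, conj_mem_centralizer hhN hdC⟩ :
          ↥(Subgroup.centralizer (T : Set G))) ∈
          ((centralizerIn (S : Subgroup G) T).map
            (MulAut.conj h).toMonoidHom).subgroupOf (Subgroup.centralizer (T : Set G)) := by
        apply Subgroup.mem_subgroupOf.mpr
        exact ⟨d, hd, rfl⟩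
      have h1 := hkV _ hv
      have h2 : k * ⟨h * d * h⁻¹, conj_mem_centralizer hhN hdC⟩ * k⁻¹ ∈
          (P : Subgroup ↥(Subgroup.centralizer (T : Set G))) := h1
      rw [hP] at h2
      have h3 := Subgroup.mem_subgroupOf.mp h2
      have h4 : (k : G) * h * d * ((k : G) * h)⁻¹ = (k : G) * (h * d * h⁻¹) * (k : G)⁻¹ := by
        group
      rw [h4]
      exact h3
    have hgN : (k : G) * h ∈ Subgroup.normalizer
        ((T ⊔ centralizerIn (S : Subgroup G) T : Subgroup G) : Set G) := by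
      apply Cfsg.Agent.Lib.Helper6.sy_mem_normalizer_of_conj_le
      have hle : T ⊔ centralizerIn (S : Subgroup G) T ≤
          (T ⊔ centralizerIn (S : Subgroup G) T).comap
            (MulAut.conj ((k : G) * h)).toMonoidHom := by
        apply sup_le
        · intro t ht
          apply Subgroup.mem_comap.mpr
          apply Subgroup.mem_sup_left
          show (k : G) * h * t * ((k : G) * h)⁻¹ ∈ T
          rw [hgT t ht, ← hαh' ⟨t, ht⟩]
          exact (α _).2
        · intro d hd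
          apply Subgroup.mem_comap.mpr
          apply Subgroup.mem_sup_right
          exact hgD d hd
      intro x hx
      exact hle hx
    have hTDS : T ⊔ centralizerIn (S : Subgroup G) T ≤ (S : Subgroup G) :=
      sup_le hTS inf_le_left
    refine ⟨(T ⊔ centralizerIn (S : Subgroup G) T).normalizerMonoidHom ⟨(k : G) * h, hgN⟩,
      ?_, ?_, ?_⟩
    · rw [fs_mem_autGroup_iff _ hTDS]
      exact ⟨hTDS, fun x => hTDS (Subtype.property _), (k : G) * h, fun x => rfl⟩
    · intro x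
      show (k : G) * h * (x : G) * ((k : G) * h)⁻¹ = _
      rw [hgT x x.2, hαh']
    · intro c hc
      show (c : G)⁻¹ * ((k : G) * h * (c : G) * ((k : G) * h)⁻¹) ∈ _
      have h1 := hgD c hc
      have h2 : (c : G)⁻¹ * ((k : G) * h * (c : G) * ((k : G) * h)⁻¹) ∈
          centralizerIn (S : Subgroup G) T :=
        Subgroup.mul_mem _ (Subgroup.inv_mem _ hc) h1
      refine ⟨(hmemT _).mpr ⟨h2.1, ?_⟩, h2.2⟩
      have e : (c : G)⁻¹ * ((k : G) * h * (c : G) * ((k : G) * h)⁻¹) =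
          ((c : G)⁻¹ * ((k : G) * h) * (c : G)⁻¹⁻¹) * ((k : G) * h)⁻¹ := by group
      rw [e]
      exact Subgroup.mul_mem _ (hHn.conj_mem _ hgH _) (Subgroup.inv_mem _ hgH)

/-- group-theoretic form of "the fusion system on `S` is constrained" -/
def GCond (S : Subgroup G) : Prop :=
  ∃ Q : Subgroup G, Q ≤ S ∧
    (∀ (P : Subgroup G), P ≤ S → ∀ g : G, (∀ x ∈ P, g * x * g⁻¹ ∈ S) →
      ∃ n : G, (∀ x, x ∈ Q ↔ n * x * n⁻¹ ∈ Q) ∧ ∀ x ∈ P, n * x * n⁻¹ = g * x * g⁻¹) ∧
    ∀ c ∈ S, (∀ x ∈ Q, c * x = x * c) → c ∈ Q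

/-- a realized system with a normal centric subgroup gives the group-theoretic condition -/
theorem gcond_of_constrained {Ω : Type*} [Group Ω] {S : Subgroup Ω} (F : FusionSystem S)
    (ι : S →* G) (hι : F.IsRealizedBy ι) (Q₀ : Subgroup Ω) (hQn : F.IsNormal Q₀)
    (hQc : F.IsCentric Q₀) : GCond ι.range := by
  obtain ⟨hinj, hreal⟩ := hι
  have hQS : Q₀ ≤ S := hQn.1
  refine ⟨(Q₀.subgroupOf S).map ι, ?_, ?_, ?_⟩
  · rintro _ ⟨s, -, rfl⟩; exact ⟨s, rfl⟩
  · intro P hP g hg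
    have hP₀S : (P.comap ι).map S.subtype ≤ S := by rintro _ ⟨s, -, rfl⟩; exact s.2
    have hP₀mem : ∀ x : ↥((P.comap ι).map S.subtype), ι ⟨x, hP₀S x.2⟩ ∈ P := by
      rintro ⟨_, s, hs, rfl⟩; exact hs
    have hval : ∀ x : ↥((P.comap ι).map S.subtype),
        ((MulAut.conj g).toMonoidHom.comp (ι.comp (Subgroup.inclusion hP₀S))) x ∈ ι.range :=
      fun x => hg _ (hP₀mem x)
    have hφ₀S : ∀ x : ↥((P.comap ι).map S.subtype),
        (S.subtype.comp ((MonoidHom.ofInjective hinj).symm.toMonoidHom.comp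
          (((MulAut.conj g).toMonoidHom.comp (ι.comp (Subgroup.inclusion hP₀S))).codRestrict
            ι.range hval))) x ∈ S := fun x => Subtype.property _
    have hφ₀ι : ∀ x : ↥((P.comap ι).map S.subtype),
        ι ⟨(S.subtype.comp ((MonoidHom.ofInjective hinj).symm.toMonoidHom.comp
          (((MulAut.conj g).toMonoidHom.comp (ι.comp (Subgroup.inclusion hP₀S))).codRestrict
            ι.range hval))) x, hφ₀S x⟩ = g * ι ⟨x, hP₀S x.2⟩ * g⁻¹ := by
      intro x
      exact MonoidHom.apply_ofInjective_symm hinj _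
    have hφ₀F := (hreal _ hP₀S _ hφ₀S).mpr ⟨g, hφ₀ι⟩
    obtain ⟨ψ, hψ, hψP, hψQ⟩ := hQn.2 _ _ hφ₀F
    have hPQS : (P.comap ι).map S.subtype ⊔ Q₀ ≤ S := sup_le hP₀S hQS
    have hψS := (F.le_of_mem hψ).2
    obtain ⟨n, hn⟩ := (hreal _ hPQS ψ hψS).mp hψ
    refine ⟨n, ?_, ?_⟩
    · intro x
      constructor
      · rintro ⟨s, hs, rfl⟩
        have hsQ : (s : Ω) ∈ Q₀ := Subgroup.mem_subgroupOf.mp hs
        have h1 := hn ⟨s, Subgroup.mem_sup_right hsQ⟩
        have h2 : ψ ⟨s, Subgroup.mem_sup_right hsQ⟩ ∈ Q₀ :=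
          hψQ.le ⟨⟨s, Subgroup.mem_sup_right hsQ⟩, Subgroup.mem_subgroupOf.mpr hsQ, rfl⟩
        refine ⟨⟨ψ ⟨s, Subgroup.mem_sup_right hsQ⟩, hψS _⟩, Subgroup.mem_subgroupOf.mpr h2, ?_⟩
        exact h1
      · rintro ⟨q, hq, hqx⟩
        have hqQ : (q : Ω) ∈ Q₀ := Subgroup.mem_subgroupOf.mp hq
        obtain ⟨q', hq', hψq'⟩ := hψQ.ge hqQ
        have hq'Q : (q' : Ω) ∈ Q₀ := Subgroup.mem_subgroupOf.mp hq'
        have h1 := hn q'
        have h2 : (⟨ψ q', hψS q'⟩ : S) = q := Subtype.ext hψq'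
        refine ⟨⟨q', hPQS q'.2⟩, Subgroup.mem_subgroupOf.mpr hq'Q, ?_⟩
        have h3 : n * ι ⟨q', hPQS q'.2⟩ * n⁻¹ = n * x * n⁻¹ := by rw [← h1, h2, hqx]
        exact mul_left_cancel (mul_right_cancel h3)
    · intro y hy
      obtain ⟨s, rfl⟩ := hP hy
      have hsP₀ : (s : Ω) ∈ (P.comap ι).map S.subtype := ⟨s, hy, rfl⟩
      have h1 := hn ⟨s, Subgroup.mem_sup_left hsP₀⟩
      have h2 := hψP ⟨s, hsP₀⟩
      have h3 := hφ₀ι ⟨s, hsP₀⟩
      have h4 : (⟨ψ ⟨s, Subgroup.mem_sup_left hsP₀⟩, hψS _⟩ : S) = ⟨_, hφ₀S ⟨s, hsP₀⟩⟩ :=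
        Subtype.ext h2
      rw [h4] at h1
      exact h1.symm.trans h3
  · rintro _ ⟨s, rfl⟩ hc
    refine ⟨s, ?_, rfl⟩
    apply Subgroup.mem_subgroupOf.mpr
    apply hQc.2 Q₀ (fs_isConj_refl F hQS)
    refine ⟨s.2, ?_⟩
    apply Subgroup.mem_centralizer_iff.mpr
    intro q hq
    have h1 := hc (ι ⟨q, hQS hq⟩) ⟨⟨q, hQS hq⟩, Subgroup.mem_subgroupOf.mpr hq, rfl⟩
    have h2 : ι (s * ⟨q, hQS hq⟩) = ι (⟨q, hQS hq⟩ * s) := by
      rw [map_mul, map_mul]; exact h1
    have h3 := hinj h2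
    exact (congrArg Subtype.val h3).symm

/-- a system realized on a Sylow subgroup satisfying the group-theoretic condition is
constrained -/
theorem constrained_of_gcond {Ω : Type*} [Group Ω] {S : Subgroup Ω} (p : ℕ) [Fact p.Prime]
    (F : FusionSystem S) [Finite G] (ι : S →* G) (hι : F.IsRealizedBy ι) (T : Sylow p G)
    (hT : (T : Subgroup G) = ι.range) (h : GCond ι.range) : F.IsConstrained p := by
  refine ⟨realized_saturated p F ι hι T hT, ?_⟩
  obtain ⟨hinj, hreal⟩ := hι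
  obtain ⟨Q, hQr, hQn, hQc⟩ := h
  have hQ₀S : (Q.comap ι).map S.subtype ≤ S := by rintro _ ⟨s, -, rfl⟩; exact s.2
  have hQ₀mem : ∀ (s : S), (s : Ω) ∈ (Q.comap ι).map S.subtype ↔ ι s ∈ Q := by
    intro s
    constructor
    · rintro ⟨s', hs', e⟩
      have : s' = s := Subtype.ext e
      rw [← this]; exact hs'
    · intro hs; exact ⟨s, hs, rfl⟩
  have hnorm : F.IsNormal ((Q.comap ι).map S.subtype) := by
    refine ⟨hQ₀S, ?_⟩
    intro P φ hφ
    obtain ⟨hPS, hφS⟩ := F.le_of_mem hφ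
    obtain ⟨g, hg⟩ := (hreal P hPS φ hφS).mp hφ
    have hPr : (P.subgroupOf S).map ι ≤ ι.range := by rintro _ ⟨s, -, rfl⟩; exact ⟨s, rfl⟩
    have hPg : ∀ x ∈ (P.subgroupOf S).map ι, g * x * g⁻¹ ∈ ι.range := by
      rintro _ ⟨s, hs, rfl⟩
      have := hg ⟨s, Subgroup.mem_subgroupOf.mp hs⟩
      exact ⟨_, this⟩
    obtain ⟨n, hnQ, hnP⟩ := hQn _ hPr g hPg
    have hPQS : P ⊔ (Q.comap ι).map S.subtype ≤ S := sup_le hPS hQ₀S
    have hval : ∀ x : ↥(P ⊔ (Q.comap ι).map S.subtype),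
        ((MulAut.conj n).toMonoidHom.comp (ι.comp (Subgroup.inclusion hPQS))) x ∈ ι.range := by
      have hle : P ⊔ (Q.comap ι).map S.subtype ≤
          ((ι.range.comap (MulAut.conj n).toMonoidHom).comap ι).map S.subtype := by
        apply sup_le
        · intro x hx
          refine ⟨⟨x, hPS hx⟩, ?_, rfl⟩
          show n * ι ⟨x, hPS hx⟩ * n⁻¹ ∈ ι.range
          rw [hnP _ ⟨⟨x, hPS hx⟩, Subgroup.mem_subgroupOf.mpr hx, rfl⟩]
          exact ⟨_, hg ⟨x, hx⟩⟩
        · rintro _ ⟨s, hs, rfl⟩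
          refine ⟨s, ?_, rfl⟩
          show n * ι s * n⁻¹ ∈ ι.range
          exact hQr ((hnQ _).mp hs)
      intro x
      obtain ⟨s, hs, e⟩ := hle x.2
      have : s = ⟨x, hPQS x.2⟩ := Subtype.ext e
      rw [this] at hs
      exact hs
    have hψS : ∀ x : ↥(P ⊔ (Q.comap ι).map S.subtype),
        (S.subtype.comp ((MonoidHom.ofInjective hinj).symm.toMonoidHom.comp
          (((MulAut.conj n).toMonoidHom.comp (ι.comp (Subgroup.inclusion hPQS))).codRestrict
            ι.range hval))) x ∈ S := fun x => Subtype.property _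
    have hψι : ∀ x : ↥(P ⊔ (Q.comap ι).map S.subtype),
        ι ⟨(S.subtype.comp ((MonoidHom.ofInjective hinj).symm.toMonoidHom.comp
          (((MulAut.conj n).toMonoidHom.comp (ι.comp (Subgroup.inclusion hPQS))).codRestrict
            ι.range hval))) x, hψS x⟩ = n * ι ⟨x, hPQS x.2⟩ * n⁻¹ := by
      intro x
      exact MonoidHom.apply_ofInjective_symm hinj _
    refine ⟨_, (hreal _ hPQS _ hψS).mpr ⟨n, hψι⟩, ?_, ?_⟩
    · intro x
      have h1 := hψι (Subgroup.inclusion le_sup_left x)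
      have h2 := hg x
      have h3 := hnP (ι ⟨x, hPS x.2⟩) ⟨⟨x, hPS x.2⟩, Subgroup.mem_subgroupOf.mpr x.2, rfl⟩
      have h4 := (h1.trans h3).trans h2.symm
      exact congrArg Subtype.val (hinj h4)
    · apply le_antisymm
      · rintro _ ⟨x, hx, rfl⟩
        have hxQ : (x : Ω) ∈ (Q.comap ι).map S.subtype := Subgroup.mem_subgroupOf.mp hx
        have h1 := hψι x
        have h2 : ι ⟨x, hPQS x.2⟩ ∈ Q := (hQ₀mem _).mp hxQ
        have h3 := (hnQ _).mp h2
        rw [← h1] at h3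
        exact (hQ₀mem ⟨_, hψS x⟩).mpr h3
      · intro y hy
        have hyS : y ∈ S := hQ₀S hy
        have h1 : ι ⟨y, hyS⟩ ∈ Q := (hQ₀mem ⟨y, hyS⟩).mp hy
        have h2 : n⁻¹ * ι ⟨y, hyS⟩ * n ∈ Q := by
          apply (hnQ _).mpr
          have : n * (n⁻¹ * ι ⟨y, hyS⟩ * n) * n⁻¹ = ι ⟨y, hyS⟩ := by group
          rw [this]; exact h1
        obtain ⟨s, hs⟩ := hQr h2
        have hsQ : (s : Ω) ∈ (Q.comap ι).map S.subtype := (hQ₀mem s).mpr (by rw [hs]; exact h2)
        refine ⟨⟨s, Subgroup.mem_sup_right hsQ⟩, Subgroup.mem_subgroupOf.mpr hsQ, ?_⟩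
        have h3 := hψι ⟨s, Subgroup.mem_sup_right hsQ⟩
        have h4 : n * ι s * n⁻¹ = ι ⟨y, hyS⟩ := by rw [hs]; group
        have h5 := h3.trans h4
        exact congrArg Subtype.val (hinj h5)
  refine ⟨_, hnorm, hQ₀S, ?_⟩
  rintro R ⟨φ, hφ, rfl⟩
  have hrange : φ.range = (Q.comap ι).map S.subtype := by
    obtain ⟨ψ, hψ, hψP, hψQ⟩ := hnorm.2 _ φ hφ
    apply le_antisymm
    · rintro _ ⟨x, rfl⟩
      rw [← hψP x]
      exact hψQ.le ⟨_, Subgroup.mem_subgroupOf.mpr x.2, rfl⟩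
    · intro y hy
      obtain ⟨x, hx, rfl⟩ := hψQ.ge hy
      have hxQ : (x : Ω) ∈ (Q.comap ι).map S.subtype := Subgroup.mem_subgroupOf.mp hx
      refine ⟨⟨x, hxQ⟩, ?_⟩
      rw [← hψP ⟨x, hxQ⟩]
      rfl
  rw [hrange]
  rintro c ⟨hcS, hcC⟩
  apply (hQ₀mem ⟨c, hcS⟩).mpr
  apply hQc _ ⟨⟨c, hcS⟩, rfl⟩
  intro x hx
  obtain ⟨s, rfl⟩ := hQr hx
  have hsQ : (s : Ω) ∈ (Q.comap ι).map S.subtype := (hQ₀mem s).mpr hx
  have h1 := Subgroup.mem_centralizer_iff.mp hcC s hsQ
  have h2 : s * ⟨c, hcS⟩ = ⟨c, hcS⟩ * s := Subtype.ext h1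
  rw [← map_mul, ← map_mul, h2]

/-- the group-theoretic condition passes to subnormal subgroups -/
theorem gcond_subnormal [Finite G] (p : ℕ) [Fact p.Prime] (S : Sylow p G)
    (hF : (groupFusionSystem (S : Subgroup G)).IsConstrained p) (H : Subgroup G)
    (hH : H.IsSubnormal) : GCond ((S : Subgroup G).subgroupOf H) := by
  induction hH with
  | top =>
    obtain ⟨-, Q₀, hQn, hQc⟩ := hF
    have h1 := gcond_of_constrained _ _
      (realized_comp_equiv _ _ (grp_realized (S : Subgroup G)) Subgroup.topEquiv.symm) Q₀ hQn hQc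
    have e : (Subgroup.topEquiv.symm.toMonoidHom.comp (S : Subgroup G).subtype).range =
        (S : Subgroup G).subgroupOf ⊤ := by
      ext y
      constructor
      · rintro ⟨s, rfl⟩
        apply Subgroup.mem_subgroupOf.mpr
        exact s.2
      · intro hy
        exact ⟨⟨(y : G), Subgroup.mem_subgroupOf.mp hy⟩, rfl⟩
    rw [e] at h1
    exact h1
  | step H K hHK hK hN ih =>
    obtain ⟨SK, hSK⟩ := Cfsg.Agent.Lib.Helper3.exists_sylow_subgroupOf_subnormal S hK
    rw [Subgroup.inf_subgroupOf_right] at hSK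
    have hFK : (groupFusionSystem (SK : Subgroup K)).IsConstrained p := by
      refine constrained_of_gcond p _ (SK : Subgroup K).subtype (grp_realized _) SK ?_ ?_
      · rw [Subgroup.range_subtype]
      · rw [Subgroup.range_subtype, hSK]; exact ih
    have hnorm := grp_normal_sub p SK (H.subgroupOf K) _ rfl inf_le_right
    have hE := normal_constrained p SK.isPGroup' _ hFK _ hnorm
    obtain ⟨-, Q₀, hQn, hQc⟩ := hE
    have h1 := gcond_of_constrained _ _
      (realized_comp_equiv _ _ (sub_realized (H.subgroupOf K) _ inf_le_right)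
        (Subgroup.subgroupOfEquivOfLe hHK)) Q₀ hQn hQc
    have e : ((Subgroup.subgroupOfEquivOfLe hHK).toMonoidHom.comp
        (Subgroup.inclusion (inf_le_right :
          (SK : Subgroup K) ⊓ H.subgroupOf K ≤ H.subgroupOf K))).range =
        (S : Subgroup G).subgroupOf H := by
      ext y
      constructor
      · rintro ⟨x, rfl⟩
        apply Subgroup.mem_subgroupOf.mpr
        have hx1 : (x : K) ∈ (SK : Subgroup K) := x.2.1
        have hx2 : (x : K) ∈ (S : Subgroup G).subgroupOf K := hSK.le hx1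
        exact Subgroup.mem_subgroupOf.mp hx2
      · intro hy
        have hyS : (y : G) ∈ (S : Subgroup G) := Subgroup.mem_subgroupOf.mp hy
        have h2 : (⟨(y : G), hHK y.2⟩ : K) ∈ (SK : Subgroup K) := by
          rw [hSK]; exact Subgroup.mem_subgroupOf.mpr hyS
        have h3 : (⟨(y : G), hHK y.2⟩ : K) ∈ H.subgroupOf K := Subgroup.mem_subgroupOf.mpr y.2
        exact ⟨⟨⟨(y : G), hHK y.2⟩, ⟨h2, h3⟩⟩, Subtype.ext rfl⟩
    rw [e] at h1
    exact h1

end Cfsg.Agent.Lib.Helper1
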