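import Mathlib
import Cfsg.Agent.Lib.Helper1.MetaOdd

set_option autoImplicit false

namespace Cfsg.Agent.Lib.Helper1

open scoped commutatorElement

theorem comm_split {G : Type*} [Group G] (B : Subgroup G) [hBn : B.Normal]
    (hB : ∀ a ∈ B, ∀ b ∈ B, a * b = b * a) (y : G) (hy : ∀ g : G, ∃ j : ℕ, g * (y ^ j)⁻¹ ∈ B) :
    ∃ κ : B →* G, (∀ b : B, κ b = ⁅(b : G), y⁆) ∧ κ.range = commutator G := by
  have hnorm : ∀ (g : G) (b : G), b ∈ B → g * b * g⁻¹ ∈ B :=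
    fun g b hb => Subgroup.Normal.conj_mem hBn b hb g
  have hcm : ∀ b ∈ B, ⁅b, y⁆ ∈ B := by
    intro b hb
    have h1 : ⁅b, y⁆ = b * (y * b⁻¹ * y⁻¹) := by rw [commutatorElement_def]; group
    rw [h1]; exact B.mul_mem hb (hnorm y _ (B.inv_mem hb))
  obtain ⟨κ, hκ⟩ : ∃ κ : B →* G, ∀ b : B, κ b = ⁅(b : G), y⁆ :=
    ⟨{ toFun := fun b => ⁅(b : G), y⁆
       map_one' := by simp
       map_mul' := by
         intro a b
         show ⁅(a : G) * (b : G), y⁆ = ⁅(a : G), y⁆ * ⁅(b : G), y⁆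
         have h1 : ⁅(a : G) * (b : G), y⁆ =
             (a : G) * ⁅(b : G), y⁆ * (a : G)⁻¹ * ⁅(a : G), y⁆ := by
           simp only [commutatorElement_def]; group
         have h2 : (a : G) * ⁅(b : G), y⁆ = ⁅(b : G), y⁆ * (a : G) := hB _ a.2 _ (hcm _ b.2)
         have h3 : ⁅(b : G), y⁆ * ⁅(a : G), y⁆ = ⁅(a : G), y⁆ * ⁅(b : G), y⁆ :=
           hB _ (hcm _ b.2) _ (hcm _ a.2)
         rw [h1, h2, mul_inv_cancel_right, h3] }, fun b => rfl⟩
  refine ⟨κ, hκ, ?_⟩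
  have hTmem : ∀ b ∈ B, ⁅b, y⁆ ∈ κ.range := fun b hb => ⟨⟨b, hb⟩, hκ _⟩
  have hTy : ∀ t ∈ κ.range, y * t * y⁻¹ ∈ κ.range := by
    rintro _ ⟨b, rfl⟩
    rw [hκ]
    have h1 : y * ⁅(b : G), y⁆ * y⁻¹ = ⁅y * (b : G) * y⁻¹, y⁆ := by
      simp only [commutatorElement_def]; group
    rw [h1]; exact hTmem _ (hnorm y _ b.2)
  have hpow : ∀ (j : ℕ) (b : G), b ∈ B → ⁅b, y ^ j⁆ ∈ κ.range := by
    intro j
    induction j with
    | zero =>
      intro b hb
      have h0 : ⁅b, y ^ 0⁆ = 1 := by rw [commutatorElement_def]; group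
      rw [h0]; exact Subgroup.one_mem _
    | succ j ih =>
      intro b hb
      have h1 : ⁅b, y ^ (j + 1)⁆ = ⁅b, y⁆ * (y * ⁅b, y ^ j⁆ * y⁻¹) := by
        simp only [commutatorElement_def, pow_succ']; group
      rw [h1]
      exact Subgroup.mul_mem _ (hTmem b hb) (hTy _ (ih b hb))
  apply le_antisymm
  · rintro _ ⟨b, rfl⟩
    rw [hκ, commutator_def]
    exact Subgroup.commutator_mem_commutator (Subgroup.mem_top _) (Subgroup.mem_top _)
  · rw [commutator_def, Subgroup.commutator_le]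
    intro g _ h _
    obtain ⟨i, hi⟩ := hy g
    obtain ⟨j, hj⟩ := hy h
    obtain ⟨b, hb⟩ : ∃ b, b = g * (y ^ i)⁻¹ := ⟨_, rfl⟩
    obtain ⟨b', hb'⟩ : ∃ b', b' = h * (y ^ j)⁻¹ := ⟨_, rfl⟩
    rw [← hb] at hi; rw [← hb'] at hj
    have hg : g = b * y ^ i := by rw [hb]; group
    have hh : h = b' * y ^ j := by rw [hb']; group
    have e1 : ⁅g, h⁆ = b * ((y ^ i * b' * (y ^ i)⁻¹) * (y ^ j * b⁻¹ * (y ^ j)⁻¹)) * b'⁻¹ := by
      rw [hg, hh, commutatorElement_def]; group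
    have e2 : (y ^ i * b' * (y ^ i)⁻¹) * (y ^ j * b⁻¹ * (y ^ j)⁻¹) =
        (y ^ j * b⁻¹ * (y ^ j)⁻¹) * (y ^ i * b' * (y ^ i)⁻¹) :=
      hB _ (hnorm _ _ hj) _ (hnorm _ _ (B.inv_mem hi))
    have e3 : ⁅g, h⁆ = ⁅b, y ^ j⁆ * (⁅b', y ^ i⁆)⁻¹ := by
      rw [e1, e2]; simp only [commutatorElement_def]; group
    rw [e3]
    exact Subgroup.mul_mem _ (hpow j b hi) (Subgroup.inv_mem _ (hpow i b' hj))

theorem zmod_order_one_mod_p {p : ℕ} [Fact p.Prime] (hp2 : p ≠ 2) (a r : ℕ) (hr : 1 ≤ r)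
    (k : ℕ) (hk : ((r : ZMod (p ^ a)) ^ (p ^ k)) = 1) :
    orderOf (r : ZMod (p ^ a)) = p ^ a / Nat.gcd (p ^ a) (r - 1) := by
  have hp := (Fact.out : p.Prime)
  rcases Nat.eq_zero_or_pos a with rfl | ha
  · haveI : Subsingleton (ZMod (p ^ 0)) := by rw [pow_zero]; infer_instance
    rw [Subsingleton.elim (r : ZMod (p ^ 0)) 1, orderOf_one]
    simp
  have hdvd : p ∣ r - 1 := by
    have h1 : (r : ZMod p) ^ (p ^ k) = 1 := by
      have h2 := congrArg (ZMod.castHom (dvd_pow_self p ha.ne') (ZMod p)) hk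
      rw [map_pow, map_natCast, map_one] at h2
      exact h2
    rw [ZMod.pow_card_pow] at h1
    rw [← ZMod.natCast_eq_zero_iff, Nat.cast_sub hr, h1, Nat.cast_one, sub_self]
  rcases Nat.eq_zero_or_pos (r - 1) with h0 | hpos
  · have hr1 : r = 1 := by omega
    rw [hr1, Nat.cast_one, orderOf_one, Nat.sub_self, Nat.gcd_zero_right,
      Nat.div_self (pow_pos hp.pos a)]
  obtain ⟨s, m, hm, hrm⟩ := Nat.exists_eq_pow_mul_and_not_dvd hpos.ne' p hp.ne_one
  have hs : s ≠ 0 := by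
    rintro rfl
    rw [pow_zero, one_mul] at hrm
    exact hm (hrm ▸ hdvd)
  have hr' : r = 1 + p ^ s * m := by omega
  rw [hrm]
  rcases le_or_gt a s with has | has
  · have h1 : ((p ^ s * m : ℕ) : ZMod (p ^ a)) = 0 := by
      rw [ZMod.natCast_eq_zero_iff]
      exact Dvd.dvd.mul_right (pow_dvd_pow p has) m
    have h2 : (r : ZMod (p ^ a)) = 1 := by
      rw [hr', Nat.cast_add, h1, Nat.cast_one, add_zero]
    rw [h2, orderOf_one, Nat.gcd_eq_left (Dvd.dvd.mul_right (pow_dvd_pow p has) m),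
      Nat.div_self (pow_pos hp.pos a)]
  · obtain ⟨n, rfl⟩ : ∃ n, a = n + s := ⟨a - s, by omega⟩
    have hpm : s + 2 ≤ p * s := by
      have h3 : 3 ≤ p := by
        have := hp.two_le
        omega
      have hs1 : 1 ≤ s := Nat.pos_of_ne_zero hs
      nlinarith
    have hmz : ¬ (p : ℤ) ∣ (m : ℤ) := by
      rw [Int.natCast_dvd_natCast]; exact hm
    have h1 := ZMod.orderOf_one_add_mul_prime_pow hp s hs hpm (m : ℤ) hmz n
    have h2 : (r : ZMod (p ^ (n + s))) = 1 + (p : ZMod (p ^ (n + s))) ^ s * ((m : ℤ) : ZMod (p ^ (n + s))) := by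
      rw [hr']; push_cast; rfl
    rw [h2, h1]
    have h4 : Nat.gcd (p ^ (n + s)) (p ^ s * m) = p ^ s := by
      rw [pow_add, mul_comm (p ^ n) (p ^ s), Nat.gcd_mul_left]
      have h5 : Nat.Coprime (p ^ n) m :=
        Nat.Coprime.pow_left n ((Nat.Prime.coprime_iff_not_dvd hp).mpr hm)
      rw [h5.gcd_eq_one, mul_one]
    rw [h4, pow_add, Nat.mul_div_cancel _ (pow_pos hp.pos s)]

theorem meta_center_index {G : Type*} [Group G] [Finite G] {p : ℕ} [Fact p.Prime] (hp : p ≠ 2)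
    (hG : IsPGroup p G) (hmc : Cfsg.IsMetacyclic G) :
    (Subgroup.center G).index = Nat.card ↥(commutator G) ^ 2 := by
  have hpp := (Fact.out : p.Prime)
  obtain ⟨N, hN, hNc, hQc⟩ := hmc
  haveI := hN; haveI := hNc; haveI := hQc
  obtain ⟨x, hxN, hxgen⟩ : ∃ x : G, x ∈ N ∧ ∀ n ∈ N, n ∈ Subgroup.zpowers x := by
    obtain ⟨g, hg⟩ := IsCyclic.exists_generator (α := N)
    refine ⟨g, g.2, fun n hn => ?_⟩
    obtain ⟨k, hk⟩ := Subgroup.mem_zpowers_iff.mp (hg ⟨n, hn⟩)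
    refine Subgroup.mem_zpowers_iff.mpr ⟨k, ?_⟩
    have h1 := congrArg Subtype.val hk
    rw [Subgroup.coe_zpow] at h1
    exact h1
  obtain ⟨y, hy⟩ : ∃ y : G, ∀ g : G, ∃ j : ℕ, g * (y ^ j)⁻¹ ∈ N := by
    obtain ⟨q, hq⟩ := IsCyclic.exists_generator (α := G ⧸ N)
    obtain ⟨y, rfl⟩ := QuotientGroup.mk_surjective q
    refine ⟨y, fun g => ?_⟩
    have h1 := (mem_powers_iff_mem_zpowers).mpr (hq (QuotientGroup.mk g))
    obtain ⟨j, hj⟩ := (Submonoid.mem_powers_iff _ _).mp h1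
    refine ⟨j, ?_⟩
    rw [← QuotientGroup.mk_pow] at hj
    have h2 : (y ^ j)⁻¹ * g ∈ N := QuotientGroup.eq.mp hj
    have h3 := Subgroup.Normal.conj_mem hN _ h2 (y ^ j)
    have h4 : y ^ j * ((y ^ j)⁻¹ * g) * (y ^ j)⁻¹ = g * (y ^ j)⁻¹ := by group
    rw [h4] at h3
    exact h3
  obtain ⟨a, ha⟩ := (IsPGroup.iff_orderOf.mp hG) x
  obtain ⟨r, hr1, hr⟩ : ∃ r : ℕ, 1 ≤ r ∧ y * x * y⁻¹ = x ^ r := by
    have h1 : y * x * y⁻¹ ∈ Subgroup.zpowers x := hxgen _ (Subgroup.Normal.conj_mem hN _ hxN y)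
    have h2 := (mem_powers_iff_mem_zpowers).mpr h1
    obtain ⟨r, hr⟩ := (Submonoid.mem_powers_iff _ _).mp h2
    refine ⟨r + orderOf x, ?_, ?_⟩
    · have := orderOf_pos x
      omega
    · rw [pow_add, pow_orderOf_eq_one, mul_one, hr]
  have hconj : ∀ n : ℕ, y ^ n * x * (y ^ n)⁻¹ = x ^ (r ^ n) := by
    intro n
    induction n with
    | zero => simp
    | succ n ih =>
      have h1 : y ^ (n + 1) * x * (y ^ (n + 1))⁻¹ = y * (y ^ n * x * (y ^ n)⁻¹) * y⁻¹ := by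
        rw [pow_succ']; group
      have h2 : y * x ^ (r ^ n) * y⁻¹ = (y * x * y⁻¹) ^ (r ^ n) := conj_pow.symm
      rw [h1, ih, h2, hr, ← pow_mul, ← pow_succ']
  obtain ⟨C, hC⟩ : ∃ C : Subgroup G, C = Subgroup.centralizer (N : Set G) := ⟨_, rfl⟩
  have hNab : ∀ a ∈ N, ∀ b ∈ N, a * b = b * a := by
    intro a ha' b hb'
    have h1 := commutative_of_cyclic_center_quotient (MonoidHom.id N) (by simp)
      (⟨a, ha'⟩ : N) ⟨b, hb'⟩
    have h2 := congrArg Subtype.val h1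
    exact h2
  have hNC : N ≤ C := by
    rw [hC]
    intro n hn
    rw [Subgroup.mem_centralizer_iff]
    intro h hh
    exact hNab h hh n hn
  haveI hCn : C.Normal := by rw [hC]; infer_instance
  have hCmem : ∀ g : G, g ∈ C ↔ g * x = x * g := by
    intro g
    rw [hC, Subgroup.mem_centralizer_iff]
    constructor
    · intro h; exact (h x hxN).symm
    · intro h n hn
      obtain ⟨k, rfl⟩ := Subgroup.mem_zpowers_iff.mp (hxgen n hn)
      exact ((show Commute g x from h).zpow_right k).eq.symm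
  have hCab : ∀ a ∈ C, ∀ b ∈ C, a * b = b * a := by
    intro a ha' b hb'
    have h1 := commutative_of_cyclic_center_quotient ((QuotientGroup.mk' N).comp C.subtype) (by
      intro t ht
      rw [MonoidHom.mem_ker, MonoidHom.comp_apply, QuotientGroup.mk'_apply,
        QuotientGroup.eq_one_iff] at ht
      rw [Subgroup.mem_center_iff]
      intro g
      apply Subtype.ext
      have hg := hC.le g.2
      rw [Subgroup.mem_centralizer_iff] at hg
      exact (hg _ ht).symm) (⟨a, ha'⟩ : C) ⟨b, hb'⟩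
    have h2 := congrArg Subtype.val h1
    exact h2
  have hyC : ∀ g : G, ∃ j : ℕ, g * (y ^ j)⁻¹ ∈ C := fun g => (hy g).imp (fun j hj => hNC hj)
  obtain ⟨κC, hκC, hκCr⟩ := comm_split C hCab y hyC
  obtain ⟨κN, hκN, hκNr⟩ := comm_split N hNab y hy
  have hZC : Subgroup.center G ≤ C := by
    intro z hz
    rw [hCmem]
    exact (Subgroup.mem_center_iff.mp hz x).symm
  have hker : κC.ker = (Subgroup.center G).subgroupOf C := by
    ext b
    rw [MonoidHom.mem_ker, hκC, Subgroup.mem_subgroupOf, commutatorElement_eq_one_iff_commute,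
      Subgroup.mem_center_iff]
    constructor
    · intro h g
      obtain ⟨j, hj⟩ := hyC g
      have h2 : (g * (y ^ j)⁻¹) * (b : G) = (b : G) * (g * (y ^ j)⁻¹) := hCab _ hj _ b.2
      have h3 : y ^ j * (b : G) = (b : G) * y ^ j := ((h.pow_right j).eq).symm
      calc g * (b : G) = (g * (y ^ j)⁻¹) * (y ^ j * (b : G)) := by group
        _ = ((g * (y ^ j)⁻¹) * (b : G)) * y ^ j := by rw [h3, ← mul_assoc]
        _ = (b : G) * ((g * (y ^ j)⁻¹) * y ^ j) := by rw [h2, mul_assoc]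
        _ = (b : G) * g := by group
    · intro h
      exact (h y).symm
  have hrel : (Subgroup.center G).relIndex C = Nat.card (commutator G) := by
    rw [← hκCr, ← Subgroup.index_ker, hker]; rfl
  have hcomcard : Nat.card (commutator G) = orderOf (x ^ (r - 1)) := by
    have h1 : κN.range = Subgroup.zpowers ⁅x, y⁆ := by
      apply le_antisymm
      · rintro _ ⟨n, rfl⟩
        obtain ⟨k, hk⟩ := Subgroup.mem_zpowers_iff.mp (hxgen n n.2)
        have h0 : n = (⟨x, hxN⟩ : N) ^ k := by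
          apply Subtype.ext
          rw [Subgroup.coe_zpow]
          exact hk.symm
        rw [h0, map_zpow, hκN]
        exact Subgroup.zpow_mem_zpowers _ k
      · rw [Subgroup.zpowers_le]
        exact ⟨⟨x, hxN⟩, hκN _⟩
    rw [← hκNr, h1, Nat.card_zpowers]
    have h2 : ⁅x, y⁆ = (x ^ (r - 1))⁻¹ := by
      have h3 : ⁅x, y⁆ = x * (y * x * y⁻¹)⁻¹ := by rw [commutatorElement_def]; group
      rw [h3, hr]
      obtain ⟨t, ht⟩ : ∃ t, r = t + 1 := ⟨r - 1, by omega⟩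
      rw [ht, Nat.add_sub_cancel, pow_succ, mul_inv_rev, mul_inv_cancel_left]
    rw [h2, orderOf_inv]
  have hidxC : C.index = orderOf (r : ZMod (p ^ a)) := by
    rw [Subgroup.index_eq_card]
    have hgenq : ∀ q : G ⧸ C, q ∈ Subgroup.zpowers (QuotientGroup.mk y : G ⧸ C) := by
      intro q
      obtain ⟨g, rfl⟩ := QuotientGroup.mk_surjective q
      obtain ⟨j, hj⟩ := hyC g
      rw [Subgroup.mem_zpowers_iff]
      refine ⟨j, ?_⟩
      rw [zpow_natCast, ← QuotientGroup.mk_pow]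
      apply QuotientGroup.eq.mpr
      have h3 := Subgroup.Normal.conj_mem hCn _ hj (y ^ j)⁻¹
      have h4 : (y ^ j)⁻¹ * (g * (y ^ j)⁻¹) * (y ^ j)⁻¹⁻¹ = (y ^ j)⁻¹ * g := by group
      rw [h4] at h3
      exact h3
    rw [← orderOf_eq_card_of_forall_mem_zpowers hgenq, orderOf_eq_orderOf_iff]
    intro n
    rw [← QuotientGroup.mk_pow, QuotientGroup.eq_one_iff, hCmem]
    have h1 : y ^ n * x = x * y ^ n ↔ x ^ (r ^ n) = x ^ 1 := by
      rw [← hconj n, pow_one]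
      constructor
      · intro h; rw [h, mul_inv_cancel_right]
      · intro h
        calc y ^ n * x = (y ^ n * x * (y ^ n)⁻¹) * y ^ n := by group
          _ = x * y ^ n := by rw [h]
    rw [h1, pow_eq_pow_iff_modEq, ha, ← ZMod.natCast_eq_natCast_iff, Nat.cast_pow, Nat.cast_one]
  obtain ⟨k, hk⟩ : ∃ k : ℕ, ((r : ZMod (p ^ a)) ^ (p ^ k)) = 1 := by
    obtain ⟨m, hm⟩ := IsPGroup.iff_card.mp hG
    obtain ⟨k, -, hk⟩ := (Nat.dvd_prime_pow hpp).mp (hm ▸ C.index_dvd_card)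
    refine ⟨k, ?_⟩
    rw [← hk, hidxC]; exact pow_orderOf_eq_one _
  have hNT := zmod_order_one_mod_p hp a r hr1 k hk
  have hord : orderOf (x ^ (r - 1)) = p ^ a / Nat.gcd (p ^ a) (r - 1) := by
    rw [orderOf_pow, ha]
  rw [← Subgroup.relIndex_mul_index hZC, hrel, hidxC, hNT, ← hord, ← hcomcard, sq]

end Cfsg.Agent.Lib.Helper1
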