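import Mathlib
import Cfsg.Agent.Lib.Helper1.MetaCenter
import Cfsg.Agent.Lib.Helper1.MetaSub
import Cfsg.Agent.Lib.Helper1.RankBound
import Cfsg.Agent.Lib.Helper2.PGroup

set_option autoImplicit false

namespace Cfsg.Agent.Lib.Helper1

open scoped commutatorElement

/-- Core regularity: if `l x l⁻¹ = x^ρ`, `orderOf x = p^a`, `l^(p^k) = 1`, then `l^m` commutes
with `x` iff `⁅x,l⁆^m = 1`. -/
theorem meta_reg {G : Type*} [Group G] [Finite G] {p : ℕ} [Fact p.Prime] (hp : p ≠ 2) (x l : G)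
    (a ρ k : ℕ) (ha : orderOf x = p ^ a) (hρ1 : 1 ≤ ρ) (hρ : l * x * l⁻¹ = x ^ ρ)
    (hl : l ^ (p ^ k) = 1) (m : ℕ) :
    l ^ m * x = x * l ^ m ↔ ⁅x, l⁆ ^ m = 1 := by
  have hconj : ∀ n : ℕ, l ^ n * x * (l ^ n)⁻¹ = x ^ (ρ ^ n) := by
    intro n
    induction n with
    | zero => simp
    | succ n ih =>
      have h1 : l ^ (n + 1) * x * (l ^ (n + 1))⁻¹ = l * (l ^ n * x * (l ^ n)⁻¹) * l⁻¹ := by
        rw [pow_succ']; group
      have h2 : l * x ^ (ρ ^ n) * l⁻¹ = (l * x * l⁻¹) ^ (ρ ^ n) := conj_pow.symm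
      rw [h1, ih, h2, hρ, ← pow_mul, ← pow_succ']
  have hk : ((ρ : ZMod (p ^ a)) ^ (p ^ k)) = 1 := by
    have h1 := hconj (p ^ k)
    rw [hl, one_mul, inv_one, mul_one] at h1
    have h2 : x ^ (ρ ^ (p ^ k)) = x ^ 1 := by rw [pow_one]; exact h1.symm
    rw [pow_eq_pow_iff_modEq, ha, ← ZMod.natCast_eq_natCast_iff, Nat.cast_pow, Nat.cast_one] at h2
    exact h2
  have hNT := zmod_order_one_mod_p hp a ρ hρ1 k hk
  have hord : orderOf (x ^ (ρ - 1)) = p ^ a / Nat.gcd (p ^ a) (ρ - 1) := by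
    rw [orderOf_pow, ha]
  have hcomm : ⁅x, l⁆ = (x ^ (ρ - 1))⁻¹ := by
    have h3 : ⁅x, l⁆ = x * (l * x * l⁻¹)⁻¹ := by rw [commutatorElement_def]; group
    rw [h3, hρ]
    obtain ⟨t, ht⟩ : ∃ t, ρ = t + 1 := ⟨ρ - 1, by omega⟩
    rw [ht, Nat.add_sub_cancel, pow_succ, mul_inv_rev, mul_inv_cancel_left]
  have h1 : l ^ m * x = x * l ^ m ↔ x ^ (ρ ^ m) = x ^ 1 := by
    rw [← hconj m, pow_one]
    constructor
    · intro h; rw [h, mul_inv_cancel_right]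
    · intro h
      calc l ^ m * x = (l ^ m * x * (l ^ m)⁻¹) * l ^ m := by group
        _ = x * l ^ m := by rw [h]
  rw [h1, pow_eq_pow_iff_modEq, ha, ← ZMod.natCast_eq_natCast_iff, Nat.cast_pow, Nat.cast_one,
    hcomm, inv_pow, inv_eq_one, ← orderOf_dvd_iff_pow_eq_one, ← orderOf_dvd_iff_pow_eq_one, hord,
    hNT]

/-- the commutator map `b ↦ ⁅b, l⁆` on an abelian normal subgroup is a homomorphism -/
theorem comm_hom_of_ab {G : Type*} [Group G] (B : Subgroup G) [hBn : B.Normal]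
    (hB : ∀ a ∈ B, ∀ b ∈ B, a * b = b * a) (y : G) :
    ∃ κ : B →* G, ∀ b : B, κ b = ⁅(b : G), y⁆ := by
  have hnorm : ∀ (g : G) (b : G), b ∈ B → g * b * g⁻¹ ∈ B :=
    fun g b hb => Subgroup.Normal.conj_mem hBn b hb g
  have hcm : ∀ b ∈ B, ⁅b, y⁆ ∈ B := by
    intro b hb
    have h1 : ⁅b, y⁆ = b * (y * b⁻¹ * y⁻¹) := by rw [commutatorElement_def]; group
    rw [h1]; exact B.mul_mem hb (hnorm y _ (B.inv_mem hb))
  exact
    ⟨{ toFun := fun b => ⁅(b : G), y⁆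
       map_one' := by simp
       map_mul' := by
         intro a b
         show ⁅(a : G) * (b : G), y⁆ = ⁅(a : G), y⁆ * ⁅(b : G), y⁆
         have h1 : ⁅(a : G) * (b : G), y⁆ =
             (a : G) * ⁅(b : G), y⁆ * (a : G)⁻¹ * ⁅(a : G), y⁆ := by
           simp only [commutatorElement_def]; group
         have h2 : (a : G) * ⁅(b : G), y⁆ = ⁅(b : G), y⁆ * (a : G) := hB _ a.2 _ (hcm _ b.2)
         have h3 : ⁅(b : G), y⁆ * ⁅(a : G), y⁆ = ⁅(a : G), y⁆ * ⁅(b : G), y⁆ :=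
           hB _ (hcm _ b.2) _ (hcm _ a.2)
         rw [h1, h2, mul_inv_cancel_right, h3] }, fun b => rfl⟩

/-- class size bound from a subgroup containing all commutators with `g` -/
theorem class_le_of_comm_mem {G : Type*} [Group G] [Finite G] (g : G) (T : Subgroup G)
    (hT : ∀ h : G, ⁅h, g⁆ ∈ T) : (Subgroup.centralizer ({g} : Set G)).index ≤ Nat.card T := by
  rw [Subgroup.index_eq_card]
  apply Nat.card_le_card_of_injective
    (fun q : G ⧸ Subgroup.centralizer ({g} : Set G) => (⟨⁅q.out, g⁆, hT _⟩ : T))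
  intro q q' hqq
  have h1 : ⁅q.out, g⁆ = ⁅q'.out, g⁆ := congrArg Subtype.val hqq
  have h2 : q.out⁻¹ * q'.out ∈ Subgroup.centralizer ({g} : Set G) := by
    rw [Subgroup.mem_centralizer_iff]
    intro z hz
    rw [Set.mem_singleton_iff] at hz
    subst hz
    simp only [commutatorElement_def] at h1
    have h3 := mul_right_cancel h1
    calc z * (q.out⁻¹ * q'.out) = q.out⁻¹ * (q.out * z * q.out⁻¹) * q'.out := by group
      _ = q.out⁻¹ * (q'.out * z * q'.out⁻¹) * q'.out := by rw [h3]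
      _ = q.out⁻¹ * q'.out * z := by group
  rw [← QuotientGroup.out_eq' q, ← QuotientGroup.out_eq' q']
  exact QuotientGroup.eq.mpr h2

theorem mem_zpowers_pow_of_coprime {G : Type*} [Group G] [Finite G] (u : G) (e : ℕ)
    (h : Nat.Coprime e (orderOf u)) : u ∈ Subgroup.zpowers (u ^ e) := by
  rcases Nat.lt_or_ge 1 (orderOf u) with h1 | h1
  · obtain ⟨m, -, hm⟩ := Nat.exists_mul_mod_eq_one_of_coprime h h1
    have h2 : (u ^ e) ^ m = u := by rw [← pow_mul, ← pow_mod_orderOf, hm, pow_one]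
    have h3 : (u ^ e) ^ m ∈ Subgroup.zpowers (u ^ e) := Subgroup.npow_mem_zpowers _ _
    rw [h2] at h3
    exact h3
  · have h2 : orderOf u = 1 := by
      have := orderOf_pos u
      omega
    rw [orderOf_eq_one_iff.mp h2]
    exact one_mem _

theorem mem_zpowers_pow_of_not_dvd {G : Type*} [Group G] [Finite G] {p : ℕ} [Fact p.Prime]
    (hG : IsPGroup p G) (u : G) (e : ℕ) (h : ¬ p ∣ e) : u ∈ Subgroup.zpowers (u ^ e) := by
  have hpp := (Fact.out : p.Prime)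
  obtain ⟨k, hk⟩ := (IsPGroup.iff_orderOf.mp hG) u
  apply mem_zpowers_pow_of_coprime
  rw [hk]
  exact Nat.Coprime.pow_right k ((Nat.Prime.coprime_iff_not_dvd hpp).mpr h).symm

/-- structural set-up of a metacyclic `p`-group, `p` odd -/
theorem meta_setup {G : Type*} [Group G] [Finite G] {p : ℕ} [Fact p.Prime] (hp : p ≠ 2)
    (hG : IsPGroup p G) (hmc : Cfsg.IsMetacyclic G) :
    ∃ (N : Subgroup G) (x y : G) (a : ℕ), N.Normal ∧ x ∈ N ∧
      (∀ n ∈ N, n ∈ Subgroup.zpowers x) ∧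
      (∀ g : G, ∃ j : ℕ, g * (y ^ j)⁻¹ ∈ N) ∧ orderOf x = p ^ a ∧
      (∀ l : G, ∃ ρ : ℕ, 1 ≤ ρ ∧ l * x * l⁻¹ = x ^ ρ) ∧
      (∀ (l : G) (m : ℕ), l ^ m * x = x * l ^ m ↔ ⁅x, l⁆ ^ m = 1) ∧
      commutator G = Subgroup.zpowers ⁅x, y⁆ := by
  have hpp := (Fact.out : p.Prime)
  obtain ⟨N, hN, hNc, hQc⟩ := hmc
  haveI := hN; haveI := hNc; haveI := hQc
  obtain ⟨x, hxN, hxgen⟩ : ∃ x : G, x ∈ N ∧ ∀ n ∈ N, n ∈ Subgroup.zpowers x := by
    obtain ⟨g, hg⟩ := IsCyclic.exists_generator (α := N)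
    refine ⟨g, g.2, fun n hn => ?_⟩
    obtain ⟨k, hk⟩ := Subgroup.mem_zpowers_iff.mp (hg ⟨n, hn⟩)
    refine Subgroup.mem_zpowers_iff.mpr ⟨k, ?_⟩
    have h1 := congrArg Subtype.val hk
    rw [Subgroup.coe_zpow] at h1
    exact h1
  obtain ⟨y, hy⟩ : ∃ y : G, ∀ g : G, ∃ j : ℕ, g * (y ^ j)⁻¹ ∈ N := by
    obtain ⟨q, hq⟩ := IsCyclic.exists_generator (α := G ⧸ N)
    obtain ⟨y, rfl⟩ := QuotientGroup.mk_surjective q
    refine ⟨y, fun g => ?_⟩
    have h1 := (mem_powers_iff_mem_zpowers).mpr (hq (QuotientGroup.mk g))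
    obtain ⟨j, hj⟩ := (Submonoid.mem_powers_iff _ _).mp h1
    refine ⟨j, ?_⟩
    rw [← QuotientGroup.mk_pow] at hj
    have h2 : (y ^ j)⁻¹ * g ∈ N := QuotientGroup.eq.mp hj
    have h3 := Subgroup.Normal.conj_mem hN _ h2 (y ^ j)
    have h4 : y ^ j * ((y ^ j)⁻¹ * g) * (y ^ j)⁻¹ = g * (y ^ j)⁻¹ := by group
    rw [h4] at h3
    exact h3
  obtain ⟨a, ha⟩ := (IsPGroup.iff_orderOf.mp hG) x
  have hρ : ∀ l : G, ∃ ρ : ℕ, 1 ≤ ρ ∧ l * x * l⁻¹ = x ^ ρ := by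
    intro l
    have h1 : l * x * l⁻¹ ∈ Subgroup.zpowers x := hxgen _ (Subgroup.Normal.conj_mem hN _ hxN l)
    have h2 := (mem_powers_iff_mem_zpowers).mpr h1
    obtain ⟨r, hr⟩ := (Submonoid.mem_powers_iff _ _).mp h2
    refine ⟨r + orderOf x, ?_, ?_⟩
    · have := orderOf_pos x
      omega
    · rw [pow_add, pow_orderOf_eq_one, mul_one, hr]
  have hNab : ∀ a ∈ N, ∀ b ∈ N, a * b = b * a := by
    intro a ha' b hb'
    have h1 := commutative_of_cyclic_center_quotient (MonoidHom.id N) (by simp)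
      (⟨a, ha'⟩ : N) ⟨b, hb'⟩
    have h2 := congrArg Subtype.val h1
    exact h2
  obtain ⟨κN, hκN, hκNr⟩ := comm_split N hNab y hy
  refine ⟨N, x, y, a, hN, hxN, hxgen, hy, ha, hρ, ?_, ?_⟩
  · intro l m
    obtain ⟨ρ, hρ1, hρl⟩ := hρ l
    obtain ⟨k, hk⟩ := (IsPGroup.iff_orderOf.mp hG) l
    exact meta_reg hp x l a ρ k ha hρ1 hρl (by rw [← hk]; exact pow_orderOf_eq_one l) m
  · rw [← hκNr]
    apply le_antisymm
    · rintro _ ⟨n, rfl⟩
      obtain ⟨k, hk⟩ := Subgroup.mem_zpowers_iff.mp (hxgen n n.2)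
      have h0 : n = (⟨x, hxN⟩ : N) ^ k := by
        apply Subtype.ext
        rw [Subgroup.coe_zpow]
        exact hk.symm
      rw [h0, map_zpow, hκN]
      exact Subgroup.zpow_mem_zpowers _ k
    · rw [Subgroup.zpowers_le]
      exact ⟨⟨x, hxN⟩, hκN _⟩

end Cfsg.Agent.Lib.Helper1
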