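import Mathlib
import Cfsg.Agent.Lib.Helper1.MetaStruct

set_option autoImplicit false
set_option maxHeartbeats 1600000

namespace Cfsg.Agent.Lib.Helper1

open scoped commutatorElement

theorem conj_pow_pow {G : Type*} [Group G] (x l : G) (ρ : ℕ) (hρ : l * x * l⁻¹ = x ^ ρ) (n : ℕ) :
    l ^ n * x * (l ^ n)⁻¹ = x ^ (ρ ^ n) := by
  induction n with
  | zero => simp
  | succ n ih =>
    have h1 : l ^ (n + 1) * x * (l ^ (n + 1))⁻¹ = l * (l ^ n * x * (l ^ n)⁻¹) * l⁻¹ := by
      rw [pow_succ']; group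
    have h2 : l * x ^ (ρ ^ n) * l⁻¹ = (l * x * l⁻¹) ^ (ρ ^ n) := conj_pow.symm
    rw [h1, ih, h2, hρ, ← pow_mul, ← pow_succ']

theorem meta_rho_dvd {G : Type*} [Group G] [Finite G] {p : ℕ} [Fact p.Prime] (x l : G)
    (a ρ k : ℕ) (ha : orderOf x = p ^ a) (ha1 : a ≠ 0) (hρ1 : 1 ≤ ρ)
    (hρ : l * x * l⁻¹ = x ^ ρ) (hl : l ^ (p ^ k) = 1) : p ∣ ρ - 1 := by
  have h1 := conj_pow_pow x l ρ hρ (p ^ k)
  rw [hl, one_mul, inv_one, mul_one] at h1
  have h2 : x ^ (ρ ^ (p ^ k)) = x ^ 1 := by rw [pow_one]; exact h1.symm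
  rw [pow_eq_pow_iff_modEq, ha, ← ZMod.natCast_eq_natCast_iff, Nat.cast_pow, Nat.cast_one] at h2
  have h3 : (ρ : ZMod p) ^ (p ^ k) = 1 := by
    have h4 := congrArg (ZMod.castHom (dvd_pow_self p ha1) (ZMod p)) h2
    rw [map_pow, map_natCast, map_one] at h4
    exact h4
  rw [ZMod.pow_card_pow] at h3
  rw [← ZMod.natCast_eq_zero_iff, Nat.cast_sub hρ1, h3, Nat.cast_one, sub_self]

/-- further set-up: the centralizer `C` of the cyclic normal subgroup -/
theorem meta_setup2 {G : Type*} [Group G] [Finite G] {p : ℕ} [Fact p.Prime] (hp : p ≠ 2)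
    (hG : IsPGroup p G) (hmc : Cfsg.IsMetacyclic G) :
    ∃ (N C : Subgroup G) (x y : G) (a : ℕ), N.Normal ∧ C.Normal ∧ x ∈ N ∧ N ≤ C ∧
      (∀ n ∈ N, n ∈ Subgroup.zpowers x) ∧
      (∀ g : G, ∃ j : ℕ, g * (y ^ j)⁻¹ ∈ N) ∧ orderOf x = p ^ a ∧
      (∀ l : G, ∃ ρ : ℕ, 1 ≤ ρ ∧ l * x * l⁻¹ = x ^ ρ) ∧
      (∀ (l : G) (m : ℕ), l ^ m * x = x * l ^ m ↔ ⁅x, l⁆ ^ m = 1) ∧
      commutator G = Subgroup.zpowers ⁅x, y⁆ ∧
      (∀ g : G, g ∈ C ↔ g * x = x * g) ∧
      (∀ u ∈ C, ∀ v ∈ C, u * v = v * u) := by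
  obtain ⟨N, x, y, a, hN, hxN, hxgen, hy, ha, hρ, hreg, hcomm⟩ := meta_setup hp hG hmc
  haveI := hN
  have hNab : ∀ a ∈ N, ∀ b ∈ N, a * b = b * a := by
    intro u hu v hv
    obtain ⟨i, rfl⟩ := Subgroup.mem_zpowers_iff.mp (hxgen u hu)
    obtain ⟨j, rfl⟩ := Subgroup.mem_zpowers_iff.mp (hxgen v hv)
    rw [← zpow_add, ← zpow_add, add_comm]
  obtain ⟨C, hC⟩ : ∃ C : Subgroup G, C = Subgroup.centralizer (N : Set G) := ⟨_, rfl⟩
  have hNC : N ≤ C := by
    rw [hC]
    intro n hn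
    rw [Subgroup.mem_centralizer_iff]
    intro h hh
    exact hNab h hh n hn
  haveI hCn : C.Normal := by rw [hC]; infer_instance
  have hCmem : ∀ g : G, g ∈ C ↔ g * x = x * g := by
    intro g
    rw [hC, Subgroup.mem_centralizer_iff]
    constructor
    · intro h; exact (h x hxN).symm
    · intro h n hn
      obtain ⟨k, rfl⟩ := Subgroup.mem_zpowers_iff.mp (hxgen n hn)
      exact ((show Commute g x from h).zpow_right k).eq.symm
  have hcentN : ∀ c ∈ C, ∀ n ∈ N, c * n = n * c := by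
    intro c hc n hn
    exact (Subgroup.mem_centralizer_iff.mp (hC.le hc) n hn).symm
  have hCab : ∀ u ∈ C, ∀ v ∈ C, u * v = v * u := by
    intro u hu v hv
    obtain ⟨i, hi⟩ := hy u
    obtain ⟨j, hj⟩ := hy v
    have hyi : y ^ i ∈ C := by
      have h0 : y ^ i = (u * (y ^ i)⁻¹)⁻¹ * u := by group
      rw [h0]; exact C.mul_mem (C.inv_mem (hNC hi)) hu
    have hyj : y ^ j ∈ C := by
      have h0 : y ^ j = (v * (y ^ j)⁻¹)⁻¹ * v := by group
      rw [h0]; exact C.mul_mem (C.inv_mem (hNC hj)) hv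
    have c1 : (u * (y ^ i)⁻¹) * (v * (y ^ j)⁻¹) = (v * (y ^ j)⁻¹) * (u * (y ^ i)⁻¹) :=
      hNab _ hi _ hj
    have c2 : y ^ i * (v * (y ^ j)⁻¹) = (v * (y ^ j)⁻¹) * y ^ i := hcentN _ hyi _ hj
    have c3 : y ^ j * (u * (y ^ i)⁻¹) = (u * (y ^ i)⁻¹) * y ^ j := hcentN _ hyj _ hi
    have c4 : y ^ i * y ^ j = y ^ j * y ^ i := by rw [← pow_add, ← pow_add, add_comm]
    calc u * v = (u * (y ^ i)⁻¹) * (y ^ i * (v * (y ^ j)⁻¹)) * y ^ j := by group
      _ = (u * (y ^ i)⁻¹) * ((v * (y ^ j)⁻¹) * y ^ i) * y ^ j := by rw [c2]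
      _ = ((u * (y ^ i)⁻¹) * (v * (y ^ j)⁻¹)) * (y ^ i * y ^ j) := by group
      _ = ((v * (y ^ j)⁻¹) * (u * (y ^ i)⁻¹)) * (y ^ j * y ^ i) := by rw [c1, c4]
      _ = (v * (y ^ j)⁻¹) * ((u * (y ^ i)⁻¹) * y ^ j) * y ^ i := by group
      _ = (v * (y ^ j)⁻¹) * (y ^ j * (u * (y ^ i)⁻¹)) * y ^ i := by rw [c3]
      _ = v * u := by group
  exact ⟨N, C, x, y, a, hN, hCn, hxN, hNC, hxgen, hy, ha, hρ, hreg, hcomm, hCmem, hCab⟩

theorem meta_frattini_cent {G : Type*} [Group G] [Finite G] {p : ℕ} [Fact p.Prime] (hp : p ≠ 2)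
    (hG : IsPGroup p G) (hmc : Cfsg.IsMetacyclic G) (hna : ¬ IsMulCommutative G) (g : G) :
    g ∉ frattini G ↔ IsMulCommutative ↥(Subgroup.centralizer ({g} : Set G)) := by
  classical
  have hpp := (Fact.out : p.Prime)
  obtain ⟨N, C, x, y, a, hN, hCn, hxN, hNC, hxgen, hy, ha, hρ, hreg, hcomm, hCmem, hCab⟩ :=
    meta_setup2 hp hG hmc
  haveI := hN; haveI := hCn
  have hyC : ∀ g : G, ∃ j : ℕ, g * (y ^ j)⁻¹ ∈ C := fun g => (hy g).imp (fun j hj => hNC hj)
  have hgenq : ∀ q : G ⧸ C, q ∈ Subgroup.zpowers (QuotientGroup.mk y : G ⧸ C) := by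
    intro q
    obtain ⟨g, rfl⟩ := QuotientGroup.mk_surjective q
    obtain ⟨j, hj⟩ := hyC g
    rw [Subgroup.mem_zpowers_iff]
    refine ⟨j, ?_⟩
    rw [zpow_natCast, ← QuotientGroup.mk_pow]
    apply QuotientGroup.eq.mpr
    have h3 := Subgroup.Normal.conj_mem hCn _ hj (y ^ j)⁻¹
    have h4 : (y ^ j)⁻¹ * (g * (y ^ j)⁻¹) * (y ^ j)⁻¹⁻¹ = (y ^ j)⁻¹ * g := by group
    rw [h4] at h3
    exact h3
  haveI hcyc : IsCyclic (G ⧸ C) :=
    isCyclic_iff_exists_zpowers_eq_top.mpr ⟨QuotientGroup.mk y, (Subgroup.eq_top_iff' _).mpr hgenq⟩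
  have hordq : ∀ l : G, orderOf (QuotientGroup.mk l : G ⧸ C) = orderOf ⁅x, l⁆ := by
    intro l
    rw [orderOf_eq_orderOf_iff]
    intro m
    rw [← QuotientGroup.mk_pow, QuotientGroup.eq_one_iff, hCmem, hreg]
  have hchain : ∀ u l : G, orderOf ⁅x, u⁆ ≤ orderOf ⁅x, l⁆ → ∃ e : ℕ, u * (l ^ e)⁻¹ ∈ C := by
    intro u l hle
    have h1 : (QuotientGroup.mk u : G ⧸ C) ∈ Subgroup.zpowers (QuotientGroup.mk l : G ⧸ C) := by
      apply cyc_mem_zpowers
      obtain ⟨s, hs⟩ := (IsPGroup.iff_orderOf.mp hG) ⁅x, u⁆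
      obtain ⟨t, ht⟩ := (IsPGroup.iff_orderOf.mp hG) ⁅x, l⁆
      rw [← orderOf_dvd_iff_pow_eq_one, hordq u, hordq l, hs, ht]
      apply pow_dvd_pow
      rw [hs, ht] at hle
      exact (Nat.pow_le_pow_iff_right hpp.one_lt).mp hle
    have h2 := (mem_powers_iff_mem_zpowers).mpr h1
    obtain ⟨e, he⟩ := (Submonoid.mem_powers_iff _ _).mp h2
    refine ⟨e, ?_⟩
    rw [← QuotientGroup.mk_pow] at he
    have h3 : (l ^ e)⁻¹ * u ∈ C := QuotientGroup.eq.mp he
    have h4 := Subgroup.Normal.conj_mem hCn _ h3 (l ^ e)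
    have h5 : l ^ e * ((l ^ e)⁻¹ * u) * (l ^ e)⁻¹ = u * (l ^ e)⁻¹ := by group
    rw [h5] at h4; exact h4
  have hyC' : y ∉ C := by
    intro hyc
    apply hna
    refine ⟨⟨fun u v => ?_⟩⟩
    obtain ⟨i, hi⟩ := hy u
    obtain ⟨j, hj⟩ := hy v
    have hu : u ∈ C := by
      have h0 : u = u * (y ^ i)⁻¹ * y ^ i := by group
      rw [h0]; exact C.mul_mem (hNC hi) (C.pow_mem hyc i)
    have hv : v ∈ C := by
      have h0 : v = v * (y ^ j)⁻¹ * y ^ j := by group
      rw [h0]; exact C.mul_mem (hNC hj) (C.pow_mem hyc j)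
    exact hCab u hu v hv
  constructor
  · intro hgF
    have hclaim : ∀ c ∈ C, ∀ k : G, k ∉ C → c * k = k * c → c ∈ frattini G := by
      intro c hc k hkC hck
      obtain ⟨j, hj⟩ := hy c
      obtain ⟨l, hl⟩ := (Submonoid.mem_powers_iff _ _).mp
        ((mem_powers_iff_mem_zpowers).mpr (hxgen _ hj))
      have hceq : c = x ^ l * y ^ j := by rw [hl]; group
      have hyjC : y ^ j ∈ C := by
        have h0 : y ^ j = (x ^ l)⁻¹ * c := by rw [hceq]; group
        rw [h0]; exact C.mul_mem (C.inv_mem (C.pow_mem (hNC hxN) l)) hc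
      have hyjZ : ∀ h : G, y ^ j * h = h * y ^ j := by
        intro h
        obtain ⟨i, hi⟩ := hy h
        have h1 : y ^ j * (h * (y ^ i)⁻¹) = (h * (y ^ i)⁻¹) * y ^ j := hCab _ hyjC _ (hNC hi)
        have h2 : y ^ j * y ^ i = y ^ i * y ^ j := by rw [← pow_add, ← pow_add, add_comm]
        calc y ^ j * h = y ^ j * (h * (y ^ i)⁻¹) * y ^ i := by group
          _ = (h * (y ^ i)⁻¹) * (y ^ j * y ^ i) := by rw [h1]; group
          _ = (h * (y ^ i)⁻¹) * (y ^ i * y ^ j) := by rw [h2]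
          _ = h * y ^ j := by group
      have hpj : p ∣ j := by
        by_contra hpj
        apply hyC'
        have h1 := mem_zpowers_pow_of_not_dvd hG y j hpj
        exact (Subgroup.zpowers_le.mpr hyjC) h1
      have hxlk : x ^ l * k = k * x ^ l := by
        have h2 : (y ^ j)⁻¹ * k = k * (y ^ j)⁻¹ := by
          have h3 := hyjZ k
          calc (y ^ j)⁻¹ * k = (y ^ j)⁻¹ * (k * y ^ j) * (y ^ j)⁻¹ := by group
            _ = (y ^ j)⁻¹ * (y ^ j * k) * (y ^ j)⁻¹ := by rw [h3]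
            _ = k * (y ^ j)⁻¹ := by group
        rw [hl, mul_assoc, h2, ← mul_assoc, hck, mul_assoc]
      have hpl : p ∣ l := by
        by_contra hpl
        apply hkC
        rw [hCmem]
        have h1 := mem_zpowers_pow_of_not_dvd hG x l hpl
        obtain ⟨z, hz⟩ := Subgroup.mem_zpowers_iff.mp h1
        rw [← hz]
        exact ((show Commute k (x ^ l) from hxlk.symm).zpow_right z).eq
      obtain ⟨j', rfl⟩ := hpj
      obtain ⟨l', rfl⟩ := hpl
      rw [hceq, pow_mul', pow_mul']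
      exact (frattini G).mul_mem (Cfsg.Agent.Lib.Helper2.pow_mem_frattini_of_pGroup hG _)
        (Cfsg.Agent.Lib.Helper2.pow_mem_frattini_of_pGroup hG _)
    have key : ∀ c ∈ C, c * g = g * c → ∀ k : G, k * g = g * k → c * k = k * c := by
      intro c hc hcg k hkg
      by_contra hck
      have hkC : k ∉ C := fun hk => hck (hCab c hc k hk)
      rcases le_or_gt (orderOf ⁅x, k⁆) (orderOf ⁅x, g⁆) with hle | hlt
      · obtain ⟨e, he⟩ := hchain k g hle
        apply hck
        have h1 : c * (k * (g ^ e)⁻¹) = (k * (g ^ e)⁻¹) * c := hCab c hc _ he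
        have h2 : c * g ^ e = g ^ e * c := ((show Commute c g from hcg).pow_right e).eq
        calc c * k = c * (k * (g ^ e)⁻¹) * g ^ e := by group
          _ = (k * (g ^ e)⁻¹) * (c * g ^ e) := by rw [h1]; group
          _ = (k * (g ^ e)⁻¹) * (g ^ e * c) := by rw [h2]
          _ = k * c := by group
      · obtain ⟨e, he⟩ := hchain g k hlt.le
        have hgeq : g = (g * (k ^ e)⁻¹) * k ^ e := by group
        have hpe : p ∣ e := by
          by_contra hpe
          apply absurd hlt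
          rw [not_lt, ← hordq k, ← hordq g]
          have h1 : (QuotientGroup.mk g : G ⧸ C) = QuotientGroup.mk (k ^ e) := by
            rw [hgeq, QuotientGroup.mk_mul, (QuotientGroup.eq_one_iff _).mpr he, one_mul]
          rw [h1, QuotientGroup.mk_pow]
          have h2 : Nat.Coprime (orderOf (QuotientGroup.mk k : G ⧸ C)) e := by
            obtain ⟨s, hs⟩ := (IsPGroup.iff_orderOf.mp hG) ⁅x, k⁆
            rw [hordq k, hs]
            exact Nat.Coprime.pow_left s ((Nat.Prime.coprime_iff_not_dvd hpp).mpr hpe)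
          rw [h2.orderOf_pow]
        obtain ⟨e', rfl⟩ := hpe
        have hc₂k : (g * (k ^ (p * e'))⁻¹) * k = k * (g * (k ^ (p * e'))⁻¹) := by
          have h1 : g * k = k * g := hkg.symm
          calc g * (k ^ (p * e'))⁻¹ * k = g * k * (k ^ (p * e'))⁻¹ := by group
            _ = k * g * (k ^ (p * e'))⁻¹ := by rw [h1]
            _ = k * (g * (k ^ (p * e'))⁻¹) := by group
        have hc₂F : g * (k ^ (p * e'))⁻¹ ∈ frattini G := hclaim _ he k hkC hc₂k
        apply hgF
        rw [hgeq, pow_mul']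
        rw [pow_mul'] at hc₂F
        exact (frattini G).mul_mem hc₂F
          (Cfsg.Agent.Lib.Helper2.pow_mem_frattini_of_pGroup hG (k ^ e'))
    refine ⟨⟨fun u v => ?_⟩⟩
    exact commutative_of_cyclic_center_quotient
      ((QuotientGroup.mk' C).comp (Subgroup.centralizer ({g} : Set G)).subtype) (by
        intro t ht
        rw [MonoidHom.mem_ker, MonoidHom.comp_apply, QuotientGroup.mk'_apply,
          QuotientGroup.eq_one_iff] at ht
        rw [Subgroup.mem_center_iff]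
        intro k
        apply Subtype.ext
        have htg : (t : G) * g = g * (t : G) :=
          (Subgroup.mem_centralizer_iff.mp t.2 g (Set.mem_singleton g)).symm
        have hkg : (k : G) * g = g * (k : G) :=
          (Subgroup.mem_centralizer_iff.mp k.2 g (Set.mem_singleton g)).symm
        exact (key (t : G) ht htg (k : G) hkg).symm) u v
  · intro hK hgF
    obtain ⟨w, hw⟩ : ∃ w, w = ⁅x, y⁆ := ⟨_, rfl⟩
    have hw1 : w ≠ 1 := by
      intro h; apply hyC'
      rw [hCmem]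
      rw [hw, commutatorElement_eq_one_iff_commute] at h
      exact h.eq.symm
    have hcommw : commutator G = Subgroup.zpowers w := by rw [hw]; exact hcomm
    have hx1 : x ≠ 1 := by
      intro h; apply hw1; rw [hw, h]; simp
    have ha1 : a ≠ 0 := by
      intro h; apply hx1; rw [← orderOf_eq_one_iff, ha, h, pow_zero]
    have hwN : w ∈ Subgroup.zpowers x := by
      apply hxgen
      rw [hw]
      have h1 : ⁅x, y⁆ = x * (y * x⁻¹ * y⁻¹) := by rw [commutatorElement_def]; group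
      rw [h1]; exact N.mul_mem hxN (hN.conj_mem _ (N.inv_mem hxN) y)
    have hcm : ∀ u v : G, ⁅u, v⁆ ∈ Subgroup.zpowers w := by
      intro u v
      rw [← hcommw, commutator_def]
      exact Subgroup.commutator_mem_commutator (Subgroup.mem_top _) (Subgroup.mem_top _)
    obtain ⟨T, hT⟩ : ∃ T : Subgroup G, T = Subgroup.zpowers (w ^ p) := ⟨_, rfl⟩
    have hT1 : ∀ (h : G) (t : G), t ∈ Subgroup.zpowers w → ⁅h, t⁆ ∈ T := by
      intro h t ht
      obtain ⟨ρ, hρ1, hρl⟩ := hρ h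
      obtain ⟨k, hk⟩ := (IsPGroup.iff_orderOf.mp hG) h
      have hdvd : p ∣ ρ - 1 :=
        meta_rho_dvd x h a ρ k ha ha1 hρ1 hρl (by rw [← hk]; exact pow_orderOf_eq_one h)
      obtain ⟨c, hc⟩ := hdvd
      have hρc : ρ = p * c + 1 := by omega
      obtain ⟨s, hs⟩ := Subgroup.mem_zpowers_iff.mp hwN
      have hwconj : h * w * h⁻¹ = w ^ ρ := by
        rw [← hs, ← conj_zpow, hρl, ← zpow_natCast, ← zpow_natCast, ← zpow_mul, ← zpow_mul,
          mul_comm]
      obtain ⟨i, rfl⟩ := Subgroup.mem_zpowers_iff.mp ht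
      have h1 : ⁅h, w ^ i⁆ = (w ^ p) ^ ((c : ℤ) * i) := by
        rw [commutatorElement_def, ← conj_zpow, hwconj, ← zpow_natCast w ρ, ← zpow_natCast w p,
          ← zpow_mul, ← zpow_mul, ← zpow_neg, ← zpow_add]
        congr 1
        rw [hρc]; push_cast; ring
      rw [h1, hT]; exact Subgroup.zpow_mem_zpowers _ _
    have hTw : ∀ t ∈ T, t ∈ Subgroup.zpowers w := by
      intro t ht
      rw [hT] at ht
      obtain ⟨i, rfl⟩ := Subgroup.mem_zpowers_iff.mp ht
      rw [← zpow_natCast, ← zpow_mul]; exact Subgroup.zpow_mem_zpowers _ _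
    haveI hTn : T.Normal := by
      constructor
      intro t ht h
      have h1 : h * t * h⁻¹ = ⁅h, t⁆ * t := by rw [commutatorElement_def]; group
      rw [h1]
      exact Subgroup.mul_mem _ (hT1 h t (hTw t ht)) ht
    have hcen : ∀ q1 q2 q3 : G ⧸ T, Commute ⁅q1, q2⁆ q3 := by
      intro q1 q2 q3
      obtain ⟨u, rfl⟩ := QuotientGroup.mk_surjective q1
      obtain ⟨v, rfl⟩ := QuotientGroup.mk_surjective q2
      obtain ⟨h, rfl⟩ := QuotientGroup.mk_surjective q3
      have e1 : ⁅(QuotientGroup.mk u : G ⧸ T), QuotientGroup.mk v⁆ = QuotientGroup.mk ⁅u, v⁆ :=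
        (map_commutatorElement (QuotientGroup.mk' T) u v).symm
      show ⁅(QuotientGroup.mk u : G ⧸ T), QuotientGroup.mk v⁆ * QuotientGroup.mk h =
        QuotientGroup.mk h * ⁅(QuotientGroup.mk u : G ⧸ T), QuotientGroup.mk v⁆
      rw [e1, ← QuotientGroup.mk_mul, ← QuotientGroup.mk_mul]
      apply QuotientGroup.eq.mpr
      have h2 : (⁅u, v⁆ * h)⁻¹ * (h * ⁅u, v⁆) = ⁅h⁻¹, ⁅u, v⁆⁻¹⁆ := by
        simp only [commutatorElement_def]; group
      rw [h2]
      exact hT1 _ _ (Subgroup.inv_mem _ (hcm u v))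
    obtain ⟨W, hW⟩ : ∃ W : Subgroup G, W = (Subgroup.center (G ⧸ T)).comap (QuotientGroup.mk' T) :=
      ⟨_, rfl⟩
    have hWmem : ∀ u : G, u ∈ W ↔ ∀ h : G, ⁅h, u⁆ ∈ T := by
      intro u
      rw [hW, Subgroup.mem_comap, Subgroup.mem_center_iff]
      constructor
      · intro hu h
        have h1 := hu (QuotientGroup.mk h)
        rw [← QuotientGroup.eq_one_iff, ← QuotientGroup.mk'_apply, map_commutatorElement,
          commutatorElement_eq_one_iff_commute]
        exact h1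
      · intro hu q
        obtain ⟨h, rfl⟩ := QuotientGroup.mk_surjective q
        have h1 := hu h
        rw [← QuotientGroup.eq_one_iff, ← QuotientGroup.mk'_apply, map_commutatorElement,
          commutatorElement_eq_one_iff_commute] at h1
        exact h1
    have hFW : frattini G ≤ W := by
      apply frattini_le_of_elem_ab (p := p) W
      · intro u v
        rw [hWmem]; intro h
        exact hT1 _ _ (hcm u v)
      · intro u
        rw [hWmem]; intro h
        have hpowT : ⁅h, u⁆ ^ p ∈ T := by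
          obtain ⟨i, hi⟩ := Subgroup.mem_zpowers_iff.mp (hcm h u)
          rw [← hi, ← zpow_natCast, ← zpow_mul, mul_comm, zpow_mul, zpow_natCast, hT]
          exact Subgroup.zpow_mem_zpowers _ _
        have h1 : ⁅(QuotientGroup.mk' T) h, ((QuotientGroup.mk' T) u) ^ p⁆ =
            (⁅(QuotientGroup.mk' T) h, (QuotientGroup.mk' T) u⁆) ^ p := by
          rw [← c2_commR_apply hcen, map_pow, c2_commR_apply]
        have h4 : (QuotientGroup.mk' T) (⁅h, u⁆ ^ p) = 1 := (QuotientGroup.eq_one_iff _).mpr hpowT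
        rw [map_pow] at h4
        have h3 : (QuotientGroup.mk' T) ⁅h, u ^ p⁆ = 1 := by
          rw [map_commutatorElement, map_pow, h1, ← map_commutatorElement]
          exact h4
        exact (QuotientGroup.eq_one_iff _).mp h3
    have hgW : ∀ h : G, ⁅h, g⁆ ∈ T := (hWmem g).mp (hFW hgF)
    have hidx : (Subgroup.centralizer ({g} : Set G)).index ≤ Nat.card T :=
      class_le_of_comm_mem g T hgW
    have hTcard : Nat.card T < orderOf w := by
      rw [hT, Nat.card_zpowers, orderOf_pow]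
      obtain ⟨n, hn⟩ := (IsPGroup.iff_orderOf.mp hG) w
      rw [hn]
      rcases n with _ | n
      · exfalso; apply hw1; rw [← orderOf_eq_one_iff, hn, pow_zero]
      · have h1 : Nat.gcd (p ^ (n + 1)) p = p :=
          Nat.gcd_eq_right (dvd_pow_self p (Nat.succ_ne_zero n))
        rw [h1, pow_succ, Nat.mul_div_cancel _ hpp.pos]
        have h5 := hpp.one_lt
        have h2 : 0 < p ^ n := pow_pos hpp.pos n
        nlinarith
    have hCidx : C.index = orderOf w := by
      rw [Subgroup.index_eq_card, ← orderOf_eq_card_of_forall_mem_zpowers hgenq, hordq y, hw]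
    have habound : ∀ A : Subgroup G, (∀ u ∈ A, ∀ v ∈ A, u * v = v * u) →
        Nat.card A ≤ Nat.card C := by
      intro A hA
      obtain ⟨l, hlA, hlmax⟩ : ∃ l ∈ A, ∀ u ∈ A, orderOf ⁅x, u⁆ ≤ orderOf ⁅x, l⁆ := by
        obtain ⟨l, hl⟩ := Finite.exists_max (fun u : A => orderOf ⁅x, (u : G)⁆)
        exact ⟨l, l.2, fun u hu => hl ⟨u, hu⟩⟩
      have hlM : l ^ orderOf ⁅x, l⁆ ∈ C := by rw [hCmem, hreg]; exact pow_orderOf_eq_one _
      have hdec : ∀ u ∈ A, ∃ e : ℕ, e < orderOf ⁅x, l⁆ ∧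
          u * (l ^ e)⁻¹ ∈ C ⊓ Subgroup.centralizer ({l} : Set G) := by
        intro u hu
        obtain ⟨e, he⟩ := hchain u l (hlmax u hu)
        refine ⟨e % orderOf ⁅x, l⁆, Nat.mod_lt _ (orderOf_pos _), ?_, ?_⟩
        · have h2 : l ^ e = (l ^ orderOf ⁅x, l⁆) ^ (e / orderOf ⁅x, l⁆) * l ^ (e % orderOf ⁅x, l⁆) := by
            rw [← pow_mul, ← pow_add, Nat.div_add_mod]
          have h3 : u * (l ^ (e % orderOf ⁅x, l⁆))⁻¹ =
              u * (l ^ e)⁻¹ * (l ^ orderOf ⁅x, l⁆) ^ (e / orderOf ⁅x, l⁆) := by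
            rw [h2]; group
          rw [h3]
          exact C.mul_mem he (C.pow_mem hlM _)
        · show u * (l ^ (e % orderOf ⁅x, l⁆))⁻¹ ∈ Subgroup.centralizer ({l} : Set G)
          rw [Subgroup.mem_centralizer_iff]
          intro z hz
          rw [Set.mem_singleton_iff] at hz
          rw [hz]
          have h1 : l * u = u * l := hA l hlA u hu
          calc l * (u * (l ^ (e % orderOf ⁅x, l⁆))⁻¹) = (l * u) * (l ^ (e % orderOf ⁅x, l⁆))⁻¹ := by
                group
            _ = u * l * (l ^ (e % orderOf ⁅x, l⁆))⁻¹ := by rw [h1]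
            _ = u * (l ^ (e % orderOf ⁅x, l⁆))⁻¹ * l := by group
      choose! E hE1 hE2 using hdec
      have hinj : Nat.card A ≤
          Nat.card (↥(C ⊓ Subgroup.centralizer ({l} : Set G)) × Fin (orderOf ⁅x, l⁆)) := by
        apply Nat.card_le_card_of_injective (fun u : A =>
          ((⟨(u : G) * (l ^ E u)⁻¹, hE2 u u.2⟩ : ↥(C ⊓ Subgroup.centralizer ({l} : Set G))),
            (⟨E u, hE1 u u.2⟩ : Fin (orderOf ⁅x, l⁆))))
        intro u v huv
        simp only [Prod.mk.injEq, Subtype.mk.injEq, Fin.mk.injEq] at huv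
        obtain ⟨h1, h2⟩ := huv
        rw [h2] at h1
        exact Subtype.ext (mul_right_cancel h1)
      rw [Nat.card_prod, Nat.card_fin] at hinj
      obtain ⟨κ, hκ⟩ := comm_hom_of_ab C hCab l
      have hker : Nat.card κ.ker = Nat.card ↥(C ⊓ Subgroup.centralizer ({l} : Set G)) := by
        have h0 : κ.ker = (C ⊓ Subgroup.centralizer ({l} : Set G)).subgroupOf C := by
          ext c
          rw [MonoidHom.mem_ker, hκ, Subgroup.mem_subgroupOf, commutatorElement_eq_one_iff_commute]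
          constructor
          · intro h
            refine ⟨c.2, ?_⟩
            show (c : G) ∈ Subgroup.centralizer ({l} : Set G)
            rw [Subgroup.mem_centralizer_iff]
            intro z hz
            rw [Set.mem_singleton_iff] at hz
            rw [hz]; exact h.eq.symm
          · intro h
            exact ((Subgroup.mem_centralizer_iff.mp h.2) l (Set.mem_singleton l)).symm
        rw [h0]
        exact Nat.card_congr (Subgroup.subgroupOfEquivOfLe inf_le_left).toEquiv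
      have hrange : orderOf ⁅x, l⁆ ≤ Nat.card κ.range := by
        have h2 : orderOf (κ ⟨x, hNC hxN⟩) ∣ Nat.card κ.range := by
          rw [← Nat.card_zpowers]
          exact Subgroup.card_dvd_of_le (Subgroup.zpowers_le.mpr ⟨_, rfl⟩)
        rw [hκ] at h2
        exact Nat.le_of_dvd Nat.card_pos h2
      have hCcard : Nat.card C = Nat.card κ.ker * Nat.card κ.range := by
        rw [← Subgroup.index_ker, Subgroup.card_mul_index]
      calc Nat.card A ≤ Nat.card ↥(C ⊓ Subgroup.centralizer ({l} : Set G)) * orderOf ⁅x, l⁆ := hinj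
        _ ≤ Nat.card ↥(C ⊓ Subgroup.centralizer ({l} : Set G)) * Nat.card κ.range :=
            Nat.mul_le_mul_left _ hrange
        _ = Nat.card C := by rw [hCcard, hker]
    have hKab : ∀ u ∈ Subgroup.centralizer ({g} : Set G),
        ∀ v ∈ Subgroup.centralizer ({g} : Set G), u * v = v * u := by
      intro u hu v hv
      have h0 := hK.is_comm.comm (⟨u, hu⟩ : Subgroup.centralizer ({g} : Set G)) ⟨v, hv⟩
      exact congrArg Subtype.val h0
    have hb := habound _ hKab
    have e1 := Subgroup.card_mul_index (Subgroup.centralizer ({g} : Set G))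
    have e2 := Subgroup.card_mul_index C
    have h3 : (Subgroup.centralizer ({g} : Set G)).index < orderOf w := lt_of_le_of_lt hidx hTcard
    have hCpos : 0 < Nat.card C := Nat.card_pos
    rw [hCidx] at e2
    have hfin : Nat.card G < Nat.card G := by
      calc Nat.card G = Nat.card ↥(Subgroup.centralizer ({g} : Set G)) *
            (Subgroup.centralizer ({g} : Set G)).index := e1.symm
        _ ≤ Nat.card C * (Subgroup.centralizer ({g} : Set G)).index := Nat.mul_le_mul_right _ hb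
        _ < Nat.card C * orderOf w := (Nat.mul_lt_mul_left hCpos).mpr h3
        _ = Nat.card G := e2
    exact lt_irrefl _ hfin

end Cfsg.Agent.Lib.Helper1
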