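import Mathlib
import Cfsg.Agent.Lib.Helper1.MetaFrat

set_option autoImplicit false
set_option maxHeartbeats 1600000

namespace Cfsg.Agent.Lib.Helper1

open scoped commutatorElement

/-- chain property for elements of a finite cyclic `p`-group -/
theorem cyc_chain_p {C : Type*} [Group C] [Finite C] [IsCyclic C] {p : ℕ} [Fact p.Prime]
    (hC : IsPGroup p C) (u v : C) :
    u ∈ Subgroup.zpowers v ∨ v ∈ Subgroup.zpowers u := by
  obtain ⟨a, ha⟩ := (IsPGroup.iff_orderOf.mp hC) u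
  obtain ⟨b, hb⟩ := (IsPGroup.iff_orderOf.mp hC) v
  rcases le_total a b with h | h
  · left
    apply cyc_mem_zpowers
    rw [hb]
    obtain ⟨d, rfl⟩ := Nat.exists_eq_add_of_le h
    rw [pow_add, pow_mul, ← ha, pow_orderOf_eq_one, one_pow]
  · right
    apply cyc_mem_zpowers
    rw [ha]
    obtain ⟨d, rfl⟩ := Nat.exists_eq_add_of_le h
    rw [pow_add, pow_mul, ← hb, pow_orderOf_eq_one, one_pow]

/-- set-up with chain property and the bound for abelian subgroups -/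
theorem meta_setup3 {G : Type*} [Group G] [Finite G] {p : ℕ} [Fact p.Prime] (hp : p ≠ 2)
    (hG : IsPGroup p G) (hmc : Cfsg.IsMetacyclic G) :
    ∃ (N C : Subgroup G) (x y : G) (a : ℕ), N.Normal ∧ C.Normal ∧ x ∈ N ∧ N ≤ C ∧
      (∀ n ∈ N, n ∈ Subgroup.zpowers x) ∧
      (∀ g : G, ∃ j : ℕ, g * (y ^ j)⁻¹ ∈ N) ∧ orderOf x = p ^ a ∧
      (∀ (l : G) (m : ℕ), l ^ m * x = x * l ^ m ↔ ⁅x, l⁆ ^ m = 1) ∧
      (∀ g : G, g ∈ C ↔ g * x = x * g) ∧
      (∀ u ∈ C, ∀ v ∈ C, u * v = v * u) ∧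
      (∀ u l : G, orderOf ⁅x, u⁆ ≤ orderOf ⁅x, l⁆ → ∃ e : ℕ, u * (l ^ e)⁻¹ ∈ C) ∧
      (∀ A : Subgroup G, (∀ u ∈ A, ∀ v ∈ A, u * v = v * u) → Nat.card A ≤ Nat.card C) ∧
      Nat.card C = (commutator G).index := by
  classical
  have hpp := (Fact.out : p.Prime)
  obtain ⟨N, C, x, y, a, hN, hCn, hxN, hNC, hxgen, hy, ha, hρ, hreg, hcomm, hCmem, hCab⟩ :=
    meta_setup2 hp hG hmc
  haveI := hN; haveI := hCn
  have hyC : ∀ g : G, ∃ j : ℕ, g * (y ^ j)⁻¹ ∈ C := fun g => (hy g).imp (fun j hj => hNC hj)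
  have hgenq : ∀ q : G ⧸ C, q ∈ Subgroup.zpowers (QuotientGroup.mk y : G ⧸ C) := by
    intro q
    obtain ⟨g, rfl⟩ := QuotientGroup.mk_surjective q
    obtain ⟨j, hj⟩ := hyC g
    rw [Subgroup.mem_zpowers_iff]
    refine ⟨j, ?_⟩
    rw [zpow_natCast, ← QuotientGroup.mk_pow]
    apply QuotientGroup.eq.mpr
    have h3 := Subgroup.Normal.conj_mem hCn _ hj (y ^ j)⁻¹
    have h4 : (y ^ j)⁻¹ * (g * (y ^ j)⁻¹) * (y ^ j)⁻¹⁻¹ = (y ^ j)⁻¹ * g := by group
    rw [h4] at h3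
    exact h3
  haveI hcyc : IsCyclic (G ⧸ C) :=
    isCyclic_iff_exists_zpowers_eq_top.mpr ⟨QuotientGroup.mk y, (Subgroup.eq_top_iff' _).mpr hgenq⟩
  have hordq : ∀ l : G, orderOf (QuotientGroup.mk l : G ⧸ C) = orderOf ⁅x, l⁆ := by
    intro l
    rw [orderOf_eq_orderOf_iff]
    intro m
    rw [← QuotientGroup.mk_pow, QuotientGroup.eq_one_iff, hCmem, hreg]
  have hchain : ∀ u l : G, orderOf ⁅x, u⁆ ≤ orderOf ⁅x, l⁆ → ∃ e : ℕ, u * (l ^ e)⁻¹ ∈ C := by
    intro u l hle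
    have h1 : (QuotientGroup.mk u : G ⧸ C) ∈ Subgroup.zpowers (QuotientGroup.mk l : G ⧸ C) := by
      apply cyc_mem_zpowers
      obtain ⟨s, hs⟩ := (IsPGroup.iff_orderOf.mp hG) ⁅x, u⁆
      obtain ⟨t, ht⟩ := (IsPGroup.iff_orderOf.mp hG) ⁅x, l⁆
      rw [← orderOf_dvd_iff_pow_eq_one, hordq u, hordq l, hs, ht]
      apply pow_dvd_pow
      rw [hs, ht] at hle
      exact (Nat.pow_le_pow_iff_right hpp.one_lt).mp hle
    have h2 := (mem_powers_iff_mem_zpowers).mpr h1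
    obtain ⟨e, he⟩ := (Submonoid.mem_powers_iff _ _).mp h2
    refine ⟨e, ?_⟩
    rw [← QuotientGroup.mk_pow] at he
    have h3 : (l ^ e)⁻¹ * u ∈ C := QuotientGroup.eq.mp he
    have h4 := Subgroup.Normal.conj_mem hCn _ h3 (l ^ e)
    have h5 : l ^ e * ((l ^ e)⁻¹ * u) * (l ^ e)⁻¹ = u * (l ^ e)⁻¹ := by group
    rw [h5] at h4; exact h4
  have habound : ∀ A : Subgroup G, (∀ u ∈ A, ∀ v ∈ A, u * v = v * u) →
      Nat.card A ≤ Nat.card C := by
    intro A hA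
    obtain ⟨l, hlA, hlmax⟩ : ∃ l ∈ A, ∀ u ∈ A, orderOf ⁅x, u⁆ ≤ orderOf ⁅x, l⁆ := by
      obtain ⟨l, hl⟩ := Finite.exists_max (fun u : A => orderOf ⁅x, (u : G)⁆)
      exact ⟨l, l.2, fun u hu => hl ⟨u, hu⟩⟩
    have hlM : l ^ orderOf ⁅x, l⁆ ∈ C := by rw [hCmem, hreg]; exact pow_orderOf_eq_one _
    have hdec : ∀ u ∈ A, ∃ e : ℕ, e < orderOf ⁅x, l⁆ ∧
        u * (l ^ e)⁻¹ ∈ C ⊓ Subgroup.centralizer ({l} : Set G) := by
      intro u hu
      obtain ⟨e, he⟩ := hchain u l (hlmax u hu)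
      refine ⟨e % orderOf ⁅x, l⁆, Nat.mod_lt _ (orderOf_pos _), ?_, ?_⟩
      · have h2 : l ^ e = (l ^ orderOf ⁅x, l⁆) ^ (e / orderOf ⁅x, l⁆) * l ^ (e % orderOf ⁅x, l⁆) := by
          rw [← pow_mul, ← pow_add, Nat.div_add_mod]
        have h3 : u * (l ^ (e % orderOf ⁅x, l⁆))⁻¹ =
            u * (l ^ e)⁻¹ * (l ^ orderOf ⁅x, l⁆) ^ (e / orderOf ⁅x, l⁆) := by
          rw [h2]; group
        rw [h3]
        exact C.mul_mem he (C.pow_mem hlM _)
      · show u * (l ^ (e % orderOf ⁅x, l⁆))⁻¹ ∈ Subgroup.centralizer ({l} : Set G)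
        rw [Subgroup.mem_centralizer_iff]
        intro z hz
        rw [Set.mem_singleton_iff] at hz
        rw [hz]
        have h1 : l * u = u * l := hA l hlA u hu
        calc l * (u * (l ^ (e % orderOf ⁅x, l⁆))⁻¹) = (l * u) * (l ^ (e % orderOf ⁅x, l⁆))⁻¹ := by
              group
          _ = u * l * (l ^ (e % orderOf ⁅x, l⁆))⁻¹ := by rw [h1]
          _ = u * (l ^ (e % orderOf ⁅x, l⁆))⁻¹ * l := by group
    choose! E hE1 hE2 using hdec
    have hinj : Nat.card A ≤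
        Nat.card (↥(C ⊓ Subgroup.centralizer ({l} : Set G)) × Fin (orderOf ⁅x, l⁆)) := by
      apply Nat.card_le_card_of_injective (fun u : A =>
        ((⟨(u : G) * (l ^ E u)⁻¹, hE2 u u.2⟩ : ↥(C ⊓ Subgroup.centralizer ({l} : Set G))),
          (⟨E u, hE1 u u.2⟩ : Fin (orderOf ⁅x, l⁆))))
      intro u v huv
      simp only [Prod.mk.injEq, Subtype.mk.injEq, Fin.mk.injEq] at huv
      obtain ⟨h1, h2⟩ := huv
      rw [h2] at h1
      exact Subtype.ext (mul_right_cancel h1)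
    rw [Nat.card_prod, Nat.card_fin] at hinj
    obtain ⟨κ, hκ⟩ := comm_hom_of_ab C hCab l
    have hker : Nat.card κ.ker = Nat.card ↥(C ⊓ Subgroup.centralizer ({l} : Set G)) := by
      have h0 : κ.ker = (C ⊓ Subgroup.centralizer ({l} : Set G)).subgroupOf C := by
        ext c
        rw [MonoidHom.mem_ker, hκ, Subgroup.mem_subgroupOf, commutatorElement_eq_one_iff_commute]
        constructor
        · intro h
          refine ⟨c.2, ?_⟩
          show (c : G) ∈ Subgroup.centralizer ({l} : Set G)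
          rw [Subgroup.mem_centralizer_iff]
          intro z hz
          rw [Set.mem_singleton_iff] at hz
          rw [hz]; exact h.eq.symm
        · intro h
          exact ((Subgroup.mem_centralizer_iff.mp h.2) l (Set.mem_singleton l)).symm
      rw [h0]
      exact Nat.card_congr (Subgroup.subgroupOfEquivOfLe inf_le_left).toEquiv
    have hrange : orderOf ⁅x, l⁆ ≤ Nat.card κ.range := by
      have h2 : orderOf (κ ⟨x, hNC hxN⟩) ∣ Nat.card κ.range := by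
        rw [← Nat.card_zpowers]
        exact Subgroup.card_dvd_of_le (Subgroup.zpowers_le.mpr ⟨_, rfl⟩)
      rw [hκ] at h2
      exact Nat.le_of_dvd Nat.card_pos h2
    have hCcard : Nat.card C = Nat.card κ.ker * Nat.card κ.range := by
      rw [← Subgroup.index_ker, Subgroup.card_mul_index]
    calc Nat.card A ≤ Nat.card ↥(C ⊓ Subgroup.centralizer ({l} : Set G)) * orderOf ⁅x, l⁆ := hinj
      _ ≤ Nat.card ↥(C ⊓ Subgroup.centralizer ({l} : Set G)) * Nat.card κ.range :=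
          Nat.mul_le_mul_left _ hrange
      _ = Nat.card C := by rw [hCcard, hker]
  have hCidx : C.index = Nat.card (commutator G) := by
    rw [Subgroup.index_eq_card, ← orderOf_eq_card_of_forall_mem_zpowers hgenq, hordq y, hcomm,
      Nat.card_zpowers]
  have hCcard : Nat.card C = (commutator G).index := by
    have e1 := Subgroup.card_mul_index C
    have e2 := Subgroup.card_mul_index (commutator G)
    rw [hCidx] at e1
    have hpos : 0 < Nat.card (commutator G) := Nat.card_pos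
    have e3 : Nat.card C * Nat.card (commutator G) = (commutator G).index * Nat.card (commutator G) := by
      rw [e1, mul_comm, e2]
    exact Nat.eq_of_mul_eq_mul_right hpos e3
  exact ⟨N, C, x, y, a, hN, hCn, hxN, hNC, hxgen, hy, ha, hreg, hCmem, hCab, hchain, habound,
    hCcard⟩

theorem meta_abelian_iff {G : Type*} [Group G] [Finite G] {p : ℕ} [Fact p.Prime] (hp : p ≠ 2)
    (hG : IsPGroup p G) (hmc : Cfsg.IsMetacyclic G) (L : Subgroup G) :
    ((∀ u ∈ L, ∀ v ∈ L, u * v = v * u) ↔ Nat.card ↥L ≤ (commutator G).index) := by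
  classical
  have hpp := (Fact.out : p.Prime)
  obtain ⟨N, C, x, y, a, hN, hCn, hxN, hNC, hxgen, hy, ha, hreg, hCmem, hCab, hchain, habound,
    hCcard⟩ := meta_setup3 hp hG hmc
  haveI := hN; haveI := hCn
  rw [← hCcard]
  constructor
  · exact habound L
  · intro hle
    by_contra hnab
    apply absurd hle
    rw [not_le]
    obtain ⟨l, hlL, hlmax⟩ : ∃ l ∈ L, ∀ u ∈ L, orderOf ⁅x, u⁆ ≤ orderOf ⁅x, l⁆ := by
      obtain ⟨l, hl⟩ := Finite.exists_max (fun u : L => orderOf ⁅x, (u : G)⁆)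
      exact ⟨l, l.2, fun u hu => hl ⟨u, hu⟩⟩
    obtain ⟨M, hM⟩ : ∃ M, M = orderOf ⁅x, l⁆ := ⟨_, rfl⟩
    have hMpos : 0 < M := by rw [hM]; exact orderOf_pos _
    have hlM : l ^ M ∈ C := by rw [hCmem, hreg, hM]; exact pow_orderOf_eq_one _
    have hlC_iff : ∀ t : ℕ, l ^ t ∈ C ↔ M ∣ t := by
      intro t; rw [hCmem, hreg, hM, orderOf_dvd_iff_pow_eq_one]
    have hordq' : orderOf (QuotientGroup.mk l : G ⧸ C) = orderOf ⁅x, l⁆ := by
      rw [orderOf_eq_orderOf_iff]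
      intro m
      rw [← QuotientGroup.mk_pow, QuotientGroup.eq_one_iff, hCmem, hreg]
    have hstep1 : ∃ c, c ∈ L ∧ c ∈ C ∧ c * l ≠ l * c := by
      by_contra hno
      push_neg at hno
      apply hnab
      intro u hu v hv
      obtain ⟨e₁, he₁⟩ := hchain u l (hlmax u hu)
      obtain ⟨e₂, he₂⟩ := hchain v l (hlmax v hv)
      have hd₁L : u * (l ^ e₁)⁻¹ ∈ L := L.mul_mem hu (L.inv_mem (L.pow_mem hlL _))
      have hd₂L : v * (l ^ e₂)⁻¹ ∈ L := L.mul_mem hv (L.inv_mem (L.pow_mem hlL _))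
      have k1 : (u * (l ^ e₁)⁻¹) * l = l * (u * (l ^ e₁)⁻¹) := hno _ hd₁L he₁
      have k2 : (v * (l ^ e₂)⁻¹) * l = l * (v * (l ^ e₂)⁻¹) := hno _ hd₂L he₂
      have c1 : (u * (l ^ e₁)⁻¹) * (v * (l ^ e₂)⁻¹) = (v * (l ^ e₂)⁻¹) * (u * (l ^ e₁)⁻¹) :=
        hCab _ he₁ _ he₂
      have c2 : l ^ e₁ * (v * (l ^ e₂)⁻¹) = (v * (l ^ e₂)⁻¹) * l ^ e₁ :=
        ((show Commute (v * (l ^ e₂)⁻¹) l from k2).pow_right e₁).eq.symm
      have c3 : l ^ e₂ * (u * (l ^ e₁)⁻¹) = (u * (l ^ e₁)⁻¹) * l ^ e₂ :=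
        ((show Commute (u * (l ^ e₁)⁻¹) l from k1).pow_right e₂).eq.symm
      have c4 : l ^ e₁ * l ^ e₂ = l ^ e₂ * l ^ e₁ := by rw [← pow_add, ← pow_add, add_comm]
      calc u * v = (u * (l ^ e₁)⁻¹) * (l ^ e₁ * (v * (l ^ e₂)⁻¹)) * l ^ e₂ := by group
        _ = (u * (l ^ e₁)⁻¹) * ((v * (l ^ e₂)⁻¹) * l ^ e₁) * l ^ e₂ := by rw [c2]
        _ = ((u * (l ^ e₁)⁻¹) * (v * (l ^ e₂)⁻¹)) * (l ^ e₁ * l ^ e₂) := by group
        _ = ((v * (l ^ e₂)⁻¹) * (u * (l ^ e₁)⁻¹)) * (l ^ e₂ * l ^ e₁) := by rw [c1, c4]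
        _ = (v * (l ^ e₂)⁻¹) * ((u * (l ^ e₁)⁻¹) * l ^ e₂) * l ^ e₁ := by group
        _ = (v * (l ^ e₂)⁻¹) * (l ^ e₂ * (u * (l ^ e₁)⁻¹)) * l ^ e₁ := by rw [c3]
        _ = v * u := by group
    obtain ⟨c₀, hc₀L, hc₀C, hc₀l⟩ := hstep1
    have hlC : l ∉ C := fun h => hc₀l (hCab c₀ hc₀C l h)
    have hgenN : ∀ q : G ⧸ N, q ∈ Subgroup.zpowers (QuotientGroup.mk y : G ⧸ N) := by
      intro q
      obtain ⟨g, rfl⟩ := QuotientGroup.mk_surjective q
      obtain ⟨j, hj⟩ := hy g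
      rw [Subgroup.mem_zpowers_iff]
      refine ⟨j, ?_⟩
      rw [zpow_natCast, ← QuotientGroup.mk_pow]
      apply QuotientGroup.eq.mpr
      have h3 := Subgroup.Normal.conj_mem hN _ hj (y ^ j)⁻¹
      have h4 : (y ^ j)⁻¹ * (g * (y ^ j)⁻¹) * (y ^ j)⁻¹⁻¹ = (y ^ j)⁻¹ * g := by group
      rw [h4] at h3
      exact h3
    haveI hcycN : IsCyclic (G ⧸ N) :=
      isCyclic_iff_exists_zpowers_eq_top.mpr
        ⟨QuotientGroup.mk y, (Subgroup.eq_top_iff' _).mpr hgenN⟩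
    have hQp : IsPGroup p (G ⧸ N) := hG.to_quotient N
    have hstep3 : ∀ c ∈ C, ∃ t : ℕ, c * (l ^ (M * t))⁻¹ ∈ N := by
      intro c hc
      rcases cyc_chain_p hQp (QuotientGroup.mk c : G ⧸ N) (QuotientGroup.mk l) with h | h
      · have h2 := (mem_powers_iff_mem_zpowers).mpr h
        obtain ⟨t, ht⟩ := (Submonoid.mem_powers_iff _ _).mp h2
        rw [← QuotientGroup.mk_pow] at ht
        have h3 : (l ^ t)⁻¹ * c ∈ N := QuotientGroup.eq.mp ht
        have h4 : l ^ t ∈ C := by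
          have h0 : l ^ t = c * ((l ^ t)⁻¹ * c)⁻¹ := by group
          rw [h0]; exact C.mul_mem hc (C.inv_mem (hNC h3))
        obtain ⟨t', rfl⟩ := (hlC_iff t).mp h4
        refine ⟨t', ?_⟩
        have h5 := Subgroup.Normal.conj_mem hN _ h3 (l ^ (M * t'))
        have h6 : l ^ (M * t') * ((l ^ (M * t'))⁻¹ * c) * (l ^ (M * t'))⁻¹ =
            c * (l ^ (M * t'))⁻¹ := by group
        rw [h6] at h5; exact h5
      · exfalso
        apply hlC
        obtain ⟨z, hz⟩ := Subgroup.mem_zpowers_iff.mp h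
        rw [← QuotientGroup.mk_zpow] at hz
        have h3 : (c ^ z)⁻¹ * l ∈ N := QuotientGroup.eq.mp hz
        have h0 : l = c ^ z * ((c ^ z)⁻¹ * l) := by group
        rw [h0]; exact C.mul_mem (C.zpow_mem hc z) (hNC h3)
    obtain ⟨t₀, ht₀⟩ := hstep3 c₀ hc₀C
    have hn₀L : c₀ * (l ^ (M * t₀))⁻¹ ∈ L := L.mul_mem hc₀L (L.inv_mem (L.pow_mem hlL _))
    have hn₀l : (c₀ * (l ^ (M * t₀))⁻¹) * l ≠ l * (c₀ * (l ^ (M * t₀))⁻¹) := by
      intro h
      apply hc₀l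
      calc c₀ * l = (c₀ * (l ^ (M * t₀))⁻¹) * l * l ^ (M * t₀) := by group
        _ = l * (c₀ * (l ^ (M * t₀))⁻¹) * l ^ (M * t₀) := by rw [h]
        _ = l * c₀ := by group
    obtain ⟨i, hi⟩ := (Submonoid.mem_powers_iff _ _).mp
      ((mem_powers_iff_mem_zpowers).mpr (hxgen _ ht₀))
    rw [← hi] at hn₀L hn₀l
    have hNab : ∀ a ∈ N, ∀ b ∈ N, a * b = b * a := fun a ha b hb => hCab a (hNC ha) b (hNC hb)
    obtain ⟨κ, hκ⟩ := comm_hom_of_ab N hNab l
    have hκi : ⁅x ^ i, l⁆ = ⁅x, l⁆ ^ i := by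
      have h1 := map_pow κ (⟨x, hxN⟩ : N) i
      rw [hκ, hκ] at h1
      exact h1
    have hMi : ¬ M ∣ i := by
      intro hdvd
      apply hn₀l
      have h1 : ⁅x ^ i, l⁆ = 1 := by
        rw [hκi, ← orderOf_dvd_iff_pow_eq_one, ← hM]; exact hdvd
      exact (commutatorElement_eq_one_iff_commute.mp h1).eq
    obtain ⟨k, hk⟩ : ∃ k, k = Nat.gcd i (p ^ a) := ⟨_, rfl⟩
    have hkdvd : k ∣ p ^ a := by rw [hk]; exact Nat.gcd_dvd_right _ _
    have hki : k ∣ i := by rw [hk]; exact Nat.gcd_dvd_left _ _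
    have hkL : x ^ k ∈ L := by
      have h1 : x ^ k = (x ^ i) ^ (Nat.gcdA i (p ^ a)) := by
        rw [← zpow_natCast x k, hk, Nat.gcd_eq_gcd_ab, zpow_add, zpow_mul, zpow_mul,
          zpow_natCast, zpow_natCast, ← ha, pow_orderOf_eq_one, one_zpow, mul_one]
      rw [h1]; exact L.zpow_mem hn₀L _
    have hkM : k < M := by
      obtain ⟨u, -, hu⟩ := (Nat.dvd_prime_pow hpp).mp hkdvd
      obtain ⟨m, hm⟩ := (IsPGroup.iff_orderOf.mp hG) ⁅x, l⁆
      rw [hM, hm, hu]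
      apply Nat.pow_lt_pow_right hpp.one_lt
      by_contra hmu
      push_neg at hmu
      apply hMi
      rw [hM, hm]
      exact dvd_trans (pow_dvd_pow p hmu) (hu ▸ hki)
    have hkpos : 0 < k := by
      rw [hk]; exact Nat.gcd_pos_of_pos_right _ (pow_pos hpp.pos a)
    have hsurj : ∀ c : C, ∃ (i₀ : Fin k) (d : ↥(L ⊓ C)), (c : G) = x ^ (i₀ : ℕ) * (d : G) := by
      intro c
      obtain ⟨t, ht⟩ := hstep3 c c.2
      obtain ⟨j, hj⟩ := (Submonoid.mem_powers_iff _ _).mp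
        ((mem_powers_iff_mem_zpowers).mpr (hxgen _ ht))
      have hd : (x ^ k) ^ (j / k) * l ^ (M * t) ∈ L ⊓ C := by
        refine ⟨L.mul_mem (L.pow_mem hkL _) (L.pow_mem hlL _),
          C.mul_mem (C.pow_mem (C.pow_mem (hNC hxN) _) _) ?_⟩
        rw [pow_mul]; exact C.pow_mem hlM _
      refine ⟨⟨j % k, Nat.mod_lt _ hkpos⟩, ⟨_, hd⟩, ?_⟩
      show (c : G) = x ^ (j % k) * ((x ^ k) ^ (j / k) * l ^ (M * t))
      have h1 : x ^ j = x ^ (j % k) * (x ^ k) ^ (j / k) := by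
        rw [← pow_mul, ← pow_add, Nat.mod_add_div]
      have h2 : (c : G) = x ^ j * l ^ (M * t) := by rw [hj]; group
      rw [h2, h1, mul_assoc]
    have hcardC : Nat.card C ≤ k * Nat.card ↥(L ⊓ C) := by
      choose I Dd hID using hsurj
      have h0 := Nat.card_le_card_of_injective (fun c : C => (I c, Dd c)) (by
        intro c c' hcc
        simp only [Prod.mk.injEq] at hcc
        apply Subtype.ext
        rw [hID c, hID c', hcc.1, hcc.2])
      rw [Nat.card_prod, Nat.card_fin] at h0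
      exact h0
    have hcardL : Nat.card ↥(L ⊓ C) * M ≤ Nat.card L := by
      have h0 := Nat.card_le_card_of_injective (fun q : ↥(L ⊓ C) × Fin M =>
        (⟨(q.1 : G) * l ^ (q.2 : ℕ), L.mul_mem q.1.2.1 (L.pow_mem hlL _)⟩ : L)) (by
        rintro ⟨d, e⟩ ⟨d', e'⟩ hq
        have h1 : (d : G) * l ^ (e : ℕ) = (d' : G) * l ^ (e' : ℕ) := congrArg Subtype.val hq
        have h2 : (QuotientGroup.mk l : G ⧸ C) ^ (e : ℕ) = (QuotientGroup.mk l : G ⧸ C) ^ (e' : ℕ) := by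
          have h3 := congrArg (QuotientGroup.mk : G → G ⧸ C) h1
          rw [QuotientGroup.mk_mul, QuotientGroup.mk_mul, (QuotientGroup.eq_one_iff _).mpr d.2.2,
            (QuotientGroup.eq_one_iff _).mpr d'.2.2, one_mul, one_mul, QuotientGroup.mk_pow,
            QuotientGroup.mk_pow] at h3
          exact h3
        rw [pow_eq_pow_iff_modEq, hordq', ← hM] at h2
        have h4 : (e : ℕ) = (e' : ℕ) := Nat.ModEq.eq_of_lt_of_lt h2 e.2 e'.2
        have h5 : e = e' := Fin.ext h4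
        subst h5
        have h6 : (d : G) = (d' : G) := mul_right_cancel h1
        rw [Prod.mk.injEq]; exact ⟨Subtype.ext h6, rfl⟩)
      rw [Nat.card_prod, Nat.card_fin] at h0
      exact h0
    have hDpos : 0 < Nat.card ↥(L ⊓ C) := Nat.card_pos
    calc Nat.card C ≤ k * Nat.card ↥(L ⊓ C) := hcardC
      _ < M * Nat.card ↥(L ⊓ C) := (Nat.mul_lt_mul_right hDpos).mpr hkM
      _ = Nat.card ↥(L ⊓ C) * M := mul_comm _ _
      _ ≤ Nat.card L := hcardL

theorem meta_abelian_main {G : Type*} [Group G] [Finite G] {p : ℕ} [Fact p.Prime] (hp : p ≠ 2)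
    (hG : IsPGroup p G) (hmc : Cfsg.IsMetacyclic G) (L : Subgroup G) :
    (IsMulCommutative ↥L ↔ Nat.card ↥L ≤ (commutator G).index) ∧
      (Maximal (fun K : Subgroup G => IsMulCommutative ↥K) L ↔
        Nat.card ↥L = (commutator G).index) := by
  have hpp := (Fact.out : p.Prime)
  have key : ∀ K : Subgroup G, IsMulCommutative ↥K ↔ Nat.card ↥K ≤ (commutator G).index := by
    intro K
    rw [← meta_abelian_iff hp hG hmc K]
    constructor
    · intro h u hu v hv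
      exact congrArg Subtype.val (h.is_comm.comm (⟨u, hu⟩ : K) ⟨v, hv⟩)
    · intro h
      exact ⟨⟨fun a b => Subtype.ext (h a a.2 b b.2)⟩⟩
  refine ⟨key L, ?_⟩
  constructor
  · intro hmax
    obtain ⟨hLab, hLmax⟩ := hmax
    have h1 := (key L).mp hLab
    by_contra hne
    have hlt : Nat.card ↥L < (commutator G).index := lt_of_le_of_ne h1 hne
    obtain ⟨k, hk⟩ := IsPGroup.iff_card.mp (hG.to_subgroup L)
    obtain ⟨c, hc⟩ : ∃ c, (commutator G).index = p ^ c := by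
      obtain ⟨m, hm⟩ := IsPGroup.iff_card.mp hG
      have hdvd : (commutator G).index ∣ p ^ m := by
        rw [← hm]; exact Subgroup.index_dvd_card _
      obtain ⟨c, -, hc⟩ := (Nat.dvd_prime_pow hpp).mp hdvd
      exact ⟨c, hc⟩
    rw [hk, hc] at hlt
    have hkc : k < c := (Nat.pow_lt_pow_iff_right hpp.one_lt).mp hlt
    have hdvdG : p ^ (k + 1) ∣ Nat.card G := by
      have h2 : p ^ (k + 1) ∣ p ^ c := pow_dvd_pow p hkc
      rw [← hc] at h2
      exact dvd_trans h2 (Subgroup.index_dvd_card _)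
    obtain ⟨K, hKcard, hLK⟩ := Sylow.exists_subgroup_card_pow_succ hdvdG hk
    have hKab : IsMulCommutative ↥K := by
      rw [key K, hKcard, hc]
      exact Nat.pow_le_pow_right hpp.pos hkc
    have hKL := hLmax hKab hLK
    have h3 := Subgroup.card_le_of_le hKL
    rw [hKcard, hk] at h3
    exact absurd h3 (not_le.mpr (Nat.pow_lt_pow_right hpp.one_lt (Nat.lt_succ_self k)))
  · intro heq
    refine ⟨(key L).mpr heq.le, ?_⟩
    intro A hA hLA
    have h1 := (key A).mp hA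
    have h2 : Nat.card ↥A ≤ Nat.card ↥L := by rw [heq]; exact h1
    exact (Subgroup.eq_of_le_of_card_ge hLA h2).ge

end Cfsg.Agent.Lib.Helper1
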