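import Mathlib
import Cfsg.Agent.Lib.Helper1.MetaAb

set_option autoImplicit false
set_option maxHeartbeats 1600000

namespace Cfsg.Agent.Lib.Helper1

open scoped commutatorElement

theorem comm_pow_of_commute {Q : Type*} [Group Q] (a b : Q) (h : Commute ⁅a, b⁆ b) (k : ℕ) :
    ⁅a, b ^ k⁆ = ⁅a, b⁆ ^ k := by
  induction k with
  | zero => simp
  | succ k ih =>
    have h1 : ⁅a, b ^ (k + 1)⁆ = ⁅a, b⁆ * (b * ⁅a, b ^ k⁆ * b⁻¹) := by
      simp only [commutatorElement_def, pow_succ']; group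
    have h2 : b * ⁅a, b⁆ ^ k * b⁻¹ = ⁅a, b⁆ ^ k := by
      have h3 := (h.pow_left k).eq
      rw [← h3, mul_inv_cancel_right]
    rw [h1, ih, h2, pow_succ']

theorem le_index_centralizer {G : Type*} [Group G] [Finite G] (g : G) (m : ℕ) (f : Fin m → G)
    (hf : ∀ s t, f s * g * (f s)⁻¹ = f t * g * (f t)⁻¹ → s = t) :
    m ≤ (Subgroup.centralizer ({g} : Set G)).index := by
  rw [Subgroup.index_eq_card]
  have h0 := Nat.card_le_card_of_injective
    (fun t : Fin m => (QuotientGroup.mk (f t) : G ⧸ Subgroup.centralizer ({g} : Set G))) (by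
      intro s t hst
      apply hf
      have h1 : (f s)⁻¹ * f t ∈ Subgroup.centralizer ({g} : Set G) := QuotientGroup.eq.mp hst
      have h2 := Subgroup.mem_centralizer_iff.mp h1 g (Set.mem_singleton g)
      calc f s * g * (f s)⁻¹ = f s * (g * ((f s)⁻¹ * f t)) * (f t)⁻¹ := by group
        _ = f s * ((f s)⁻¹ * f t * g) * (f t)⁻¹ := by rw [h2]
        _ = f t * g * (f t)⁻¹ := by group)
  rw [Nat.card_fin] at h0
  exact h0

theorem pow_dvd_of_div_le {p : ℕ} (hpp : p.Prime) (n s j : ℕ) (hs : s ≤ n)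
    (h : p ^ n / Nat.gcd (p ^ n) j ≤ p ^ (n - s)) : p ^ s ∣ j := by
  obtain ⟨t, htn, ht⟩ := (Nat.dvd_prime_pow hpp).mp (Nat.gcd_dvd_left (p ^ n) j)
  rw [ht, Nat.pow_div htn hpp.pos] at h
  have h1 : n - t ≤ n - s := (Nat.pow_le_pow_iff_right hpp.one_lt).mp h
  have hst : s ≤ t := by omega
  have h2 : p ^ t ∣ j := by rw [← ht]; exact Nat.gcd_dvd_right _ _
  exact dvd_trans (pow_dvd_pow p hst) h2

theorem meta_agemo {G : Type*} [Group G] [Finite G] {p : ℕ} [Fact p.Prime] (hp : p ≠ 2)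
    (hG : IsPGroup p G) (hmc : Cfsg.IsMetacyclic G) (n : ℕ)
    (hGn : Nat.card ↥(commutator G) = p ^ n) (s : ℕ) (hs : s ≤ n) (g : G) :
    g ∈ Subgroup.closure {x : G | ∃ y : G, y ^ p ^ s = x} ↔
      (Subgroup.centralizer ({g} : Set G)).index ≤ p ^ (n - s) := by
  classical
  have hpp := (Fact.out : p.Prime)
  obtain ⟨N, C, x, y, a, hN, hCn, hxN, hNC, hxgen, hy, ha, hρ, hreg, hcomm, hCmem, hCab⟩ :=
    meta_setup2 hp hG hmc
  haveI := hN; haveI := hCn
  obtain ⟨w, hw⟩ : ∃ w, w = ⁅x, y⁆ := ⟨_, rfl⟩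
  have hcommw : commutator G = Subgroup.zpowers w := by rw [hw]; exact hcomm
  have hwn : orderOf w = p ^ n := by rw [← hGn, hcommw, Nat.card_zpowers]
  have hNab : ∀ a ∈ N, ∀ b ∈ N, a * b = b * a := fun a ha b hb => hCab a (hNC ha) b (hNC hb)
  have hwN : w ∈ Subgroup.zpowers x := by
    apply hxgen
    rw [hw]
    have h1 : ⁅x, y⁆ = x * (y * x⁻¹ * y⁻¹) := by rw [commutatorElement_def]; group
    rw [h1]; exact N.mul_mem hxN (hN.conj_mem _ (N.inv_mem hxN) y)
  have hcm : ∀ u v : G, ⁅u, v⁆ ∈ Subgroup.zpowers w := by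
    intro u v
    rw [← hcommw, commutator_def]
    exact Subgroup.commutator_mem_commutator (Subgroup.mem_top _) (Subgroup.mem_top _)
  constructor
  · intro hg
    by_cases hw1 : w = 1
    · have hcent : Subgroup.centralizer ({g} : Set G) = ⊤ := by
        rw [Subgroup.eq_top_iff']
        intro h
        rw [Subgroup.mem_centralizer_iff]
        intro z hz
        rw [Set.mem_singleton_iff] at hz
        rw [hz]
        have h1 := hcm g h
        rw [hw1, Subgroup.zpowers_one_eq_bot, Subgroup.mem_bot,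
          commutatorElement_eq_one_iff_commute] at h1
        exact h1.eq
      rw [hcent, Subgroup.index_top]
      exact Nat.one_le_pow _ _ hpp.pos
    · have hx1 : x ≠ 1 := by
        intro h; apply hw1; rw [hw, h]; simp
      have ha1 : a ≠ 0 := by
        intro h; apply hx1; rw [← orderOf_eq_one_iff, ha, h, pow_zero]
      have hTa : ∀ (s : ℕ) (h t : G), t ∈ Subgroup.zpowers (w ^ p ^ s) →
          ⁅h, t⁆ ∈ Subgroup.zpowers (w ^ p ^ (s + 1)) := by
        intro s h t ht
        obtain ⟨ρ, hρ1, hρl⟩ := hρ h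
        obtain ⟨k, hk⟩ := (IsPGroup.iff_orderOf.mp hG) h
        have hdvd : p ∣ ρ - 1 :=
          meta_rho_dvd x h a ρ k ha ha1 hρ1 hρl (by rw [← hk]; exact pow_orderOf_eq_one h)
        obtain ⟨c, hc⟩ := hdvd
        have hρc : ρ = p * c + 1 := by omega
        obtain ⟨z, hz⟩ := Subgroup.mem_zpowers_iff.mp hwN
        have hwconj : h * w * h⁻¹ = w ^ ρ := by
          rw [← hz, ← conj_zpow, hρl, ← zpow_natCast, ← zpow_natCast, ← zpow_mul, ← zpow_mul,
            mul_comm]
        have hvconj : h * (w ^ p ^ s) * h⁻¹ = (w ^ p ^ s) ^ ρ := by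
          rw [← conj_pow, hwconj, ← pow_mul, ← pow_mul, mul_comm]
        obtain ⟨i, rfl⟩ := Subgroup.mem_zpowers_iff.mp ht
        have h1 : ⁅h, (w ^ p ^ s) ^ i⁆ = ((w ^ p ^ s) ^ p) ^ ((c : ℤ) * i) := by
          rw [commutatorElement_def, ← conj_zpow, hvconj, ← zpow_natCast (w ^ p ^ s) ρ,
            ← zpow_natCast (w ^ p ^ s) p, ← zpow_mul, ← zpow_mul, ← zpow_neg, ← zpow_add]
          congr 1
          rw [hρc]; push_cast; ring
        rw [h1, ← pow_mul, ← pow_succ]; exact Subgroup.zpow_mem_zpowers _ _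
      have hTle : ∀ s : ℕ, Subgroup.zpowers (w ^ p ^ (s + 1)) ≤ Subgroup.zpowers (w ^ p ^ s) := by
        intro s
        rw [Subgroup.zpowers_le, pow_succ, pow_mul]
        exact Subgroup.npow_mem_zpowers _ _
      have hTn : ∀ s : ℕ, (Subgroup.zpowers (w ^ p ^ s)).Normal := by
        intro s
        constructor
        intro t ht h
        have h1 : h * t * h⁻¹ = ⁅h, t⁆ * t := by rw [commutatorElement_def]; group
        rw [h1]
        exact Subgroup.mul_mem _ (hTle s (hTa s h t ht)) ht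
      have hstep : ∀ (s : ℕ) (g' : G), (∀ h : G, ⁅h, g'⁆ ∈ Subgroup.zpowers (w ^ p ^ s)) →
          ∀ h : G, ⁅h, g' ^ p⁆ ∈ Subgroup.zpowers (w ^ p ^ (s + 1)) := by
        intro s g' hg' h
        haveI := hTn (s + 1)
        have hcomm1 : Commute ⁅(QuotientGroup.mk' (Subgroup.zpowers (w ^ p ^ (s + 1)))) h,
            (QuotientGroup.mk' (Subgroup.zpowers (w ^ p ^ (s + 1)))) g'⁆
            ((QuotientGroup.mk' (Subgroup.zpowers (w ^ p ^ (s + 1)))) g') := by
          rw [← map_commutatorElement]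
          show (QuotientGroup.mk' (Subgroup.zpowers (w ^ p ^ (s + 1)))) ⁅h, g'⁆ *
              (QuotientGroup.mk' (Subgroup.zpowers (w ^ p ^ (s + 1)))) g' =
            (QuotientGroup.mk' (Subgroup.zpowers (w ^ p ^ (s + 1)))) g' *
              (QuotientGroup.mk' (Subgroup.zpowers (w ^ p ^ (s + 1)))) ⁅h, g'⁆
          rw [← map_mul, ← map_mul, QuotientGroup.mk'_apply, QuotientGroup.mk'_apply]
          apply QuotientGroup.eq.mpr
          have h2 : (⁅h, g'⁆ * g')⁻¹ * (g' * ⁅h, g'⁆) = ⁅g'⁻¹, ⁅h, g'⁆⁻¹⁆ := by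
            simp only [commutatorElement_def]; group
          rw [h2]
          exact hTa s _ _ (Subgroup.inv_mem _ (hg' h))
        have hpowT : ⁅h, g'⁆ ^ p ∈ Subgroup.zpowers (w ^ p ^ (s + 1)) := by
          obtain ⟨i, hi⟩ := Subgroup.mem_zpowers_iff.mp (hg' h)
          have e1 : ⁅h, g'⁆ ^ p = ((w ^ p ^ s) ^ p) ^ i := by
            rw [← hi, ← zpow_natCast ((w ^ p ^ s) ^ i) p, ← zpow_mul, mul_comm, zpow_mul,
              zpow_natCast]
          rw [e1, ← pow_mul, ← pow_succ]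
          exact Subgroup.zpow_mem_zpowers _ _
        have h4 : (QuotientGroup.mk' (Subgroup.zpowers (w ^ p ^ (s + 1)))) (⁅h, g'⁆ ^ p) = 1 :=
          (QuotientGroup.eq_one_iff _).mpr hpowT
        rw [map_pow] at h4
        have h3 : (QuotientGroup.mk' (Subgroup.zpowers (w ^ p ^ (s + 1)))) ⁅h, g' ^ p⁆ = 1 := by
          rw [map_commutatorElement, map_pow, comm_pow_of_commute _ _ hcomm1,
            ← map_commutatorElement]
          exact h4
        exact (QuotientGroup.eq_one_iff _).mp h3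
      have hpow : ∀ (s : ℕ) (u h : G), ⁅h, u ^ p ^ s⁆ ∈ Subgroup.zpowers (w ^ p ^ s) := by
        intro s
        induction s with
        | zero =>
          intro u h
          rw [pow_zero, pow_one, pow_one]; exact hcm h u
        | succ s ih =>
          intro u h
          have e : u ^ p ^ (s + 1) = (u ^ p ^ s) ^ p := by rw [pow_succ, pow_mul]
          rw [e]
          exact hstep s (u ^ p ^ s) (ih u) h
      haveI := hTn s
      have hgT : ∀ h : G, ⁅h, g⁆ ∈ Subgroup.zpowers (w ^ p ^ s) := by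
        have hle : Subgroup.closure {x : G | ∃ y : G, y ^ p ^ s = x} ≤
            (Subgroup.center (G ⧸ Subgroup.zpowers (w ^ p ^ s))).comap
              (QuotientGroup.mk' (Subgroup.zpowers (w ^ p ^ s))) := by
          rw [Subgroup.closure_le]
          rintro _ ⟨u, rfl⟩
          show (QuotientGroup.mk' (Subgroup.zpowers (w ^ p ^ s))) (u ^ p ^ s) ∈ Subgroup.center _
          rw [Subgroup.mem_center_iff]
          intro q
          obtain ⟨h, rfl⟩ := QuotientGroup.mk_surjective q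
          have h1 := hpow s u h
          rw [← QuotientGroup.eq_one_iff, ← QuotientGroup.mk'_apply, map_commutatorElement,
            commutatorElement_eq_one_iff_commute] at h1
          exact h1
        intro h
        have h1 := hle hg
        rw [Subgroup.mem_comap, Subgroup.mem_center_iff] at h1
        have h2 := h1 (QuotientGroup.mk h)
        rw [← QuotientGroup.eq_one_iff, ← QuotientGroup.mk'_apply, map_commutatorElement,
          commutatorElement_eq_one_iff_commute]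
        exact h2
      have hidx := class_le_of_comm_mem g _ hgT
      have hTcard : Nat.card (Subgroup.zpowers (w ^ p ^ s)) = p ^ (n - s) := by
        rw [Nat.card_zpowers, orderOf_pow, hwn, Nat.gcd_eq_right (pow_dvd_pow p hs),
          Nat.pow_div hs hpp.pos]
      rw [hTcard] at hidx
      exact hidx
  · intro hidx
    obtain ⟨j, hj⟩ := hy g
    obtain ⟨i, hi⟩ := (Submonoid.mem_powers_iff _ _).mp
      ((mem_powers_iff_mem_zpowers).mpr (hxgen _ hj))
    have hgeq : g = x ^ i * y ^ j := by rw [hi]; group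
    obtain ⟨κg, hκg⟩ := comm_hom_of_ab N hNab g
    obtain ⟨κy, hκy⟩ := comm_hom_of_ab N hNab y
    have hxg : ∀ t : ℕ, ⁅x ^ t, g⁆ = ⁅x, g⁆ ^ t := by
      intro t
      have h1 := map_pow κg (⟨x, hxN⟩ : N) t
      rw [hκg, hκg] at h1
      exact h1
    have hxy : ⁅x ^ i, y⁆ = w ^ i := by
      have h1 := map_pow κy (⟨x, hxN⟩ : N) i
      rw [hκy, hκy] at h1
      rw [hw]; exact h1
    have h1 : orderOf ⁅x, g⁆ ≤ (Subgroup.centralizer ({g} : Set G)).index := by
      apply le_index_centralizer g _ (fun t => x ^ (t : ℕ))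
      intro s' t' hst
      have hst' : x ^ (s' : ℕ) * g * (x ^ (s' : ℕ))⁻¹ = x ^ (t' : ℕ) * g * (x ^ (t' : ℕ))⁻¹ := hst
      have e1 : ∀ u : G, ⁅u, g⁆ = u * g * u⁻¹ * g⁻¹ := fun u => commutatorElement_def u g
      have h2 : ⁅x ^ (s' : ℕ), g⁆ = ⁅x ^ (t' : ℕ), g⁆ := by
        rw [e1 (x ^ (s' : ℕ)), e1 (x ^ (t' : ℕ)), hst']
      rw [hxg, hxg] at h2
      exact Fin.ext (pow_injOn_Iio_orderOf s'.2 t'.2 h2)
    have hordq : ∀ l : G, orderOf (QuotientGroup.mk l : G ⧸ C) = orderOf ⁅x, l⁆ := by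
      intro l
      rw [orderOf_eq_orderOf_iff]
      intro m
      rw [← QuotientGroup.mk_pow, QuotientGroup.eq_one_iff, hCmem, hreg]
    have hgq : (QuotientGroup.mk g : G ⧸ C) = (QuotientGroup.mk y : G ⧸ C) ^ j := by
      rw [hgeq, QuotientGroup.mk_mul, (QuotientGroup.eq_one_iff _).mpr (C.pow_mem (hNC hxN) i),
        one_mul, QuotientGroup.mk_pow]
    have hpj : p ^ s ∣ j := by
      apply pow_dvd_of_div_le hpp n s j hs
      have h2 : orderOf ⁅x, g⁆ = p ^ n / Nat.gcd (p ^ n) j := by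
        rw [← hordq g, hgq, orderOf_pow, hordq y, ← hw, hwn]
      rw [← h2]; exact le_trans h1 hidx
    have hreg_i : ∀ d : ℕ, y ^ d * x ^ i = x ^ i * y ^ d ↔ ⁅x ^ i, y⁆ ^ d = 1 := by
      obtain ⟨ρ, hρ1, hρl⟩ := hρ y
      obtain ⟨k, hk⟩ := (IsPGroup.iff_orderOf.mp hG) y
      obtain ⟨a', ha'⟩ := (IsPGroup.iff_orderOf.mp hG) (x ^ i)
      have hρi : y * x ^ i * y⁻¹ = (x ^ i) ^ ρ := by
        rw [← conj_pow, hρl, ← pow_mul, ← pow_mul, mul_comm]
      exact fun d => meta_reg hp (x ^ i) y a' ρ k ha' hρ1 hρi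
        (by rw [← hk]; exact pow_orderOf_eq_one y) d
    have h3 : orderOf ⁅x ^ i, y⁆ ≤ (Subgroup.centralizer ({g} : Set G)).index := by
      apply le_index_centralizer g _ (fun t => y ^ (t : ℕ))
      have key : ∀ s' t' : ℕ, s' ≤ t' → t' < orderOf ⁅x ^ i, y⁆ →
          y ^ s' * g * (y ^ s')⁻¹ = y ^ t' * g * (y ^ t')⁻¹ → s' = t' := by
        intro s' t' hle hlt hst
        obtain ⟨d, rfl⟩ := Nat.exists_eq_add_of_le hle
        have h4 : y ^ d * x ^ i = x ^ i * y ^ d := by
          have h5 : g = y ^ d * g * (y ^ d)⁻¹ := by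
            have e0 : y ^ (s' + d) = y ^ s' * y ^ d := pow_add y s' d
            rw [e0] at hst
            calc g = (y ^ s')⁻¹ * (y ^ s' * g * (y ^ s')⁻¹) * y ^ s' := by group
              _ = (y ^ s')⁻¹ * (y ^ s' * y ^ d * g * (y ^ s' * y ^ d)⁻¹) * y ^ s' := by rw [hst]
              _ = y ^ d * g * (y ^ d)⁻¹ := by group
          rw [hgeq] at h5
          calc y ^ d * x ^ i = (y ^ d * (x ^ i * y ^ j) * (y ^ d)⁻¹) * (y ^ d * (y ^ j)⁻¹) := by
                group
            _ = (x ^ i * y ^ j) * (y ^ d * (y ^ j)⁻¹) := by rw [← h5]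
            _ = x ^ i * y ^ d := by group
        have h7 := (hreg_i d).mp h4
        have h8 := orderOf_dvd_of_pow_eq_one h7
        have h9 : d = 0 := by
          by_contra hd
          have h10 := Nat.le_of_dvd (Nat.pos_of_ne_zero hd) h8
          omega
        omega
      intro s' t' hst
      rcases le_total (s' : ℕ) (t' : ℕ) with h | h
      · exact Fin.ext (key _ _ h t'.2 hst)
      · exact Fin.ext (key _ _ h s'.2 hst.symm).symm
    have hpi : p ^ s ∣ i := by
      apply pow_dvd_of_div_le hpp n s i hs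
      have h2 : orderOf ⁅x ^ i, y⁆ = p ^ n / Nat.gcd (p ^ n) i := by
        rw [hxy, orderOf_pow, hwn]
      rw [← h2]; exact le_trans h3 hidx
    obtain ⟨i', rfl⟩ := hpi
    obtain ⟨j', rfl⟩ := hpj
    rw [hgeq, pow_mul', pow_mul']
    exact Subgroup.mul_mem _ (Subgroup.subset_closure ⟨_, rfl⟩) (Subgroup.subset_closure ⟨_, rfl⟩)

theorem meta_agemo_main {G : Type*} [Group G] [Finite G] {p : ℕ} [Fact p.Prime] (hp : p ≠ 2)
    (hG : IsPGroup p G) (hmc : Cfsg.IsMetacyclic G) (n : ℕ)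
    (hGn : Nat.card ↥(commutator G) = p ^ n) (s : ℕ) (hs : s ≤ n) (g : G) :
    (g ∈ Subgroup.closure {x : G | ∃ y : G, y ^ p ^ s = x} ↔
      (Subgroup.centralizer ({g} : Set G)).index ≤ p ^ (n - s)) ∧
      Subgroup.closure {x : G | ∃ y : G, y ^ p ^ n = x} = Subgroup.center G := by
  refine ⟨meta_agemo hp hG hmc n hGn s hs g, ?_⟩
  ext z
  rw [meta_agemo hp hG hmc n hGn n le_rfl z, Nat.sub_self, pow_zero]
  constructor
  · intro h
    have h1 : (Subgroup.centralizer ({z} : Set G)).index = 1 :=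
      le_antisymm h (Nat.one_le_iff_ne_zero.mpr Subgroup.index_ne_zero_of_finite)
    rw [Subgroup.index_eq_one] at h1
    rw [Subgroup.mem_center_iff]
    intro g'
    have h2 : g' ∈ Subgroup.centralizer ({z} : Set G) := by rw [h1]; exact Subgroup.mem_top _
    exact (Subgroup.mem_centralizer_iff.mp h2 z (Set.mem_singleton z)).symm
  · intro h
    have h1 : Subgroup.centralizer ({z} : Set G) = ⊤ := by
      rw [Subgroup.eq_top_iff']
      intro g'
      rw [Subgroup.mem_centralizer_iff]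
      intro t ht
      rw [Set.mem_singleton_iff] at ht
      rw [ht]
      exact (Subgroup.mem_center_iff.mp h g').symm
    rw [h1, Subgroup.index_top]

end Cfsg.Agent.Lib.Helper1
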