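import Mathlib
import Cfsg.Agent.Lib.Helper1.MetaAgemo

set_option autoImplicit false
set_option maxHeartbeats 1600000

namespace Cfsg.Agent.Lib.Helper1

open scoped commutatorElement

/-- geometric sums `1 + ρ + ... + ρ^(k-1)` -/
def geomE (ρ : ℕ) : ℕ → ℕ
  | 0 => 0
  | (k + 1) => 1 + ρ * geomE ρ k

theorem geomE_zmod (p c : ℕ) (k : ℕ) :
    ((geomE (p * c + 1) k : ℕ) : ZMod (p ^ 2)) =
      (k : ZMod (p ^ 2)) + (p : ZMod (p ^ 2)) * c * ∑ i ∈ Finset.range k, (i : ZMod (p ^ 2)) := by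
  have hp2 : (p : ZMod (p ^ 2)) * (p : ZMod (p ^ 2)) = 0 := by
    rw [← Nat.cast_mul, ← sq]; exact ZMod.natCast_self (p ^ 2)
  induction k with
  | zero => simp [geomE]
  | succ k ih =>
    rw [Finset.sum_range_succ]
    show ((1 + (p * c + 1) * geomE (p * c + 1) k : ℕ) : ZMod (p ^ 2)) = _
    push_cast
    rw [ih]
    linear_combination ((c : ZMod (p ^ 2)) * (c : ZMod (p ^ 2)) *
      (∑ i ∈ Finset.range k, (i : ZMod (p ^ 2)))) * hp2

theorem geomE_prime (p c : ℕ) (hpp : p.Prime) (hp2 : p ≠ 2) :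
    ∃ u : ℕ, geomE (p * c + 1) p = p * u ∧ ¬ p ∣ u := by
  have h1 := geomE_zmod p c p
  have hsum : ∑ i ∈ Finset.range p, (i : ZMod (p ^ 2)) =
      (p : ZMod (p ^ 2)) * (((p - 1) / 2 : ℕ) : ZMod (p ^ 2)) := by
    have h2 : ∑ i ∈ Finset.range p, i = p * ((p - 1) / 2) := by
      have h3 := Finset.sum_range_id_mul_two p
      have hodd : (p - 1) % 2 = 0 := by
        rcases hpp.eq_two_or_odd with h | h
        · exact absurd h hp2
        · omega
      have h4 : (p - 1) = 2 * ((p - 1) / 2) := by omega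
      have h5 : (∑ i ∈ Finset.range p, i) * 2 = (p * ((p - 1) / 2)) * 2 := by
        rw [h3]; nth_rewrite 1 [h4]; ring
      exact Nat.eq_of_mul_eq_mul_right (by norm_num) h5
    rw [← Nat.cast_sum, h2, Nat.cast_mul]
  have hpp2 : (p : ZMod (p ^ 2)) * (p : ZMod (p ^ 2)) = 0 := by
    rw [← Nat.cast_mul, ← sq]; exact ZMod.natCast_self (p ^ 2)
  rw [hsum] at h1
  have h6 : ((geomE (p * c + 1) p : ℕ) : ZMod (p ^ 2)) = ((p : ℕ) : ZMod (p ^ 2)) := by
    rw [h1]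
    linear_combination ((c : ZMod (p ^ 2)) * (((p - 1) / 2 : ℕ) : ZMod (p ^ 2))) * hpp2
  rw [ZMod.natCast_eq_natCast_iff] at h6
  have h7 : p ∣ geomE (p * c + 1) p :=
    (Nat.ModEq.dvd_iff h6 (dvd_pow_self p two_ne_zero)).mpr dvd_rfl
  obtain ⟨u, hu⟩ := h7
  refine ⟨u, hu, ?_⟩
  intro hpu
  rw [hu] at h6
  obtain ⟨v, rfl⟩ := hpu
  have h8 : p * (p * v) ≡ 0 [MOD p ^ 2] := by
    rw [Nat.modEq_zero_iff_dvd]; exact ⟨v, by ring⟩
  have h9 : p ≡ 0 [MOD p ^ 2] := h6.symm.trans h8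
  rw [Nat.modEq_zero_iff_dvd] at h9
  have h10 := Nat.le_of_dvd hpp.pos h9
  have h11 : p < p ^ 2 := by
    have := hpp.one_lt
    nlinarith
  omega

theorem comm_pow_geom {G : Type*} [Group G] (h l : G) (ρ : ℕ)
    (hρ : l * ⁅h, l⁆ * l⁻¹ = ⁅h, l⁆ ^ ρ) (k : ℕ) :
    ⁅h, l ^ k⁆ = ⁅h, l⁆ ^ geomE ρ k := by
  induction k with
  | zero => simp [geomE]
  | succ k ih =>
    have h1 : ⁅h, l ^ (k + 1)⁆ = ⁅h, l⁆ * (l * ⁅h, l ^ k⁆ * l⁻¹) := by
      simp only [commutatorElement_def, pow_succ']; group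
    rw [h1, ih, ← conj_pow, hρ]
    show _ = ⁅h, l⁆ ^ (1 + ρ * geomE ρ k)
    rw [pow_add, pow_one, pow_mul]

/-- full regularity (one direction) in a metacyclic `p`-group, `p` odd -/
theorem meta_FR {G : Type*} [Group G] [Finite G] {p : ℕ} [Fact p.Prime] (hp : p ≠ 2)
    (hG : IsPGroup p G) (hmc : Cfsg.IsMetacyclic G) (h l : G) (m : ℕ)
    (hc : ⁅h, l ^ p ^ m⁆ = 1) : ⁅h, l⁆ ^ p ^ m = 1 := by
  have hpp := (Fact.out : p.Prime)
  obtain ⟨N, C, x, y, a, hN, hCn, hxN, hNC, hxgen, hy, ha, hρ, hreg, hcomm, hCmem, hCab⟩ :=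
    meta_setup2 hp hG hmc
  haveI := hN
  have hcmN : ∀ u v : G, ⁅u, v⁆ ∈ Subgroup.zpowers x := by
    intro u v
    apply hxgen
    have h1 : ⁅u, v⁆ ∈ commutator G := by
      rw [commutator_def]
      exact Subgroup.commutator_mem_commutator (Subgroup.mem_top _) (Subgroup.mem_top _)
    rw [hcomm] at h1
    have hwN : ⁅x, y⁆ ∈ N := by
      have e : ⁅x, y⁆ = x * (y * x⁻¹ * y⁻¹) := by rw [commutatorElement_def]; group
      rw [e]; exact N.mul_mem hxN (hN.conj_mem _ (N.inv_mem hxN) y)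
    exact (Subgroup.zpowers_le.mpr hwN) h1
  have BL : ∀ (l h : G) (j : ℕ), ⁅h, l ^ p⁆ ^ p ^ j = 1 → ⁅h, l⁆ ^ p ^ (j + 1) = 1 := by
    intro l h j hj
    by_cases hx1 : x = 1
    · have h0 := hcmN h l
      rw [hx1, Subgroup.zpowers_one_eq_bot, Subgroup.mem_bot] at h0
      rw [h0, one_pow]
    have ha1 : a ≠ 0 := by
      intro h0; apply hx1; rw [← orderOf_eq_one_iff, ha, h0, pow_zero]
    obtain ⟨ρ, hρ1, hρl⟩ := hρ l
    obtain ⟨k, hk⟩ := (IsPGroup.iff_orderOf.mp hG) l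
    obtain ⟨c, hc⟩ := meta_rho_dvd x l a ρ k ha ha1 hρ1 hρl
      (by rw [← hk]; exact pow_orderOf_eq_one l)
    have hρc : ρ = p * c + 1 := by omega
    obtain ⟨z, hz⟩ := Subgroup.mem_zpowers_iff.mp (hcmN h l)
    have hconj : l * ⁅h, l⁆ * l⁻¹ = ⁅h, l⁆ ^ ρ := by
      rw [← hz, ← conj_zpow, hρl, ← zpow_natCast, ← zpow_natCast, ← zpow_mul, ← zpow_mul,
        mul_comm]
    have h1 := comm_pow_geom h l ρ hconj p
    obtain ⟨u, hu, hpu⟩ := geomE_prime p c hpp hp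
    rw [hρc, hu] at h1
    rw [h1, ← pow_mul] at hj
    obtain ⟨t, ht⟩ := (IsPGroup.iff_orderOf.mp hG) ⁅h, l⁆
    have h2 := orderOf_dvd_of_pow_eq_one hj
    rw [ht] at h2
    rw [← orderOf_dvd_iff_pow_eq_one, ht]
    have h3 : p ^ t ∣ p ^ (j + 1) * u := by
      have e : p * u * p ^ j = p ^ (j + 1) * u := by ring
      rw [← e]; exact h2
    exact Nat.Coprime.dvd_of_dvd_mul_right
      (Nat.Coprime.pow_left t ((Nat.Prime.coprime_iff_not_dvd hpp).mpr hpu)) h3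
  have Q : ∀ (m : ℕ) (l h : G) (j : ℕ), ⁅h, l ^ p ^ m⁆ ^ p ^ j = 1 →
      ⁅h, l⁆ ^ p ^ (m + j) = 1 := by
    intro m
    induction m with
    | zero =>
      intro l h j hj
      rw [pow_zero, pow_one] at hj
      rw [zero_add]; exact hj
    | succ m ih =>
      intro l h j hj
      have e : l ^ p ^ (m + 1) = (l ^ p ^ m) ^ p := by rw [pow_succ, pow_mul]
      rw [e] at hj
      have h1 := BL (l ^ p ^ m) h j hj
      have h2 := ih l h (j + 1) h1
      have e2 : m + (j + 1) = m + 1 + j := by ring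
      rw [e2] at h2; exact h2
  have h1 := Q m l h 0 (by rw [pow_zero, pow_one]; exact hc)
  rw [add_zero] at h1; exact h1

/-- counting in a cyclic extension -/
theorem card_cyclic_ext {G : Type*} [Group G] [Finite G] (A B : Subgroup G) (hAB : A ≤ B) (b : G)
    (hb : b ∈ B) (k : ℕ) (hk : 0 < k)
    (h1 : ∀ u ∈ B, ∃ t : ℕ, u * (b ^ t)⁻¹ ∈ A) (h2 : ∀ t : ℕ, b ^ t ∈ A ↔ k ∣ t) :
    Nat.card B = Nat.card A * k := by
  have hbk : b ^ k ∈ A := (h2 k).mpr dvd_rfl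
  have key : ∀ (a a' : G) (t t' : ℕ), a ∈ A → a' ∈ A → t ≤ t' → t' < k →
      a * b ^ t = a' * b ^ t' → t = t' := by
    intro a a' t t' ha ha' hle hlt heq
    obtain ⟨d, rfl⟩ := Nat.exists_eq_add_of_le hle
    have h3 : b ^ d ∈ A := by
      have e : b ^ d = a'⁻¹ * a := by
        have e0 : b ^ (t + d) = b ^ d * b ^ t := by rw [← pow_add, add_comm]
        rw [e0] at heq
        have e1 : a = a' * b ^ d :=
          mul_right_cancel (show a * b ^ t = (a' * b ^ d) * b ^ t by rw [heq, mul_assoc])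
        rw [e1]; group
      rw [e]; exact A.mul_mem (A.inv_mem ha') ha
    have h4 := (h2 d).mp h3
    have h5 : d = 0 := by
      by_contra hd
      have h6 := Nat.le_of_dvd (Nat.pos_of_ne_zero hd) h4
      omega
    omega
  have hbij : Function.Bijective (fun q : A × Fin k =>
      (⟨(q.1 : G) * b ^ (q.2 : ℕ), B.mul_mem (hAB q.1.2) (B.pow_mem hb _)⟩ : B)) := by
    constructor
    · rintro ⟨a, t⟩ ⟨a', t'⟩ hq
      have h3 : (a : G) * b ^ (t : ℕ) = (a' : G) * b ^ (t' : ℕ) := congrArg Subtype.val hq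
      have h4 : (t : ℕ) = (t' : ℕ) := by
        rcases le_total (t : ℕ) (t' : ℕ) with h | h
        · exact key _ _ _ _ a.2 a'.2 h t'.2 h3
        · exact (key _ _ _ _ a'.2 a.2 h t.2 h3.symm).symm
      have h5 : t = t' := Fin.ext h4
      subst h5
      have h6 : (a : G) = (a' : G) := mul_right_cancel h3
      rw [Prod.mk.injEq]; exact ⟨Subtype.ext h6, rfl⟩
    · rintro ⟨u, hu⟩
      obtain ⟨t, ht⟩ := h1 u hu
      have h3 : u * (b ^ (t % k))⁻¹ ∈ A := by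
        have e : b ^ t = (b ^ k) ^ (t / k) * b ^ (t % k) := by
          rw [← pow_mul, ← pow_add, Nat.div_add_mod]
        have e2 : u * (b ^ (t % k))⁻¹ = u * (b ^ t)⁻¹ * (b ^ k) ^ (t / k) := by rw [e]; group
        rw [e2]; exact A.mul_mem ht (A.pow_mem hbk _)
      refine ⟨(⟨_, h3⟩, ⟨t % k, Nat.mod_lt _ hk⟩), ?_⟩
      apply Subtype.ext
      show u * (b ^ (t % k))⁻¹ * b ^ (t % k) = u
      group
  rw [← Nat.card_congr (Equiv.ofBijective _ hbij), Nat.card_prod, Nat.card_fin]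

end Cfsg.Agent.Lib.Helper1
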