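import Mathlib
import Cfsg.Agent.Lib.Helper1.MetaFR
import Cfsg.Prelude.Def_BaumannBlocks

set_option autoImplicit false
set_option maxHeartbeats 1600000

namespace Cfsg.Agent.Lib.Helper1

open scoped commutatorElement

theorem meta_setup4 {G : Type*} [Group G] [Finite G] {p : ℕ} [Fact p.Prime] (hp : p ≠ 2)
    (hG : IsPGroup p G) (hmc : Cfsg.IsMetacyclic G) :
    ∃ (N C : Subgroup G) (x y : G) (a : ℕ), N.Normal ∧ C.Normal ∧ x ∈ N ∧ N ≤ C ∧
      (∀ n ∈ N, n ∈ Subgroup.zpowers x) ∧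
      (∀ g : G, ∃ j : ℕ, g * (y ^ j)⁻¹ ∈ N) ∧ orderOf x = p ^ a ∧
      (∀ l : G, ∃ ρ : ℕ, 1 ≤ ρ ∧ l * x * l⁻¹ = x ^ ρ) ∧
      (∀ (l : G) (m : ℕ), l ^ m * x = x * l ^ m ↔ ⁅x, l⁆ ^ m = 1) ∧
      commutator G = Subgroup.zpowers ⁅x, y⁆ ∧
      (∀ g : G, g ∈ C ↔ g * x = x * g) ∧
      (∀ u ∈ C, ∀ v ∈ C, u * v = v * u) ∧
      (∀ u l : G, orderOf ⁅x, u⁆ ≤ orderOf ⁅x, l⁆ → ∃ e : ℕ, u * (l ^ e)⁻¹ ∈ C) ∧
      C.index = orderOf ⁅x, y⁆ ∧
      (∀ c ∈ C, ∃ i : ℕ, c * (x ^ i)⁻¹ ∈ Subgroup.center G) := by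
  classical
  have hpp := (Fact.out : p.Prime)
  obtain ⟨N, C, x, y, a, hN, hCn, hxN, hNC, hxgen, hy, ha, hρ, hreg, hcomm, hCmem, hCab⟩ :=
    meta_setup2 hp hG hmc
  haveI := hN; haveI := hCn
  have hyC : ∀ g : G, ∃ j : ℕ, g * (y ^ j)⁻¹ ∈ C := fun g => (hy g).imp (fun j hj => hNC hj)
  have hgenq : ∀ q : G ⧸ C, q ∈ Subgroup.zpowers (QuotientGroup.mk y : G ⧸ C) := by
    intro q
    obtain ⟨g, rfl⟩ := QuotientGroup.mk_surjective q
    obtain ⟨j, hj⟩ := hyC g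
    rw [Subgroup.mem_zpowers_iff]
    refine ⟨j, ?_⟩
    rw [zpow_natCast, ← QuotientGroup.mk_pow]
    apply QuotientGroup.eq.mpr
    have h3 := Subgroup.Normal.conj_mem hCn _ hj (y ^ j)⁻¹
    have h4 : (y ^ j)⁻¹ * (g * (y ^ j)⁻¹) * (y ^ j)⁻¹⁻¹ = (y ^ j)⁻¹ * g := by group
    rw [h4] at h3
    exact h3
  haveI hcyc : IsCyclic (G ⧸ C) :=
    isCyclic_iff_exists_zpowers_eq_top.mpr ⟨QuotientGroup.mk y, (Subgroup.eq_top_iff' _).mpr hgenq⟩
  have hordq : ∀ l : G, orderOf (QuotientGroup.mk l : G ⧸ C) = orderOf ⁅x, l⁆ := by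
    intro l
    rw [orderOf_eq_orderOf_iff]
    intro m
    rw [← QuotientGroup.mk_pow, QuotientGroup.eq_one_iff, hCmem, hreg]
  have hchain : ∀ u l : G, orderOf ⁅x, u⁆ ≤ orderOf ⁅x, l⁆ → ∃ e : ℕ, u * (l ^ e)⁻¹ ∈ C := by
    intro u l hle
    have h1 : (QuotientGroup.mk u : G ⧸ C) ∈ Subgroup.zpowers (QuotientGroup.mk l : G ⧸ C) := by
      apply cyc_mem_zpowers
      obtain ⟨s, hs⟩ := (IsPGroup.iff_orderOf.mp hG) ⁅x, u⁆
      obtain ⟨t, ht⟩ := (IsPGroup.iff_orderOf.mp hG) ⁅x, l⁆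
      rw [← orderOf_dvd_iff_pow_eq_one, hordq u, hordq l, hs, ht]
      apply pow_dvd_pow
      rw [hs, ht] at hle
      exact (Nat.pow_le_pow_iff_right hpp.one_lt).mp hle
    have h2 := (mem_powers_iff_mem_zpowers).mpr h1
    obtain ⟨e, he⟩ := (Submonoid.mem_powers_iff _ _).mp h2
    refine ⟨e, ?_⟩
    rw [← QuotientGroup.mk_pow] at he
    have h3 : (l ^ e)⁻¹ * u ∈ C := QuotientGroup.eq.mp he
    have h4 := Subgroup.Normal.conj_mem hCn _ h3 (l ^ e)
    have h5 : l ^ e * ((l ^ e)⁻¹ * u) * (l ^ e)⁻¹ = u * (l ^ e)⁻¹ := by group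
    rw [h5] at h4; exact h4
  have hCidx : C.index = orderOf ⁅x, y⁆ := by
    rw [Subgroup.index_eq_card, ← orderOf_eq_card_of_forall_mem_zpowers hgenq, hordq y]
  have hZdec : ∀ c ∈ C, ∃ i : ℕ, c * (x ^ i)⁻¹ ∈ Subgroup.center G := by
    intro c hc
    obtain ⟨j, hj⟩ := hy c
    obtain ⟨l, hl⟩ := (Submonoid.mem_powers_iff _ _).mp
      ((mem_powers_iff_mem_zpowers).mpr (hxgen _ hj))
    have hceq : c = x ^ l * y ^ j := by rw [hl]; group
    have hyjC : y ^ j ∈ C := by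
      have h0 : y ^ j = (x ^ l)⁻¹ * c := by rw [hceq]; group
      rw [h0]; exact C.mul_mem (C.inv_mem (C.pow_mem (hNC hxN) l)) hc
    have hyjZ : ∀ h : G, h * y ^ j = y ^ j * h := by
      intro h
      obtain ⟨i, hi⟩ := hy h
      have h1 : y ^ j * (h * (y ^ i)⁻¹) = (h * (y ^ i)⁻¹) * y ^ j := hCab _ hyjC _ (hNC hi)
      have h2 : y ^ j * y ^ i = y ^ i * y ^ j := by rw [← pow_add, ← pow_add, add_comm]
      symm
      calc y ^ j * h = y ^ j * (h * (y ^ i)⁻¹) * y ^ i := by group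
        _ = (h * (y ^ i)⁻¹) * (y ^ j * y ^ i) := by rw [h1]; group
        _ = (h * (y ^ i)⁻¹) * (y ^ i * y ^ j) := by rw [h2]
        _ = h * y ^ j := by group
    refine ⟨l, ?_⟩
    have h3 : c * (x ^ l)⁻¹ = y ^ j := by
      have h4 := hyjZ (x ^ l)
      rw [hceq, h4]; group
    rw [h3, Subgroup.mem_center_iff]
    exact hyjZ
  exact ⟨N, C, x, y, a, hN, hCn, hxN, hNC, hxgen, hy, ha, hρ, hreg, hcomm, hCmem, hCab, hchain,
    hCidx, hZdec⟩

theorem meta_cd {G : Type*} [Group G] [Finite G] {p : ℕ} [Fact p.Prime] (hp : p ≠ 2)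
    (hG : IsPGroup p G) (hmc : Cfsg.IsMetacyclic G) (R : Subgroup G)
    (hZR : Subgroup.center G ≤ R) :
    Nat.card ↥R * Nat.card ↥(Subgroup.centralizer (R : Set G)) =
      Nat.card G * Nat.card ↥(Subgroup.center G) := by
  classical
  have hpp := (Fact.out : p.Prime)
  obtain ⟨N, C, x, y, a, hN, hCn, hxN, hNC, hxgen, hy, ha, hρ, hreg, hcomm, hCmem, hCab, hchain,
    hCidx, hZdec⟩ := meta_setup4 hp hG hmc
  haveI := hN; haveI := hCn
  obtain ⟨w, hw⟩ : ∃ w, w = ⁅x, y⁆ := ⟨_, rfl⟩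
  have hNab : ∀ a ∈ N, ∀ b ∈ N, a * b = b * a := fun a ha b hb => hCab a (hNC ha) b (hNC hb)
  have hxpow : ∀ (h : G) (t : ℕ), ⁅x ^ t, h⁆ = ⁅x, h⁆ ^ t := by
    intro h t
    obtain ⟨κ, hκ⟩ := comm_hom_of_ab N hNab h
    have h1 := map_pow κ (⟨x, hxN⟩ : N) t
    rw [hκ, hκ] at h1
    exact h1
  have hZC : Subgroup.center G ≤ C := by
    intro z hz
    rw [hCmem]
    exact (Subgroup.mem_center_iff.mp hz x).symm
  have hcmN : ∀ u v : G, ⁅u, v⁆ ∈ N := by
    intro u v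
    have h1 : ⁅u, v⁆ ∈ commutator G := by
      rw [commutator_def]
      exact Subgroup.commutator_mem_commutator (Subgroup.mem_top _) (Subgroup.mem_top _)
    rw [hcomm] at h1
    have hwN : ⁅x, y⁆ ∈ N := by
      have e : ⁅x, y⁆ = x * (y * x⁻¹ * y⁻¹) := by rw [commutatorElement_def]; group
      rw [e]; exact N.mul_mem hxN (hN.conj_mem _ (N.inv_mem hxN) y)
    exact (Subgroup.zpowers_le.mpr hwN) h1
  obtain ⟨l, hlR, hlmax⟩ : ∃ l ∈ R, ∀ u ∈ R, orderOf ⁅x, u⁆ ≤ orderOf ⁅x, l⁆ := by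
    obtain ⟨l, hl⟩ := Finite.exists_max (fun u : R => orderOf ⁅x, (u : G)⁆)
    exact ⟨l, l.2, fun u hu => hl ⟨u, hu⟩⟩
  obtain ⟨M, hM⟩ : ∃ M, M = orderOf ⁅x, l⁆ := ⟨_, rfl⟩
  have hMpos : 0 < M := by rw [hM]; exact orderOf_pos _
  have hlC_iff : ∀ t : ℕ, l ^ t ∈ C ↔ M ∣ t := by
    intro t; rw [hCmem, hreg, hM, orderOf_dvd_iff_pow_eq_one]
  have hi : Nat.card R = Nat.card ↥(R ⊓ C) * M := by
    apply card_cyclic_ext (R ⊓ C) R inf_le_left l hlR M hMpos
    · intro u hu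
      obtain ⟨t, ht⟩ := hchain u l (hlmax u hu)
      exact ⟨t, ⟨R.mul_mem hu (R.inv_mem (R.pow_mem hlR _)), ht⟩⟩
    · intro t
      constructor
      · intro h; exact (hlC_iff t).mp h.2
      · intro h; exact ⟨R.pow_mem hlR _, (hlC_iff t).mpr h⟩
  have hex : ∃ e : ℕ, 0 < e ∧ x ^ e ∈ R :=
    ⟨orderOf x, orderOf_pos x, by rw [pow_orderOf_eq_one]; exact R.one_mem⟩
  obtain ⟨e, ⟨hepos, heR⟩, hemin⟩ : ∃ e, (0 < e ∧ x ^ e ∈ R) ∧
      ∀ e', (0 < e' ∧ x ^ e' ∈ R) → e ≤ e' :=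
    ⟨Nat.find hex, Nat.find_spec hex, fun e' he' => Nat.find_min' hex he'⟩
  have he_iff : ∀ t : ℕ, x ^ t ∈ R ↔ e ∣ t := by
    intro t
    constructor
    · intro ht
      have h1 : x ^ (t % e) ∈ R := by
        have e1 : x ^ (t % e) = x ^ t * ((x ^ e) ^ (t / e))⁻¹ := by
          have e2 : x ^ t = x ^ (t % e) * (x ^ e) ^ (t / e) := by
            rw [← pow_mul, ← pow_add, Nat.mod_add_div]
          rw [e2]; group
        rw [e1]; exact R.mul_mem ht (R.inv_mem (R.pow_mem heR _))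
      by_contra hnd
      have h2 : 0 < t % e := Nat.pos_of_ne_zero (fun h0 => hnd (Nat.dvd_of_mod_eq_zero h0))
      have h3 := hemin (t % e) ⟨h2, h1⟩
      have h4 := Nat.mod_lt t hepos
      omega
    · rintro ⟨t', rfl⟩
      rw [pow_mul]; exact R.pow_mem heR _
  have hZ_iff : ∀ t : ℕ, x ^ t ∈ Subgroup.center G ↔ orderOf w ∣ t := by
    intro t
    rw [orderOf_dvd_iff_pow_eq_one, hw, ← hxpow y t, commutatorElement_eq_one_iff_commute]
    constructor
    · intro hz; exact (Subgroup.mem_center_iff.mp hz y).symm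
    · intro hcomm'
      rw [Subgroup.mem_center_iff]
      intro g
      obtain ⟨j, hj⟩ := hy g
      have c1 : (g * (y ^ j)⁻¹) * x ^ t = x ^ t * (g * (y ^ j)⁻¹) :=
        hNab _ hj _ (N.pow_mem hxN t)
      have c2 : y ^ j * x ^ t = x ^ t * y ^ j := ((hcomm'.pow_right j).eq).symm
      calc g * x ^ t = (g * (y ^ j)⁻¹) * (y ^ j * x ^ t) := by group
        _ = (g * (y ^ j)⁻¹) * (x ^ t * y ^ j) := by rw [c2]
        _ = ((g * (y ^ j)⁻¹) * x ^ t) * y ^ j := by group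
        _ = (x ^ t * (g * (y ^ j)⁻¹)) * y ^ j := by rw [c1]
        _ = x ^ t * g := by group
  have heP : e ∣ orderOf w := (he_iff _).mp (hZR ((hZ_iff _).mpr dvd_rfl))
  obtain ⟨q, hq⟩ := heP
  have hqpos : 0 < q := by
    rcases Nat.eq_zero_or_pos q with h0 | h0
    · rw [h0, mul_zero] at hq
      exact absurd hq (orderOf_pos w).ne'
    · exact h0
  have hiii : Nat.card ↥(R ⊓ C) = Nat.card ↥(Subgroup.center G) * q := by
    apply card_cyclic_ext (Subgroup.center G) (R ⊓ C) (le_inf hZR hZC) (x ^ e)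
      ⟨heR, C.pow_mem (hNC hxN) _⟩ q hqpos
    · intro c hc
      obtain ⟨i, hi'⟩ := hZdec c hc.2
      have h1 : x ^ i ∈ R := by
        have e1 : x ^ i = (c * (x ^ i)⁻¹)⁻¹ * c := by group
        rw [e1]; exact R.mul_mem (R.inv_mem (hZR hi')) hc.1
      obtain ⟨i', rfl⟩ := (he_iff i).mp h1
      refine ⟨i', ?_⟩
      rw [← pow_mul]; exact hi'
    · intro t
      rw [← pow_mul, hZ_iff, hq]
      constructor
      · intro h; exact Nat.dvd_of_mul_dvd_mul_left hepos h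
      · intro h; exact Nat.mul_dvd_mul_left e h
  have hii : Nat.card C = Nat.card ↥(C ⊓ Subgroup.centralizer ({l} : Set G)) * M := by
    apply card_cyclic_ext (C ⊓ Subgroup.centralizer ({l} : Set G)) C inf_le_left x (hNC hxN) M
      hMpos
    · intro c hc
      obtain ⟨i, hi'⟩ := hZdec c hc
      refine ⟨i, hZC hi', ?_⟩
      show c * (x ^ i)⁻¹ ∈ Subgroup.centralizer ({l} : Set G)
      rw [Subgroup.mem_centralizer_iff]
      intro z hz
      rw [Set.mem_singleton_iff] at hz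
      rw [hz]
      exact Subgroup.mem_center_iff.mp hi' l
    · intro t
      constructor
      · intro h
        have h1 : ⁅x ^ t, l⁆ = 1 := by
          rw [commutatorElement_eq_one_iff_commute]
          exact ((Subgroup.mem_centralizer_iff.mp h.2) l (Set.mem_singleton l)).symm
        rw [hxpow, ← orderOf_dvd_iff_pow_eq_one, ← hM] at h1
        exact h1
      · intro h
        refine ⟨C.pow_mem (hNC hxN) _, ?_⟩
        show x ^ t ∈ Subgroup.centralizer ({l} : Set G)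
        rw [Subgroup.mem_centralizer_iff]
        intro z hz
        rw [Set.mem_singleton_iff] at hz
        rw [hz]
        have h1 : ⁅x ^ t, l⁆ = 1 := by
          rw [hxpow, ← orderOf_dvd_iff_pow_eq_one, ← hM]; exact h
        exact (commutatorElement_eq_one_iff_commute.mp h1).eq.symm
  have hCR : ∀ c ∈ C, c * l = l * c → c ∈ Subgroup.centralizer (R : Set G) := by
    intro c hc hcl
    rw [Subgroup.mem_centralizer_iff]
    intro r hr
    obtain ⟨t, ht⟩ := hchain r l (hlmax r hr)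
    have c1 : (r * (l ^ t)⁻¹) * c = c * (r * (l ^ t)⁻¹) := hCab _ ht _ hc
    have c2 : l ^ t * c = c * l ^ t := ((show Commute c l from hcl).pow_right t).eq.symm
    calc r * c = (r * (l ^ t)⁻¹) * (l ^ t * c) := by group
      _ = (r * (l ^ t)⁻¹) * (c * l ^ t) := by rw [c2]
      _ = ((r * (l ^ t)⁻¹) * c) * l ^ t := by group
      _ = (c * (r * (l ^ t)⁻¹)) * l ^ t := by rw [c1]
      _ = c * r := by group
  have hcentR_e : ∀ h ∈ Subgroup.centralizer (R : Set G), ⁅x, h⁆ ^ e = 1 := by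
    intro h hh
    rw [← hxpow, commutatorElement_eq_one_iff_commute]
    exact (Subgroup.mem_centralizer_iff.mp hh) (x ^ e) heR
  have hexh : ∃ h₀ ∈ Subgroup.centralizer (R : Set G), orderOf ⁅x, h₀⁆ = e := by
    -- h₁ = y ^ q
    have hh₁ : ∀ m : ℕ, ⁅x, y ^ q⁆ ^ m = 1 ↔ e ∣ m := by
      intro m
      rw [← hreg (y ^ q) m, ← pow_mul, hreg y (q * m), ← hw, ← orderOf_dvd_iff_pow_eq_one, hq]
      constructor
      · intro h
        have h' : q * e ∣ q * m := by rw [mul_comm q e]; exact h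
        exact Nat.dvd_of_mul_dvd_mul_left hqpos h'
      · intro h
        rw [mul_comm e q]; exact Nat.mul_dvd_mul_left q h
    have hord₁ : orderOf ⁅x, y ^ q⁆ = e :=
      Nat.dvd_antisymm (orderOf_dvd_of_pow_eq_one ((hh₁ e).mpr dvd_rfl))
        ((hh₁ _).mp (pow_orderOf_eq_one _))
    have hh₁xe : x ^ e * y ^ q = y ^ q * x ^ e := by
      have h1 : ⁅x ^ e, y ^ q⁆ = 1 := by rw [hxpow]; exact (hh₁ e).mpr dvd_rfl
      exact (commutatorElement_eq_one_iff_commute.mp h1).eq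
    have hh₁D : ∀ c ∈ R ⊓ C, c * y ^ q = y ^ q * c := by
      intro c hc
      obtain ⟨i, hi'⟩ := hZdec c hc.2
      have h1 : x ^ i ∈ R := by
        have e1 : x ^ i = (c * (x ^ i)⁻¹)⁻¹ * c := by group
        rw [e1]; exact R.mul_mem (R.inv_mem (hZR hi')) hc.1
      obtain ⟨i', rfl⟩ := (he_iff i).mp h1
      have c1 : x ^ (e * i') * y ^ q = y ^ q * x ^ (e * i') := by
        rw [pow_mul]
        exact ((show Commute (x ^ e) (y ^ q) from hh₁xe).pow_left i').eq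
      have c2 : (c * (x ^ (e * i'))⁻¹) * y ^ q = y ^ q * (c * (x ^ (e * i'))⁻¹) :=
        (Subgroup.mem_center_iff.mp hi' (y ^ q)).symm
      calc c * y ^ q = (c * (x ^ (e * i'))⁻¹) * (x ^ (e * i') * y ^ q) := by group
        _ = (c * (x ^ (e * i'))⁻¹) * (y ^ q * x ^ (e * i')) := by rw [c1]
        _ = ((c * (x ^ (e * i'))⁻¹) * y ^ q) * x ^ (e * i') := by group
        _ = (y ^ q * (c * (x ^ (e * i'))⁻¹)) * x ^ (e * i') := by rw [c2]
        _ = y ^ q * c := by group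
    obtain ⟨m', hm'⟩ := (IsPGroup.iff_orderOf.mp hG) ⁅x, l⁆
    have hlMD : l ^ M ∈ R ⊓ C := ⟨R.pow_mem hlR _, (hlC_iff M).mpr dvd_rfl⟩
    have hFR : ⁅y ^ q, l⁆ ^ M = 1 := by
      rw [hM, hm']
      apply meta_FR hp hG hmc
      rw [← hm', ← hM, commutatorElement_eq_one_iff_commute]
      exact (hh₁D _ hlMD).symm
    -- τ
    obtain ⟨τ, hτ⟩ : ∃ τ, τ = (y ^ q)⁻¹ * ⁅y ^ q, l⁆⁻¹ * y ^ q := ⟨_, rfl⟩
    have hτN : τ ∈ N := by
      rw [hτ]
      have h0 := hN.conj_mem _ (N.inv_mem (hcmN (y ^ q) l)) (y ^ q)⁻¹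
      rw [inv_inv] at h0
      exact h0
    have hτM : τ ^ M = 1 := by
      have e1 : τ = (y ^ q)⁻¹ * ⁅y ^ q, l⁆⁻¹ * ((y ^ q)⁻¹)⁻¹ := by rw [hτ, inv_inv]
      rw [e1, conj_pow, inv_pow, hFR, inv_one, mul_one, mul_inv_cancel]
    have hτz : τ ∈ Subgroup.zpowers ⁅x, l⁆ := by
      apply cyc_mem_zpowers_sub (Subgroup.zpowers x) (hxgen _ hτN) (hxgen _ (hcmN x l))
      rw [← hM]; exact hτM
    obtain ⟨k, hk⟩ := (Submonoid.mem_powers_iff _ _).mp ((mem_powers_iff_mem_zpowers).mpr hτz)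
    -- hk : ⁅x, l⁆ ^ k = τ
    have hcomm₀ : (y ^ q * x ^ k) * l = l * (y ^ q * x ^ k) := by
      have h1 : ⁅x ^ k, l⁆ = (y ^ q)⁻¹ * ⁅y ^ q, l⁆⁻¹ * y ^ q := by rw [hxpow, hk, hτ]
      have h2 : ⁅y ^ q * x ^ k, l⁆ = 1 := by
        have e1 : ⁅y ^ q * x ^ k, l⁆ = y ^ q * ⁅x ^ k, l⁆ * (y ^ q)⁻¹ * ⁅y ^ q, l⁆ := by
          simp only [commutatorElement_def]; group
        rw [e1, h1]; group
      exact (commutatorElement_eq_one_iff_commute.mp h2).eq
    refine ⟨y ^ q * x ^ k, ?_, ?_⟩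
    · rw [Subgroup.mem_centralizer_iff]
      intro r hr
      obtain ⟨t, ht⟩ := hchain r l (hlmax r hr)
      have hdR : r * (l ^ t)⁻¹ ∈ R ⊓ C := ⟨R.mul_mem hr (R.inv_mem (R.pow_mem hlR _)), ht⟩
      have c1 : (r * (l ^ t)⁻¹) * (y ^ q * x ^ k) = (y ^ q * x ^ k) * (r * (l ^ t)⁻¹) := by
        have d1 := hh₁D _ hdR
        have d2 : (r * (l ^ t)⁻¹) * x ^ k = x ^ k * (r * (l ^ t)⁻¹) :=
          hCab _ ht _ (C.pow_mem (hNC hxN) k)
        calc (r * (l ^ t)⁻¹) * (y ^ q * x ^ k) = ((r * (l ^ t)⁻¹) * y ^ q) * x ^ k := by group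
          _ = (y ^ q * (r * (l ^ t)⁻¹)) * x ^ k := by rw [d1]
          _ = y ^ q * ((r * (l ^ t)⁻¹) * x ^ k) := by group
          _ = y ^ q * (x ^ k * (r * (l ^ t)⁻¹)) := by rw [d2]
          _ = (y ^ q * x ^ k) * (r * (l ^ t)⁻¹) := by group
      have c2 : l ^ t * (y ^ q * x ^ k) = (y ^ q * x ^ k) * l ^ t :=
        ((show Commute (y ^ q * x ^ k) l from hcomm₀).pow_right t).eq.symm
      calc r * (y ^ q * x ^ k) = (r * (l ^ t)⁻¹) * (l ^ t * (y ^ q * x ^ k)) := by group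
        _ = (r * (l ^ t)⁻¹) * ((y ^ q * x ^ k) * l ^ t) := by rw [c2]
        _ = ((r * (l ^ t)⁻¹) * (y ^ q * x ^ k)) * l ^ t := by group
        _ = ((y ^ q * x ^ k) * (r * (l ^ t)⁻¹)) * l ^ t := by rw [c1]
        _ = (y ^ q * x ^ k) * r := by group
    · have e1 : ⁅x, y ^ q * x ^ k⁆ = ⁅x, y ^ q⁆ := by
        simp only [commutatorElement_def]; group
      rw [e1, hord₁]
  obtain ⟨h₀, hh₀R, hh₀e⟩ := hexh
  have hAB : C ⊓ Subgroup.centralizer ({l} : Set G) ≤ Subgroup.centralizer (R : Set G) := by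
    intro c hc
    apply hCR c hc.1
    exact ((Subgroup.mem_centralizer_iff.mp hc.2) l (Set.mem_singleton l)).symm
  have hiv : Nat.card ↥(Subgroup.centralizer (R : Set G)) =
      Nat.card ↥(C ⊓ Subgroup.centralizer ({l} : Set G)) * e := by
    apply card_cyclic_ext (C ⊓ Subgroup.centralizer ({l} : Set G))
      (Subgroup.centralizer (R : Set G)) hAB h₀ hh₀R e hepos
    · intro u hu
      have hle : orderOf ⁅x, u⁆ ≤ orderOf ⁅x, h₀⁆ := by
        rw [hh₀e]
        exact Nat.le_of_dvd hepos (orderOf_dvd_of_pow_eq_one (hcentR_e u hu))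
      obtain ⟨t, ht⟩ := hchain u h₀ hle
      refine ⟨t, ht, ?_⟩
      show u * (h₀ ^ t)⁻¹ ∈ Subgroup.centralizer ({l} : Set G)
      have hmem : u * (h₀ ^ t)⁻¹ ∈ Subgroup.centralizer (R : Set G) :=
        Subgroup.mul_mem _ hu (Subgroup.inv_mem _ (Subgroup.pow_mem _ hh₀R _))
      rw [Subgroup.mem_centralizer_iff]
      intro z hz
      rw [Set.mem_singleton_iff] at hz
      rw [hz]
      exact (Subgroup.mem_centralizer_iff.mp hmem) l hlR
    · intro t
      constructor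
      · intro h
        have h1 : h₀ ^ t ∈ C := h.1
        rw [hCmem, hreg, ← orderOf_dvd_iff_pow_eq_one, hh₀e] at h1
        exact h1
      · intro h
        refine ⟨?_, ?_⟩
        · show h₀ ^ t ∈ C
          rw [hCmem, hreg, ← orderOf_dvd_iff_pow_eq_one, hh₀e]; exact h
        · show h₀ ^ t ∈ Subgroup.centralizer ({l} : Set G)
          have hmem : h₀ ^ t ∈ Subgroup.centralizer (R : Set G) := Subgroup.pow_mem _ hh₀R _
          rw [Subgroup.mem_centralizer_iff]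
          intro z hz
          rw [Set.mem_singleton_iff] at hz
          rw [hz]
          exact (Subgroup.mem_centralizer_iff.mp hmem) l hlR
  have hGcard : Nat.card G = Nat.card C * (e * q) := by
    rw [← hq, hw, ← hCidx, Subgroup.card_mul_index]
  rw [hi, hiv, hiii, hGcard, hii]
  ring

theorem centralizer_sup_center {G : Type*} [Group G] (S : Subgroup G) :
    Subgroup.centralizer (S : Set G) ≤
      Subgroup.centralizer ((S ⊔ Subgroup.center G : Subgroup G) : Set G) := by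
  rw [Subgroup.le_centralizer_iff]
  apply sup_le
  · exact Subgroup.le_centralizer_iff.mp le_rfl
  · intro z hz
    rw [Subgroup.mem_centralizer_iff]
    intro g _
    exact Subgroup.mem_center_iff.mp hz g

theorem meta_cd_main {G : Type*} [Group G] [Finite G] {p : ℕ} [Fact p.Prime] (hp : p ≠ 2)
    (hG : IsPGroup p G) (hmc : Cfsg.IsMetacyclic G) (R : Subgroup G) :
    Cfsg.IsCentralizerLarge R ↔ Subgroup.center G ≤ R := by
  have hmaxval : Cfsg.maxCentralizerProduct G = Nat.card G * Nat.card ↥(Subgroup.center G) := by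
    unfold Cfsg.maxCentralizerProduct
    apply IsGreatest.csSup_eq
    constructor
    · exact ⟨⊤, meta_cd hp hG hmc ⊤ le_top⟩
    · rintro k ⟨S, rfl⟩
      have h1 := meta_cd hp hG hmc (S ⊔ Subgroup.center G) le_sup_right
      rw [← h1]
      exact Nat.mul_le_mul (Subgroup.card_le_of_le le_sup_left)
        (Subgroup.card_le_of_le (centralizer_sup_center S))
  unfold Cfsg.IsCentralizerLarge
  rw [hmaxval]
  constructor
  · intro h
    by_contra hZ
    have h1 := meta_cd hp hG hmc (R ⊔ Subgroup.center G) le_sup_right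
    have hlt : Nat.card ↥R < Nat.card ↥(R ⊔ Subgroup.center G) := by
      by_contra hge
      rw [not_lt] at hge
      have heq := Subgroup.eq_of_le_of_card_ge (le_sup_left : R ≤ R ⊔ Subgroup.center G) hge
      apply hZ
      rw [heq]; exact le_sup_right
    have hpos : 0 < Nat.card ↥(Subgroup.centralizer (R : Set G)) := Nat.card_pos
    have h2 : Nat.card ↥R * Nat.card ↥(Subgroup.centralizer (R : Set G)) <
        Nat.card ↥(R ⊔ Subgroup.center G) * Nat.card ↥(Subgroup.centralizer (R : Set G)) :=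
      (Nat.mul_lt_mul_right hpos).mpr hlt
    have h3 : Nat.card ↥(R ⊔ Subgroup.center G) * Nat.card ↥(Subgroup.centralizer (R : Set G)) ≤
        Nat.card ↥(R ⊔ Subgroup.center G) *
          Nat.card ↥(Subgroup.centralizer ((R ⊔ Subgroup.center G : Subgroup G) : Set G)) :=
      Nat.mul_le_mul_left _ (Subgroup.card_le_of_le (centralizer_sup_center R))
    rw [h1] at h3
    rw [h] at h2
    exact absurd (lt_of_lt_of_le h2 h3) (lt_irrefl _)
  · intro hZ
    exact meta_cd hp hG hmc R hZ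

theorem meta_zc_main {G : Type*} [Group G] [Finite G] {p : ℕ} [Fact p.Prime] (hp : p ≠ 2)
    (hG : IsPGroup p G) (hmc : Cfsg.IsMetacyclic G) (K : Subgroup G)
    (hK : IsMulCommutative ↥K) (hZ : Subgroup.center G ≤ K) :
    K = Subgroup.centralizer (K : Set G) ⊓
      Subgroup.centralizer (Subgroup.centralizer (K : Set G) : Set G) := by
  have hKab : ∀ u ∈ K, ∀ v ∈ K, u * v = v * u := fun u hu v hv =>
    congrArg Subtype.val (hK.is_comm.comm (⟨u, hu⟩ : K) ⟨v, hv⟩)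
  obtain ⟨A, hA⟩ : ∃ A : Subgroup G, A = Subgroup.centralizer (K : Set G) ⊓
      Subgroup.centralizer (Subgroup.centralizer (K : Set G) : Set G) := ⟨_, rfl⟩
  have hKA : K ≤ A := by
    rw [hA]
    apply le_inf
    · intro k hk
      rw [Subgroup.mem_centralizer_iff]
      intro h hh
      exact hKab h hh k hk
    · exact Subgroup.le_centralizer_iff.mp le_rfl
  have hcent : Subgroup.centralizer (A : Set G) = Subgroup.centralizer (K : Set G) := by
    apply le_antisymm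
    · exact Subgroup.centralizer_le (SetLike.coe_subset_coe.mpr hKA)
    · rw [Subgroup.le_centralizer_iff, hA]; exact inf_le_right
  have h1 := meta_cd hp hG hmc K hZ
  have h2 := meta_cd hp hG hmc A (le_trans hZ hKA)
  rw [hcent] at h2
  have hpos : 0 < Nat.card ↥(Subgroup.centralizer (K : Set G)) := Nat.card_pos
  have h3 : Nat.card ↥A = Nat.card ↥K := Nat.eq_of_mul_eq_mul_right hpos (h2.trans h1.symm)
  rw [← hA]
  exact Subgroup.eq_of_le_of_card_ge hKA h3.le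

end Cfsg.Agent.Lib.Helper1
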