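import Mathlib
import Cfsg.Agent.Lib.Helper1.MetaAb
import Cfsg.Prelude.Def_BaumannBlocks

set_option autoImplicit false
set_option maxHeartbeats 1600000

namespace Cfsg.Agent.Lib.Helper1

open scoped commutatorElement

theorem comm_iff_elem {G : Type*} [Group G] (K : Subgroup G) :
    IsMulCommutative ↥K ↔ ∀ u ∈ K, ∀ v ∈ K, u * v = v * u := by
  constructor
  · intro h u hu v hv
    exact congrArg Subtype.val (h.is_comm.comm (⟨u, hu⟩ : K) ⟨v, hv⟩)
  · intro h
    exact ⟨⟨fun a b => Subtype.ext (h a a.2 b b.2)⟩⟩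

theorem meta_sub_comm_index {G : Type*} [Group G] [Finite G] {p : ℕ} [Fact p.Prime] (hp : p ≠ 2)
    (hG : IsPGroup p G) (hmc : Cfsg.IsMetacyclic G) (R : Subgroup G)
    (hR : ¬ IsMulCommutative ↥R) :
    (commutator ↥R).index = (commutator G).index := by
  have hpp := (Fact.out : p.Prime)
  have hHp : IsPGroup p ↥R := hG.to_subgroup R
  have hHm : Cfsg.IsMetacyclic ↥R := meta_of_injective R.subtype R.subtype_injective hmc
  have htr : ∀ A' : Subgroup ↥R, (∀ u ∈ A', ∀ v ∈ A', u * v = v * u) ↔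
      (∀ u ∈ A'.map R.subtype, ∀ v ∈ A'.map R.subtype, u * v = v * u) := by
    intro A'
    constructor
    · rintro h _ ⟨u, hu, rfl⟩ _ ⟨v, hv, rfl⟩
      have h0 := h u hu v hv
      exact congrArg Subtype.val h0
    · intro h u hu v hv
      apply Subtype.ext
      exact h _ ⟨u, hu, rfl⟩ _ ⟨v, hv, rfl⟩
  have hcm : ∀ A' : Subgroup ↥R, Nat.card ↥(A'.map R.subtype) = Nat.card ↥A' :=
    fun A' => Subgroup.card_map_of_injective R.subtype_injective
  have hiff : ∀ A' : Subgroup ↥R, Nat.card ↥A' ≤ (commutator ↥R).index ↔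
      Nat.card ↥A' ≤ (commutator G).index := by
    intro A'
    rw [← meta_abelian_iff hp hHp hHm A', htr A', meta_abelian_iff hp hG hmc (A'.map R.subtype),
      hcm A']
  obtain ⟨k, hk⟩ := IsPGroup.iff_card.mp hHp
  obtain ⟨c₁, hc₁⟩ : ∃ c, (commutator ↥R).index = p ^ c := by
    have hdvd : (commutator ↥R).index ∣ p ^ k := by
      rw [← hk]; exact Subgroup.index_dvd_card _
    obtain ⟨c, -, hc⟩ := (Nat.dvd_prime_pow hpp).mp hdvd
    exact ⟨c, hc⟩
  obtain ⟨c, hc⟩ : ∃ c, (commutator G).index = p ^ c := by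
    obtain ⟨m, hm⟩ := IsPGroup.iff_card.mp hG
    have hdvd : (commutator G).index ∣ p ^ m := by
      rw [← hm]; exact Subgroup.index_dvd_card _
    obtain ⟨c, -, hc⟩ := (Nat.dvd_prime_pow hpp).mp hdvd
    exact ⟨c, hc⟩
  have hlt : (commutator G).index < Nat.card ↥R := by
    by_contra hle
    rw [not_lt] at hle
    exact hR ((meta_abelian_main hp hG hmc R).1.mpr hle)
  have hck : c ≤ k := by
    rw [hc, hk] at hlt
    exact ((Nat.pow_lt_pow_iff_right hpp.one_lt).mp hlt).le
  obtain ⟨K₁, hK₁⟩ := Sylow.exists_subgroup_card_pow_prime (G := ↥R) p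
    (show p ^ c₁ ∣ Nat.card ↥R by rw [← hc₁]; exact Subgroup.index_dvd_card _)
  obtain ⟨K₂, hK₂⟩ := Sylow.exists_subgroup_card_pow_prime (G := ↥R) p
    (show p ^ c ∣ Nat.card ↥R by rw [hk]; exact pow_dvd_pow p hck)
  have h1 : (commutator ↥R).index ≤ (commutator G).index := by
    have h0 := (hiff K₁).mp (by rw [hK₁, hc₁])
    rw [hK₁, ← hc₁] at h0
    exact h0
  have h2 : (commutator G).index ≤ (commutator ↥R).index := by
    have h0 := (hiff K₂).mpr (by rw [hK₂, hc])
    rw [hK₂, ← hc] at h0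
    exact h0
  exact le_antisymm h1 h2

theorem meta_cl_value {G : Type*} [Group G] [Finite G] {p : ℕ} [Fact p.Prime] (hp : p ≠ 2)
    (hG : IsPGroup p G) (hmc : Cfsg.IsMetacyclic G) (R : Subgroup G) :
    (¬ IsMulCommutative ↥R → Nat.card ↥R * Nat.card ↥(Subgroup.center ↥R) =
        (commutator G).index ^ 2) ∧
    (IsMulCommutative ↥R → Nat.card ↥R * Nat.card ↥(Subgroup.center ↥R) = Nat.card ↥R ^ 2 ∧
        Nat.card ↥R ≤ (commutator G).index) := by
  constructor
  · intro hR
    have hHp : IsPGroup p ↥R := hG.to_subgroup R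
    have hHm : Cfsg.IsMetacyclic ↥R := meta_of_injective R.subtype R.subtype_injective hmc
    have e1 := meta_center_index hp hHp hHm
    have e2 := Subgroup.card_mul_index (Subgroup.center ↥R)
    have e3 := Subgroup.card_mul_index (commutator ↥R)
    rw [meta_sub_comm_index hp hG hmc R hR] at e3
    rw [e1] at e2
    have hdpos : 0 < Nat.card ↥(commutator ↥R) := Nat.card_pos
    have e4 : Nat.card ↥(Subgroup.center ↥R) * Nat.card ↥(commutator ↥R) = (commutator G).index := by
      apply Nat.eq_of_mul_eq_mul_right hdpos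
      rw [mul_assoc, ← sq, e2, ← e3, mul_comm]
    rw [← e4, ← e2]
    ring
  · intro hR
    have hc : Subgroup.center ↥R = ⊤ := by
      rw [Subgroup.eq_top_iff']
      intro z
      rw [Subgroup.mem_center_iff]
      intro g
      exact hR.is_comm.comm g z
    rw [hc, Subgroup.card_top]
    exact ⟨(sq _).symm, (meta_abelian_main hp hG hmc R).1.mp hR⟩

theorem meta_cl_main {G : Type*} [Group G] [Finite G] {p : ℕ} [Fact p.Prime] (hp : p ≠ 2)
    (hG : IsPGroup p G) (hmc : Cfsg.IsMetacyclic G) :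
    Cfsg.maxCentralProduct G = (commutator G).index ^ 2 ∧
    ∀ R : Subgroup G, Cfsg.IsCentrallyLarge R ↔
      (¬ IsMulCommutative ↥R ∨ Maximal (fun K : Subgroup G => IsMulCommutative ↥K) R) := by
  have hpp := (Fact.out : p.Prime)
  have hmax : Cfsg.maxCentralProduct G = (commutator G).index ^ 2 := by
    unfold Cfsg.maxCentralProduct
    apply IsGreatest.csSup_eq
    constructor
    · obtain ⟨c, hc⟩ : ∃ c, (commutator G).index = p ^ c := by
        obtain ⟨m, hm⟩ := IsPGroup.iff_card.mp hG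
        have hdvd : (commutator G).index ∣ p ^ m := by
          rw [← hm]; exact Subgroup.index_dvd_card _
        obtain ⟨c, -, hc⟩ := (Nat.dvd_prime_pow hpp).mp hdvd
        exact ⟨c, hc⟩
      obtain ⟨K, hK⟩ := Sylow.exists_subgroup_card_pow_prime (G := G) p
        (show p ^ c ∣ Nat.card G by rw [← hc]; exact Subgroup.index_dvd_card _)
      have hKab : IsMulCommutative ↥K :=
        (meta_abelian_main hp hG hmc K).1.mpr (by rw [hK, hc])
      refine ⟨K, ?_⟩
      rw [((meta_cl_value hp hG hmc K).2 hKab).1, hK, hc]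
    · rintro k ⟨R, rfl⟩
      by_cases hR : IsMulCommutative ↥R
      · obtain ⟨h1, h2⟩ := (meta_cl_value hp hG hmc R).2 hR
        rw [h1]
        exact Nat.pow_le_pow_left h2 2
      · rw [(meta_cl_value hp hG hmc R).1 hR]
  refine ⟨hmax, ?_⟩
  intro R
  unfold Cfsg.IsCentrallyLarge
  rw [hmax]
  by_cases hR : IsMulCommutative ↥R
  · obtain ⟨h1, h2⟩ := (meta_cl_value hp hG hmc R).2 hR
    rw [h1, (meta_abelian_main hp hG hmc R).2]
    constructor
    · intro h
      right
      exact Nat.pow_left_injective (by norm_num : (2 : ℕ) ≠ 0) h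
    · rintro (h | h)
      · exact absurd hR h
      · rw [h]
  · rw [(meta_cl_value hp hG hmc R).1 hR]
    constructor
    · intro _; exact Or.inl hR
    · intro _; rfl

end Cfsg.Agent.Lib.Helper1
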