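import Mathlib
import Cfsg.Agent.Lib.Helper1.MetaCD

set_option autoImplicit false
set_option maxHeartbeats 1600000

namespace Cfsg.Agent.Lib.Helper1

open scoped commutatorElement

theorem meta_comm_order_le {G : Type*} [Group G] [Finite G] {p : ℕ} [Fact p.Prime] (hp : p ≠ 2)
    (hG : IsPGroup p G) (hmc : Cfsg.IsMetacyclic G) (h l : G) :
    orderOf ⁅h, l⁆ ≤ (Subgroup.centralizer ({h} : Set G)).index := by
  classical
  have hpp := (Fact.out : p.Prime)
  obtain ⟨k, hk⟩ := (IsPGroup.iff_orderOf.mp hG) l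
  have hex : ∃ m : ℕ, l ^ p ^ m * h = h * l ^ p ^ m :=
    ⟨k, by rw [← hk, pow_orderOf_eq_one, one_mul, mul_one]⟩
  obtain ⟨m, hm, hmin⟩ : ∃ m, (l ^ p ^ m * h = h * l ^ p ^ m) ∧
      ∀ m', (l ^ p ^ m' * h = h * l ^ p ^ m') → m ≤ m' :=
    ⟨Nat.find hex, Nat.find_spec hex, fun m' hm' => Nat.find_min' hex hm'⟩
  have h1 : ⁅h, l⁆ ^ p ^ m = 1 := by
    apply meta_FR hp hG hmc
    rw [commutatorElement_eq_one_iff_commute]; exact hm.symm
  have h2 : orderOf ⁅h, l⁆ ≤ p ^ m :=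
    Nat.le_of_dvd (pow_pos hpp.pos m) (orderOf_dvd_of_pow_eq_one h1)
  refine le_trans h2 ?_
  apply le_index_centralizer h _ (fun t => l ^ (t : ℕ))
  have key : ∀ s t : ℕ, s ≤ t → t < p ^ m →
      l ^ s * h * (l ^ s)⁻¹ = l ^ t * h * (l ^ t)⁻¹ → s = t := by
    intro s t hle hlt hst
    obtain ⟨d, rfl⟩ := Nat.exists_eq_add_of_le hle
    have h4 : l ^ d * h = h * l ^ d := by
      have e0 : l ^ (s + d) = l ^ s * l ^ d := pow_add l s d
      rw [e0] at hst
      have h5 : h = l ^ d * h * (l ^ d)⁻¹ := by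
        calc h = (l ^ s)⁻¹ * (l ^ s * h * (l ^ s)⁻¹) * l ^ s := by group
          _ = (l ^ s)⁻¹ * (l ^ s * l ^ d * h * (l ^ s * l ^ d)⁻¹) * l ^ s := by rw [hst]
          _ = l ^ d * h * (l ^ d)⁻¹ := by group
      calc l ^ d * h = (l ^ d * h * (l ^ d)⁻¹) * l ^ d := by group
        _ = h * l ^ d := by rw [← h5]
    by_contra hne
    have hd : 0 < d := by omega
    obtain ⟨m', hm'k, hm'⟩ := (Nat.dvd_prime_pow hpp).mp (Nat.gcd_dvd_right d (p ^ k))
    have h6 : l ^ p ^ m' * h = h * l ^ p ^ m' := by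
      have e1 : l ^ p ^ m' = (l ^ d) ^ (Nat.gcdA d (p ^ k)) := by
        rw [← hm', ← zpow_natCast l (Nat.gcd d (p ^ k)), Nat.gcd_eq_gcd_ab, zpow_add, zpow_mul,
          zpow_mul, zpow_natCast, zpow_natCast, ← hk, pow_orderOf_eq_one, one_zpow, mul_one]
      rw [e1]
      exact ((show Commute (l ^ d) h from h4).zpow_left _).eq
    have h7 := hmin m' h6
    have h8 : p ^ m ≤ p ^ m' := Nat.pow_le_pow_right hpp.pos h7
    have h9 : p ^ m' ≤ d := by
      rw [← hm']; exact Nat.le_of_dvd hd (Nat.gcd_dvd_left d (p ^ k))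
    omega
  intro s t hst
  rcases le_total (s : ℕ) (t : ℕ) with hle | hle
  · exact Fin.ext (key _ _ hle t.2 hst)
  · exact Fin.ext (key _ _ hle s.2 hst.symm).symm

theorem meta_agemo_card {G : Type*} [Group G] [Finite G] {p : ℕ} [Fact p.Prime] (hp : p ≠ 2)
    (hG : IsPGroup p G) (hmc : Cfsg.IsMetacyclic G) (n : ℕ)
    (hGn : Nat.card ↥(commutator G) = p ^ n) (s : ℕ) (hs : s ≤ n) :
    Nat.card ↥(Subgroup.closure {z : G | ∃ v : G, v ^ p ^ s = z}) =
      Nat.card ↥(Subgroup.center G) * p ^ (n - s) * p ^ (n - s) := by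
  classical
  have hpp := (Fact.out : p.Prime)
  obtain ⟨N, C, x, y, a, hN, hCn, hxN, hNC, hxgen, hy, ha, hρ, hreg, hcomm, hCmem, hCab, hchain,
    hCidx, hZdec⟩ := meta_setup4 hp hG hmc
  haveI := hN; haveI := hCn
  obtain ⟨w, hw⟩ : ∃ w, w = ⁅x, y⁆ := ⟨_, rfl⟩
  have hwn : orderOf w = p ^ n := by rw [← hGn, hcomm, Nat.card_zpowers, hw]
  have hNab : ∀ a ∈ N, ∀ b ∈ N, a * b = b * a := fun a ha b hb => hCab a (hNC ha) b (hNC hb)
  have hxpow : ∀ (h : G) (t : ℕ), ⁅x ^ t, h⁆ = ⁅x, h⁆ ^ t := by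
    intro h t
    obtain ⟨κ, hκ⟩ := comm_hom_of_ab N hNab h
    have h1 := map_pow κ (⟨x, hxN⟩ : N) t
    rw [hκ, hκ] at h1
    exact h1
  have hZC : Subgroup.center G ≤ C := by
    intro z hz
    rw [hCmem]
    exact (Subgroup.mem_center_iff.mp hz x).symm
  obtain ⟨U, hU⟩ : ∃ U : Subgroup G, U = Subgroup.closure {z : G | ∃ v : G, v ^ p ^ s = z} :=
    ⟨_, rfl⟩
  have hUmem : ∀ g : G, g ∈ U ↔ (Subgroup.centralizer ({g} : Set G)).index ≤ p ^ (n - s) := by
    intro g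
    rw [hU]; exact meta_agemo hp hG hmc n hGn s hs g
  have hZU : Subgroup.center G ≤ U := by
    intro z hz
    rw [hUmem]
    have h1 : Subgroup.centralizer ({z} : Set G) = ⊤ := by
      rw [Subgroup.eq_top_iff']
      intro g'
      rw [Subgroup.mem_centralizer_iff]
      intro t ht
      rw [Set.mem_singleton_iff] at ht
      rw [ht]
      exact (Subgroup.mem_center_iff.mp hz g').symm
    rw [h1, Subgroup.index_top]; exact Nat.one_le_pow _ _ hpp.pos
  have hyU : y ^ p ^ s ∈ U := by rw [hU]; exact Subgroup.subset_closure ⟨y, rfl⟩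
  have hxU : x ^ p ^ s ∈ U := by rw [hU]; exact Subgroup.subset_closure ⟨x, rfl⟩
  have harith : ∀ t : ℕ, p ^ n ∣ p ^ s * t ↔ p ^ (n - s) ∣ t := by
    intro t
    have e : p ^ n = p ^ s * p ^ (n - s) := by rw [← pow_add]; congr 1; omega
    rw [e]
    constructor
    · intro h; exact Nat.dvd_of_mul_dvd_mul_left (pow_pos hpp.pos s) h
    · intro h; exact Nat.mul_dvd_mul_left _ h
  have hyord : ∀ m : ℕ, ⁅x, y ^ p ^ s⁆ ^ m = 1 ↔ p ^ (n - s) ∣ m := by
    intro m
    rw [← hreg (y ^ p ^ s) m, ← pow_mul, hreg y (p ^ s * m), ← hw, ← orderOf_dvd_iff_pow_eq_one,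
      hwn]
    exact harith m
  have hord₁ : orderOf ⁅x, y ^ p ^ s⁆ = p ^ (n - s) :=
    Nat.dvd_antisymm (orderOf_dvd_of_pow_eq_one ((hyord _).mpr dvd_rfl))
      ((hyord _).mp (pow_orderOf_eq_one _))
  have ha' : Nat.card U = Nat.card ↥(U ⊓ C) * p ^ (n - s) := by
    apply card_cyclic_ext (U ⊓ C) U inf_le_left (y ^ p ^ s) hyU (p ^ (n - s)) (pow_pos hpp.pos _)
    · intro u hu
      have h1 : orderOf ⁅x, u⁆ ≤ orderOf ⁅x, y ^ p ^ s⁆ := by
        rw [hord₁]
        have h2 := meta_comm_order_le hp hG hmc u x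
        have h3 : orderOf ⁅x, u⁆ = orderOf ⁅u, x⁆ := by
          rw [← commutatorElement_inv, orderOf_inv]
        rw [h3]; exact le_trans h2 ((hUmem u).mp hu)
      obtain ⟨t, ht⟩ := hchain u (y ^ p ^ s) h1
      exact ⟨t, ⟨U.mul_mem hu (U.inv_mem (U.pow_mem hyU _)), ht⟩⟩
    · intro t
      constructor
      · intro h
        have h1 : (y ^ p ^ s) ^ t ∈ C := h.2
        rw [hCmem, hreg, hyord] at h1; exact h1
      · intro h
        refine ⟨U.pow_mem hyU _, ?_⟩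
        show (y ^ p ^ s) ^ t ∈ C
        rw [hCmem, hreg, hyord]; exact h
  have hZ_iff : ∀ t : ℕ, x ^ t ∈ Subgroup.center G ↔ orderOf w ∣ t := by
    intro t
    rw [orderOf_dvd_iff_pow_eq_one, hw, ← hxpow y t, commutatorElement_eq_one_iff_commute]
    constructor
    · intro hz; exact (Subgroup.mem_center_iff.mp hz y).symm
    · intro hcomm'
      rw [Subgroup.mem_center_iff]
      intro g
      obtain ⟨j, hj⟩ := hy g
      have c1 : (g * (y ^ j)⁻¹) * x ^ t = x ^ t * (g * (y ^ j)⁻¹) :=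
        hNab _ hj _ (N.pow_mem hxN t)
      have c2 : y ^ j * x ^ t = x ^ t * y ^ j := ((hcomm'.pow_right j).eq).symm
      calc g * x ^ t = (g * (y ^ j)⁻¹) * (y ^ j * x ^ t) := by group
        _ = (g * (y ^ j)⁻¹) * (x ^ t * y ^ j) := by rw [c2]
        _ = ((g * (y ^ j)⁻¹) * x ^ t) * y ^ j := by group
        _ = (x ^ t * (g * (y ^ j)⁻¹)) * y ^ j := by rw [c1]
        _ = x ^ t * g := by group
  have hb' : Nat.card ↥(U ⊓ C) = Nat.card ↥(Subgroup.center G) * p ^ (n - s) := by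
    apply card_cyclic_ext (Subgroup.center G) (U ⊓ C) (le_inf hZU hZC) (x ^ p ^ s)
      ⟨hxU, C.pow_mem (hNC hxN) _⟩ (p ^ (n - s)) (pow_pos hpp.pos _)
    · intro c hc
      obtain ⟨i, hi'⟩ := hZdec c hc.2
      have h1 : orderOf ⁅c, y⁆ ≤ p ^ (n - s) :=
        le_trans (meta_comm_order_le hp hG hmc c y) ((hUmem c).mp hc.1)
      have h2 : ⁅c, y⁆ = w ^ i := by
        have e1 : ⁅c, y⁆ = ⁅x ^ i, y⁆ := by
          have hz := Subgroup.mem_center_iff.mp hi'
          rw [commutatorElement_def, commutatorElement_def]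
          calc c * y * c⁻¹ * y⁻¹
              = (c * (x ^ i)⁻¹) * (x ^ i * y * (x ^ i)⁻¹) * (c * (x ^ i)⁻¹)⁻¹ * y⁻¹ := by group
            _ = (x ^ i * y * (x ^ i)⁻¹) * (c * (x ^ i)⁻¹) * (c * (x ^ i)⁻¹)⁻¹ * y⁻¹ := by
                rw [hz (x ^ i * y * (x ^ i)⁻¹)]
            _ = x ^ i * y * (x ^ i)⁻¹ * y⁻¹ := by group
        rw [e1, hxpow, hw]
      have h3 : p ^ s ∣ i := by
        apply pow_dvd_of_div_le hpp n s i hs
        have h4 : orderOf ⁅c, y⁆ = p ^ n / Nat.gcd (p ^ n) i := by rw [h2, orderOf_pow, hwn]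
        rw [← h4]; exact h1
      obtain ⟨i', rfl⟩ := h3
      refine ⟨i', ?_⟩
      rw [← pow_mul]; exact hi'
    · intro t
      rw [← pow_mul, hZ_iff, hwn]
      exact harith t
  rw [← hU, ha', hb']

theorem meta_class_count {G : Type*} [Group G] [Finite G] {p : ℕ} [Fact p.Prime] (hp : p ≠ 2)
    (hG : IsPGroup p G) (hmc : Cfsg.IsMetacyclic G) (n : ℕ)
    (hGn : Nat.card ↥(commutator G) = p ^ n) (i : ℕ) (hi : 1 ≤ i) (hin : i ≤ n) :
    Nat.card {g : G // (Subgroup.centralizer ({g} : Set G)).index = p ^ i} =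
      Nat.card ↥(Subgroup.center G) * (p ^ (2 * i) - p ^ (2 * i - 2)) := by
  classical
  have hpp := (Fact.out : p.Prime)
  obtain ⟨s, hs⟩ : ∃ s, s = n - i := ⟨_, rfl⟩
  have hs0 : s ≤ n := by omega
  have hs1 : s + 1 ≤ n := by omega
  have hns : n - s = i := by omega
  have hns1 : n - (s + 1) = i - 1 := by omega
  have hset : {g : G | (Subgroup.centralizer ({g} : Set G)).index = p ^ i} =
      ((Subgroup.closure {z : G | ∃ v : G, v ^ p ^ s = z} : Subgroup G) : Set G) \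
        ((Subgroup.closure {z : G | ∃ v : G, v ^ p ^ (s + 1) = z} : Subgroup G) : Set G) := by
    ext g
    rw [Set.mem_diff, SetLike.mem_coe, SetLike.mem_coe, meta_agemo hp hG hmc n hGn s hs0 g,
      meta_agemo hp hG hmc n hGn (s + 1) hs1 g, hns, hns1, Set.mem_setOf_eq]
    obtain ⟨t, ht⟩ : ∃ t, (Subgroup.centralizer ({g} : Set G)).index = p ^ t := by
      obtain ⟨m, hm⟩ := IsPGroup.iff_card.mp hG
      have hdvd : (Subgroup.centralizer ({g} : Set G)).index ∣ p ^ m := by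
        rw [← hm]; exact Subgroup.index_dvd_card _
      obtain ⟨t, -, ht⟩ := (Nat.dvd_prime_pow hpp).mp hdvd
      exact ⟨t, ht⟩
    rw [ht]
    constructor
    · intro h
      have hti : t = i := Nat.pow_right_injective hpp.two_le h
      subst hti
      refine ⟨le_rfl, ?_⟩
      rw [not_le]; exact Nat.pow_lt_pow_right hpp.one_lt (by omega)
    · rintro ⟨h1, h2⟩
      have h3 : t ≤ i := (Nat.pow_le_pow_iff_right hpp.one_lt).mp h1
      have h4 : i - 1 < t := by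
        by_contra hh
        rw [not_lt] at hh
        exact h2 (Nat.pow_le_pow_right hpp.pos hh)
      have h5 : t = i := by omega
      rw [h5]
  have hsub : ((Subgroup.closure {z : G | ∃ v : G, v ^ p ^ (s + 1) = z} : Subgroup G) : Set G) ⊆
      ((Subgroup.closure {z : G | ∃ v : G, v ^ p ^ s = z} : Subgroup G) : Set G) := by
    intro g hg
    rw [SetLike.mem_coe] at hg ⊢
    rw [meta_agemo hp hG hmc n hGn s hs0 g, hns]
    rw [meta_agemo hp hG hmc n hGn (s + 1) hs1 g, hns1] at hg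
    exact le_trans hg (Nat.pow_le_pow_right hpp.pos (by omega))
  have e0 : Nat.card {g : G // (Subgroup.centralizer ({g} : Set G)).index = p ^ i} =
      Set.ncard {g : G | (Subgroup.centralizer ({g} : Set G)).index = p ^ i} :=
    Nat.card_coe_set_eq _
  have c1 : ((Subgroup.closure {z : G | ∃ v : G, v ^ p ^ s = z} : Subgroup G) : Set G).ncard =
      Nat.card ↥(Subgroup.closure {z : G | ∃ v : G, v ^ p ^ s = z}) :=
    (Nat.card_coe_set_eq _).symm
  have c2 : ((Subgroup.closure {z : G | ∃ v : G, v ^ p ^ (s + 1) = z} : Subgroup G) : Set G).ncard =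
      Nat.card ↥(Subgroup.closure {z : G | ∃ v : G, v ^ p ^ (s + 1) = z}) :=
    (Nat.card_coe_set_eq _).symm
  have e1 : p ^ (2 * i) = p ^ i * p ^ i := by rw [← pow_add]; congr 1; omega
  have e2 : p ^ (2 * i - 2) = p ^ (i - 1) * p ^ (i - 1) := by rw [← pow_add]; congr 1; omega
  rw [e0, hset, Set.ncard_diff hsub, c1, c2, meta_agemo_card hp hG hmc n hGn s hs0,
    meta_agemo_card hp hG hmc n hGn (s + 1) hs1, hns, hns1, e1, e2, Nat.mul_sub, mul_assoc,
    mul_assoc]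

end Cfsg.Agent.Lib.Helper1
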