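import Mathlib
import Cfsg.Prelude.Def_OddOrderLocal
import Cfsg.Agent.Lib.Helper1.Ab2Core
import Cfsg.Agent.Lib.Helper1.FusCoprime
import Cfsg.Agent.Lib.Helper8.Q8Aut

set_option autoImplicit false

universe u

namespace Cfsg.Agent.Lib.Helper1

open scoped commutatorElement

theorem meta_gen {X : Type*} [Group X] [Finite X] (hm : Cfsg.IsMetacyclic X) :
    ∃ (N : Subgroup X) (_ : N.Normal) (n₀ g : X), n₀ ∈ N ∧ IsCyclic ↥N ∧ IsCyclic (X ⧸ N) ∧
      (∀ n ∈ N, ∃ i : ℕ, n = n₀ ^ i) ∧ ∀ x : X, ∃ i j : ℕ, x = g ^ j * n₀ ^ i := by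
  obtain ⟨N, hN, hNc, hQc⟩ := hm
  haveI := hN
  obtain ⟨n₀, hn₀⟩ := IsCyclic.exists_generator (α := ↥N)
  obtain ⟨gbar, hgbar⟩ := IsCyclic.exists_generator (α := X ⧸ N)
  obtain ⟨g, rfl⟩ := QuotientGroup.mk_surjective gbar
  have hNgen : ∀ n ∈ N, ∃ i : ℕ, n = (n₀ : X) ^ i := by
    intro n hn
    have h1 := hn₀ ⟨n, hn⟩
    rw [← mem_powers_iff_mem_zpowers] at h1
    obtain ⟨i, hi⟩ := h1
    refine ⟨i, ?_⟩
    have := congrArg Subtype.val hi
    simpa using this.symm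
  refine ⟨N, hN, n₀.1, g, n₀.2, hNc, hQc, hNgen, fun x => ?_⟩
  have h1 := hgbar (QuotientGroup.mk x)
  rw [← mem_powers_iff_mem_zpowers] at h1
  obtain ⟨j, hj⟩ := h1
  have h2 : (QuotientGroup.mk (g ^ j) : X ⧸ N) = QuotientGroup.mk x := by
    rw [QuotientGroup.mk_pow]; exact hj
  obtain ⟨i, hi⟩ := hNgen _ (QuotientGroup.eq.mp h2)
  exact ⟨i, j, by rw [← hi, mul_inv_cancel_left]⟩

theorem sq_index_le {Q : Type*} [CommGroup Q] [Finite Q] (a b : Q)
    (hgen : ∀ q : Q, ∃ i j : ℕ, q = b ^ j * a ^ i) :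
    (powMonoidHom 2 : Q →* Q).range.index ≤ 2 ^ 2 := by
  classical
  rw [Subgroup.index_eq_card]
  let f : Fin 2 × Fin 2 → Q ⧸ (powMonoidHom 2 : Q →* Q).range :=
    fun v => QuotientGroup.mk (b ^ (v.2 : ℕ) * a ^ (v.1 : ℕ))
  have hf : Function.Surjective f := by
    intro q
    obtain ⟨x, rfl⟩ := QuotientGroup.mk_surjective q
    obtain ⟨i, j, rfl⟩ := hgen x
    refine ⟨(⟨i % 2, Nat.mod_lt _ (by norm_num)⟩, ⟨j % 2, Nat.mod_lt _ (by norm_num)⟩), ?_⟩
    show (QuotientGroup.mk (b ^ (j % 2) * a ^ (i % 2)) : Q ⧸ _) = QuotientGroup.mk (b ^ j * a ^ i)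
    rw [QuotientGroup.eq]
    refine ⟨b ^ (j / 2) * a ^ (i / 2), ?_⟩
    show (b ^ (j / 2) * a ^ (i / 2)) ^ 2 = _
    have hj : b ^ j = b ^ (j % 2) * (b ^ (j / 2)) ^ 2 := by
      rw [← pow_mul, ← pow_add, mul_comm (j / 2) 2, Nat.mod_add_div]
    have hi : a ^ i = a ^ (i % 2) * (a ^ (i / 2)) ^ 2 := by
      rw [← pow_mul, ← pow_add, mul_comm (i / 2) 2, Nat.mod_add_div]
    rw [hj, hi, mul_pow, eq_inv_mul_iff_mul_eq, mul_mul_mul_comm]
  calc Nat.card (Q ⧸ (powMonoidHom 2 : Q →* Q).range)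
      ≤ Nat.card (Fin 2 × Fin 2) := Nat.card_le_card_of_surjective f hf
    _ = 2 ^ 2 := by simp

/-- the abelianization of a nonabelian metacyclic 2-group with an automorphism of odd order -/
theorem meta_abq {X : Type u} [Group X] [Finite X] (hX : IsPGroup 2 X)
    (n₀ g : X) (hgen : ∀ x : X, ∃ i j : ℕ, x = g ^ j * n₀ ^ i)
    (q : ℕ) (hqp : q.Prime) (hq2 : q ≠ 2) (γ : MulAut X) (hγq : γ ^ q = 1) (hγ1 : γ ≠ 1) :
    ∃ k : ℕ, 1 ≤ k ∧ (commutator X).index = 2 ^ k * 2 ^ k ∧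
      (∀ x : X, x ^ (2 ^ k) ∈ commutator X) ∧
      ∀ Y : Subgroup X, commutator X ≤ Y → (∀ x : X, x ^ 2 ∈ Y) → (∀ x ∈ Y, γ x ∈ Y) →
        (∀ x ∈ Y, γ⁻¹ x ∈ Y) →
        (∃ x₁ : X, x₁ ∉ Y ∧ ∀ x : X, x ∉ Y → x₁⁻¹ * x ∈ Y) → False := by
  classical
  haveI : Fact (Nat.Prime 2) := ⟨Nat.prime_two⟩
  haveI hqF : Fact q.Prime := ⟨hqp⟩
  have hPQ : IsPGroup 2 (Abelianization X) := hX.to_quotient (commutator X)
  have hchar : ∀ β : MulAut X, (commutator X).map β.toMonoidHom = commutator X := fun β =>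
    Subgroup.characteristic_iff_map_eq.1 inferInstance β
  obtain ⟨ab, hab⟩ : ∃ ab : X →* Abelianization X, ab = Abelianization.of := ⟨_, rfl⟩
  have hsurj : Function.Surjective ab := by
    rw [hab]; exact fun y => QuotientGroup.mk_surjective y
  have hker : ∀ x : X, ab x = 1 ↔ x ∈ commutator X := by
    intro x
    rw [hab, ← MonoidHom.mem_ker, Abelianization.ker_of]
  have heq : ∀ x y : X, ab x = ab y → x⁻¹ * y ∈ commutator X := by
    intro x y h
    rw [← hker, map_mul, map_inv, h, inv_mul_cancel]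
  obtain ⟨γbar, hγbar⟩ : ∃ γbar : MulAut (Abelianization X),
      ∀ x : X, γbar (ab x) = ab (γ x) := by
    rw [hab]
    exact ⟨QuotientGroup.congr (commutator X) (commutator X) γ (hchar γ),
      fun x => QuotientGroup.congr_mk _ _ _ _ x⟩
  have hpowbar : ∀ (k : ℕ) (x : X), (γbar ^ k) (ab x) = ab ((γ ^ k) x) := by
    intro k
    induction k with
    | zero => intro x; rfl
    | succ k ih =>
      intro x
      rw [pow_succ', MulAut.mul_apply, ih, hγbar, pow_succ', MulAut.mul_apply]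
  have hγbarq : γbar ^ q = 1 := by
    apply MulEquiv.ext
    intro y
    obtain ⟨x, rfl⟩ := hsurj y
    rw [hpowbar, hγq]; rfl
  have hγbar1 : γbar ≠ 1 := by
    intro h
    apply hγ1
    apply Cfsg.Agent.Lib.Helper8.h8_aut_trivial_of_trivial_mod hX q hq2 γ hγq
    intro x
    have h1 := hγbar x
    rw [h, MulAut.one_apply] at h1
    exact heq _ _ h1
  have hnot2 : ∀ k : ℕ, γbar ^ (2 ^ k) ≠ 1 := by
    intro k hk
    apply hγbar1
    have h1 : orderOf γbar ∣ q := orderOf_dvd_of_pow_eq_one hγbarq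
    have h2 : orderOf γbar ∣ 2 ^ k := orderOf_dvd_of_pow_eq_one hk
    rcases (Nat.dvd_prime hqp).mp h1 with h | h
    · exact orderOf_eq_one_iff.mp h
    · exfalso
      rw [h] at h2
      exact hq2 ((Nat.prime_dvd_prime_iff_eq hqp Nat.prime_two).mp (hqp.dvd_of_dvd_pow h2))
  have hγbar' : ∀ x : X, γbar⁻¹ (ab x) = ab (γ⁻¹ x) := by
    intro x
    have h1 : ab x = γbar (ab (γ⁻¹ x)) := by
      rw [hγbar, MulAut.apply_inv_self]
    rw [h1, MulAut.inv_apply_self]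
  have hidx := sq_index_le (Q := Abelianization X) (ab n₀) (ab g)
    (fun qq => by
      obtain ⟨x, rfl⟩ := hsurj qq
      obtain ⟨i, j, hx⟩ := hgen x
      exact ⟨i, j, by rw [hx, map_mul, map_pow, map_pow]⟩)
  obtain ⟨k, hk1, hidx4, ⟨e⟩⟩ := ab2_core (p := 2) hPQ (powMonoidHom 2) (fun x => rfl) hidx
    (fun c n hc0 hcn hstep hinv => by
      obtain ⟨k, hk⟩ := two_pow_of_chain hPQ c n hc0 hcn hstep γbar
        (fun i => hinv i γbar) (fun i => hinv i γbar⁻¹)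
      exact hnot2 k hk)
  have hcardQ : Nat.card (Abelianization X) = 2 ^ k * 2 ^ k := by
    rw [Nat.card_congr e.toEquiv]
    have : Nat.card (Multiplicative (ZMod (2 ^ k) × ZMod (2 ^ k)))
        = Nat.card (ZMod (2 ^ k) × ZMod (2 ^ k)) := rfl
    rw [this, Nat.card_prod, Nat.card_zmod]
  refine ⟨k, hk1, ?_, ?_, ?_⟩
  · rw [Subgroup.index_eq_card]; exact hcardQ
  · intro x
    have h1 : (ab x) ^ (2 ^ k) = 1 := by
      apply e.injective
      rw [map_pow, map_one]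
      generalize e (ab x) = v
      show Multiplicative.ofAdd ((2 ^ k) • Multiplicative.toAdd v) = Multiplicative.ofAdd 0
      congr 1
      have h2k : ((2 : ZMod (2 ^ k)) ^ k) = 0 := by
        have h := ZMod.natCast_self (2 ^ k)
        rw [Nat.cast_pow] at h
        exact h
      ext <;> simp [h2k]
    rw [← map_pow] at h1
    exact (hker _).mp h1
  · rintro Y hXY hsq hinv hinv' ⟨x₁, hx₁, hx₁'⟩
    obtain ⟨Yb, hYb⟩ : ∃ Yb : Subgroup (Abelianization X),
        ∀ x : X, ab x ∈ Yb ↔ x ∈ Y := by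
      refine ⟨Y.map ab, fun x => ?_⟩
      constructor
      · rintro ⟨y, hy, hyx⟩
        have h1 : y⁻¹ * x ∈ commutator X := heq _ _ hyx
        have : x = y * (y⁻¹ * x) := by group
        rw [this]; exact Y.mul_mem hy (hXY h1)
      · intro hx; exact ⟨x, hx, rfl⟩
    have hgenY : ∀ y : Abelianization X, ∃ j : ℕ, j < 2 ∧ ((ab x₁) ^ j)⁻¹ * y ∈ Yb := by
      intro y
      obtain ⟨x, rfl⟩ := hsurj y
      by_cases hx : x ∈ Y
      · exact ⟨0, by norm_num, by simpa using (hYb x).mpr hx⟩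
      · refine ⟨1, by norm_num, ?_⟩
        rw [pow_one, ← map_inv, ← map_mul]
        exact (hYb _).mpr (hx₁' x hx)
    have hsqY : ∀ y : Abelianization X, y ^ 2 ∈ Yb := by
      intro y
      obtain ⟨x, rfl⟩ := hsurj y
      rw [← map_pow]
      exact (hYb _).mpr (hsq x)
    have hs0 : cstep 2 Yb ⊤ :=
      ⟨le_top, fun m _ n hn => by rw [mul_comm m n, mul_inv_cancel_right]; exact hn,
        ⟨ab x₁, trivial, fun y _ => by
          obtain ⟨j, _, hj⟩ := hgenY y; exact ⟨j, hj⟩⟩, fun y _ => hsqY y⟩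
    have hYb_ne : Yb ≠ ⊤ := fun h => hx₁ ((hYb x₁).mp (by rw [h]; trivial))
    have hYbidx : Yb.index = 2 := by
      have hle : Yb.index ≤ 2 := by
        rw [Subgroup.index_eq_card]
        let f : Fin 2 → Abelianization X ⧸ Yb := fun j =>
          QuotientGroup.mk ((ab x₁) ^ (j : ℕ))
        have hf : Function.Surjective f := by
          intro qq
          obtain ⟨y, rfl⟩ := QuotientGroup.mk_surjective qq
          obtain ⟨j, hj2, hj⟩ := hgenY y
          exact ⟨⟨j, hj2⟩, QuotientGroup.eq.mpr hj⟩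
        calc Nat.card (Abelianization X ⧸ Yb) ≤ Nat.card (Fin 2) :=
              Nat.card_le_card_of_surjective f hf
          _ = 2 := by simp
      have hne1 : Yb.index ≠ 1 := fun h => hYb_ne (Subgroup.index_eq_one.mp h)
      have hne0 : Yb.index ≠ 0 := Subgroup.index_ne_zero_of_finite
      omega
    have hcQ1 : Nat.card (Abelianization X) = 2 * Nat.card Yb := by
      rw [← hYbidx]; exact (Subgroup.index_mul_card Yb).symm
    have hcQ2 : Nat.card (Abelianization X)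
        = 2 ^ 2 * Nat.card (powMonoidHom 2 : Abelianization X →* Abelianization X).range := by
      rw [← hidx4]; exact (Subgroup.index_mul_card _).symm
    have hRY : (powMonoidHom 2 : Abelianization X →* Abelianization X).range ≤ Yb := by
      rintro _ ⟨y, rfl⟩
      exact hsqY y
    have hs1 : cstep 2 (powMonoidHom 2 : Abelianization X →* Abelianization X).range Yb :=
      cstep_of_card inferInstance hRY (by omega)
    have hs1' : cstep 2 ((⊤ : Subgroup (Abelianization X)).map (powMonoidHom 2)) Yb := by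
      rw [← MonoidHom.range_eq_map]; exact hs1
    obtain ⟨K, hK⟩ := IsPGroup.iff_card.mp hPQ
    have hinvY : ∀ y ∈ Yb, γbar y ∈ Yb := by
      intro y hy
      obtain ⟨x, rfl⟩ := hsurj y
      rw [hγbar]; exact (hYb _).mpr (hinv x ((hYb x).mp hy))
    have hinvY' : ∀ y ∈ Yb, γbar⁻¹ y ∈ Yb := by
      intro y hy
      obtain ⟨x, rfl⟩ := hsurj y
      rw [hγbar']; exact (hYb _).mpr (hinv' x ((hYb x).mp hy))
    obtain ⟨k', hk'⟩ := two_pow_of_chain hPQ (chain2 (powMonoidHom 2) Yb) (2 * K) rfl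
      (by
        rw [eq_bot_iff]
        intro y hy
        obtain ⟨x, rfl⟩ := chain2_even (powMonoidHom 2) (fun x => rfl) Yb K y hy
        rw [Subgroup.mem_bot, ← hK]; exact pow_card_eq_one')
      (fun i _ => chain2_cstep mul_comm (powMonoidHom 2) (fun x => rfl) Yb hs0 hs1' i) γbar
      (fun i => chain2_inv (powMonoidHom 2) Yb γbar (fun x => map_pow γbar x 2) hinvY i)
      (fun i => chain2_inv (powMonoidHom 2) Yb γbar⁻¹ (fun x => map_pow γbar⁻¹ x 2) hinvY' i)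
    exact hnot2 k' hk'

theorem meta_pow_false {X : Type u} [Group X] [Finite X] (hX : IsPGroup 2 X)
    (N : Subgroup X) [hN : N.Normal] (hNc : IsCyclic ↥N) (hQc : IsCyclic (X ⧸ N))
    (n₀ g : X) (hgen : ∀ x : X, ∃ i j : ℕ, x = g ^ j * n₀ ^ i)
    (hna : ¬ ∀ a b : X, a * b = b * a)
    (γ : MulAut X) (k : ℕ) (hk2 : 2 ≤ k) (hidx : (commutator X).index = 2 ^ k * 2 ^ k)
    (hpow : ∀ x : X, x ^ (2 ^ k) ∈ commutator X)
    (hP : ∀ Y : Subgroup X, commutator X ≤ Y → (∀ x : X, x ^ 2 ∈ Y) → (∀ x ∈ Y, γ x ∈ Y) →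
        (∀ x ∈ Y, γ⁻¹ x ∈ Y) →
        (∃ x₁ : X, x₁ ∉ Y ∧ ∀ x : X, x ∉ Y → x₁⁻¹ * x ∈ Y) → False) : False := by
  classical
  have hXN : commutator X ≤ N := by
    rw [commutator_def, Subgroup.commutator_le]
    intro a _ b _
    have hcomm : ∀ u v : X ⧸ N, u * v = v * u := by
      obtain ⟨w, hw⟩ := IsCyclic.exists_generator (α := X ⧸ N)
      intro u v
      obtain ⟨i, rfl⟩ := Subgroup.mem_zpowers_iff.mp (hw u)
      obtain ⟨j, rfl⟩ := Subgroup.mem_zpowers_iff.mp (hw v)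
      exact zpow_mul_comm w i j
    rw [← QuotientGroup.eq_one_iff (N := N), commutatorElement_def]
    simp only [QuotientGroup.mk_mul, QuotientGroup.mk_inv]
    rw [hcomm (QuotientGroup.mk a) (QuotientGroup.mk b)]; group
  haveI : IsCyclic ↥(commutator X) :=
    isCyclic_of_injective (Subgroup.inclusion hXN) (Subgroup.inclusion_injective hXN)
  obtain ⟨c', hc'⟩ := IsCyclic.exists_generator (α := ↥(commutator X))
  obtain ⟨c, hcX, hcgen⟩ : ∃ c : X, c ∈ commutator X ∧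
      ∀ y ∈ commutator X, ∃ i : ℕ, y = c ^ i := by
    refine ⟨c'.1, c'.2, fun y hy => ?_⟩
    have h1 := hc' ⟨y, hy⟩
    rw [← mem_powers_iff_mem_zpowers] at h1
    obtain ⟨i, hi⟩ := h1
    refine ⟨i, ?_⟩
    have := congrArg Subtype.val hi
    simpa using this.symm
  have hcommX : ∀ a b : X, ⁅a, b⁆ ∈ commutator X := by
    intro a b
    rw [commutator_def]
    exact Subgroup.commutator_mem_commutator (Subgroup.mem_top a) (Subgroup.mem_top b)
  have hc1 : c ≠ 1 := by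
    intro h
    apply hna
    intro a b
    obtain ⟨i, hi⟩ := hcgen _ (hcommX a b)
    rw [h, one_pow] at hi
    exact commutatorElement_eq_one_iff_mul_comm.mp hi
  have hcM : c ∉ Subgroup.zpowers (c ^ 2) := by
    intro h
    obtain ⟨z, hz⟩ := Subgroup.mem_zpowers_iff.mp h
    have h1 : c ^ (2 * z - 1) = 1 := by
      rw [zpow_sub, zpow_mul, zpow_one, zpow_ofNat, hz, mul_inv_cancel]
    obtain ⟨a, ha⟩ := (IsPGroup.iff_orderOf.mp hX) c
    have h2 : (orderOf c : ℤ) ∣ 2 * z - 1 := orderOf_dvd_iff_zpow_eq_one.mpr h1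
    rw [ha] at h2
    cases a with
    | zero => rw [pow_zero] at ha; exact hc1 (orderOf_eq_one_iff.mp ha)
    | succ a =>
      have h3 : (2 : ℤ) ∣ 2 * z - 1 := Dvd.dvd.trans ⟨2 ^ a, by push_cast; ring⟩ h2
      omega
  have hconj : ∀ x : X, ∃ i : ℕ, x * c * x⁻¹ = c ^ i := fun x =>
    hcgen _ ((inferInstance : (commutator X).Normal).conj_mem c hcX x)
  have hMn : (Subgroup.zpowers (c ^ 2)).Normal := by
    constructor
    intro m hm x
    obtain ⟨z, rfl⟩ := Subgroup.mem_zpowers_iff.mp hm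
    obtain ⟨i, hi⟩ := hconj x
    have h1 : x * (c ^ 2) ^ z * x⁻¹ = ((c ^ 2) ^ i) ^ z := by
      rw [← pow_mul, mul_comm 2 i, pow_mul, ← hi, ← conj_zpow, ← conj_pow]
    rw [h1]
    exact Subgroup.zpow_mem _ (Subgroup.pow_mem _ (Subgroup.mem_zpowers _) i) z
  obtain ⟨M, hMdef⟩ : ∃ M : Subgroup X, M = Subgroup.zpowers (c ^ 2) := ⟨_, rfl⟩
  rw [← hMdef] at hcM hMn
  haveI := hMn
  have hc2M : c ^ 2 ∈ M := by rw [hMdef]; exact Subgroup.mem_zpowers _
  have hevenM : ∀ i : ℕ, c ^ (2 * i) ∈ M := fun i => by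
    rw [pow_mul]; exact M.pow_mem hc2M i
  obtain ⟨z, hz⟩ : ∃ z : X ⧸ M, z = QuotientGroup.mk c := ⟨_, rfl⟩
  have hz1 : z ≠ 1 := by
    rw [hz]; intro h; exact hcM ((QuotientGroup.eq_one_iff _).mp h)
  have hz2 : z ^ 2 = 1 := by
    rw [hz, ← QuotientGroup.mk_pow]; exact (QuotientGroup.eq_one_iff _).mpr hc2M
  have hT : ∀ y ∈ commutator X,
      (QuotientGroup.mk y : X ⧸ M) = 1 ∨ (QuotientGroup.mk y : X ⧸ M) = z := by
    intro y hy
    obtain ⟨i, rfl⟩ := hcgen y hy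
    rw [QuotientGroup.mk_pow, ← hz, pow_eq_pow_mod i hz2]
    rcases Nat.mod_two_eq_zero_or_one i with h | h <;> rw [h]
    · left; exact pow_zero z
    · right; exact pow_one z
  have hzc : ∀ a : X ⧸ M, a * z = z * a := by
    intro a
    obtain ⟨x, rfl⟩ := QuotientGroup.mk_surjective a
    have h1 := hT (x * c * x⁻¹) ((inferInstance : (commutator X).Normal).conj_mem c hcX x)
    rw [QuotientGroup.mk_mul, QuotientGroup.mk_mul, QuotientGroup.mk_inv, ← hz] at h1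
    rcases h1 with h1 | h1
    · exfalso; apply hz1
      have h2 : z = (QuotientGroup.mk x : X ⧸ M)⁻¹ *
          (QuotientGroup.mk x * z * (QuotientGroup.mk x)⁻¹) * QuotientGroup.mk x := by group
      rw [h2, h1]; group
    · calc (QuotientGroup.mk x : X ⧸ M) * z
          = (QuotientGroup.mk x * z * (QuotientGroup.mk x)⁻¹) * QuotientGroup.mk x := by group
        _ = z * QuotientGroup.mk x := by rw [h1]
  have hcomm2 : ∀ a b : X ⧸ M, (a * b)⁻¹ * (b * a) = 1 ∨ (a * b)⁻¹ * (b * a) = z := by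
    intro a b
    obtain ⟨x, rfl⟩ := QuotientGroup.mk_surjective a
    obtain ⟨y, rfl⟩ := QuotientGroup.mk_surjective b
    have h1 : (x * y)⁻¹ * (y * x) ∈ commutator X := by
      have h3 : (x * y)⁻¹ * (y * x) = ⁅y⁻¹, x⁻¹⁆ := by rw [commutatorElement_def]; group
      rw [h3]; exact hcommX _ _
    have h4 := hT _ h1
    simpa only [QuotientGroup.mk_mul, QuotientGroup.mk_inv] using h4
  have hpowmul : ∀ a b : X ⧸ M, (a * b) ^ (2 ^ k) = a ^ (2 ^ k) * b ^ (2 ^ k) := by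
    intro a b
    obtain ⟨c₀, hc₀⟩ : ∃ c₀ : X ⧸ M, c₀ = (a * b)⁻¹ * (b * a) := ⟨_, rfl⟩
    have hc₀2 : c₀ ^ 2 = 1 := by
      rcases hcomm2 a b with h | h
      · rw [hc₀, h, one_pow]
      · rw [hc₀, h, hz2]
    have hc₀c : ∀ u : X ⧸ M, c₀ * u = u * c₀ := by
      intro u
      rcases hcomm2 a b with h | h
      · rw [hc₀, h, one_mul, mul_one]
      · rw [hc₀, h]; exact (hzc u).symm
    have h1 := (cop_class2 a b c₀ (by rw [hc₀]; group) (hc₀c a) (hc₀c b) (2 ^ k)).2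
    rw [h1]
    obtain ⟨k', rfl⟩ : ∃ k', k = k' + 2 := ⟨k - 2, by omega⟩
    have h2 : 2 ^ (k' + 2) * (2 ^ (k' + 2) - 1) / 2 = 2 * (2 ^ k' * (2 ^ (k' + 2) - 1)) := by
      generalize (2 ^ (k' + 2) - 1) = t
      rw [pow_add]
      have h3 : 2 ^ k' * 2 ^ 2 * t = 2 * (2 * (2 ^ k' * t)) := by ring
      rw [h3, Nat.mul_div_cancel_left _ (by norm_num : 0 < 2)]
    rw [h2, pow_mul, hc₀2, one_pow, mul_one]
  obtain ⟨φ, hφ⟩ : ∃ φ : X →* X ⧸ M, ∀ x, φ x = (QuotientGroup.mk x) ^ (2 ^ k) :=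
    ⟨{ toFun := fun x => (QuotientGroup.mk x) ^ (2 ^ k)
       map_one' := by simp
       map_mul' := fun x y => by rw [QuotientGroup.mk_mul, hpowmul] }, fun x => rfl⟩
  have hφmem : ∀ x, x ∈ φ.ker ↔ x ^ (2 ^ k) ∈ M := by
    intro x
    rw [MonoidHom.mem_ker, hφ, ← QuotientGroup.mk_pow, QuotientGroup.eq_one_iff]
  have hφT : ∀ x, φ x = 1 ∨ φ x = z := by
    intro x
    rw [hφ, ← QuotientGroup.mk_pow]
    exact hT _ (hpow x)
  have hγM : ∀ β : MulAut X, ∀ m ∈ M, β m ∈ M := by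
    intro β m hm
    rw [hMdef] at hm
    obtain ⟨t, rfl⟩ := Subgroup.mem_zpowers_iff.mp hm
    have hβc : β c ∈ commutator X := by
      have h1 : (commutator X).map β.toMonoidHom = commutator X :=
        Subgroup.characteristic_iff_map_eq.1 inferInstance β
      rw [← h1]; exact Subgroup.mem_map_of_mem β.toMonoidHom hcX
    obtain ⟨i, hi⟩ := hcgen _ hβc
    rw [map_zpow, map_pow, hi, ← pow_mul, mul_comm i 2]
    exact M.zpow_mem (hevenM i) t
  have hY : φ.ker = ⊤ := by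
    by_contra hne
    apply hP φ.ker
    · intro y hy
      rw [hφmem]
      obtain ⟨i, rfl⟩ := hcgen y hy
      rw [← pow_mul]
      obtain ⟨k', rfl⟩ : ∃ k', k = k' + 1 := ⟨k - 1, by omega⟩
      have h1 : i * 2 ^ (k' + 1) = 2 * (i * 2 ^ k') := by ring
      rw [h1]; exact hevenM _
    · intro x
      rw [hφmem, ← pow_mul, mul_comm, pow_mul]
      obtain ⟨i, hi⟩ := hcgen _ (hpow x)
      rw [hi, ← pow_mul, mul_comm]; exact hevenM i
    · intro x hx
      rw [hφmem] at hx ⊢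
      rw [← map_pow]; exact hγM γ _ hx
    · intro x hx
      rw [hφmem] at hx ⊢
      rw [← map_pow]; exact hγM γ⁻¹ _ hx
    · obtain ⟨x₁, hx₁⟩ : ∃ x₁, x₁ ∉ φ.ker := by
        by_contra h
        push Not at h
        exact hne (eq_top_iff.mpr fun x _ => h x)
      refine ⟨x₁, hx₁, fun x hx => ?_⟩
      rw [MonoidHom.mem_ker] at hx₁ hx ⊢
      have h1 : φ x₁ = z := (hφT x₁).resolve_left hx₁
      have h2 : φ x = z := (hφT x).resolve_left hx
      rw [map_mul, map_inv, h1, h2, inv_mul_cancel]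
  have hall : ∀ x : X, x ^ (2 ^ k) ∈ M := fun x => (hφmem x).mp (by rw [hY]; trivial)
  have hle : M.index ≤ 2 ^ k * 2 ^ k := by
    rw [Subgroup.index_eq_card]
    let f : Fin (2 ^ k) × Fin (2 ^ k) → X ⧸ M :=
      fun v => QuotientGroup.mk (g ^ (v.2 : ℕ) * n₀ ^ (v.1 : ℕ))
    have hf : Function.Surjective f := by
      intro qq
      obtain ⟨x, rfl⟩ := QuotientGroup.mk_surjective qq
      obtain ⟨i, j, rfl⟩ := hgen x
      have hpos : 0 < 2 ^ k := by positivity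
      refine ⟨(⟨i % 2 ^ k, Nat.mod_lt _ hpos⟩, ⟨j % 2 ^ k, Nat.mod_lt _ hpos⟩), ?_⟩
      show (QuotientGroup.mk (g ^ (j % 2 ^ k) * n₀ ^ (i % 2 ^ k)) : X ⧸ M)
        = QuotientGroup.mk (g ^ j * n₀ ^ i)
      have hg1 : (QuotientGroup.mk g : X ⧸ M) ^ (2 ^ k) = 1 := by
        rw [← QuotientGroup.mk_pow]; exact (QuotientGroup.eq_one_iff _).mpr (hall g)
      have hn1 : (QuotientGroup.mk n₀ : X ⧸ M) ^ (2 ^ k) = 1 := by
        rw [← QuotientGroup.mk_pow]; exact (QuotientGroup.eq_one_iff _).mpr (hall n₀)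
      rw [QuotientGroup.mk_mul, QuotientGroup.mk_mul, QuotientGroup.mk_pow, QuotientGroup.mk_pow,
        QuotientGroup.mk_pow, QuotientGroup.mk_pow, ← pow_eq_pow_mod j hg1,
        ← pow_eq_pow_mod i hn1]
    calc Nat.card (X ⧸ M) ≤ Nat.card (Fin (2 ^ k) × Fin (2 ^ k)) :=
          Nat.card_le_card_of_surjective f hf
      _ = 2 ^ k * 2 ^ k := by simp
  have hMX : M ≤ commutator X := by
    rw [hMdef, Subgroup.zpowers_le]; exact Subgroup.pow_mem _ hcX 2
  have hrel := Subgroup.relIndex_mul_index hMX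
  have hrel1 : M.relIndex (commutator X) ≠ 1 := by
    intro h
    exact hcM (Subgroup.relIndex_eq_one.mp h hcX)
  have hrel0 : M.relIndex (commutator X) ≠ 0 := Subgroup.index_ne_zero_of_finite
  rw [hidx] at hrel
  have hpos : 0 < 2 ^ k * 2 ^ k := by positivity
  have h2 : 2 ≤ M.relIndex (commutator X) := by omega
  have h3 : 2 * (2 ^ k * 2 ^ k) ≤ M.relIndex (commutator X) * (2 ^ k * 2 ^ k) :=
    Nat.mul_le_mul_right _ h2
  generalize 2 ^ k * 2 ^ k = T at *
  omega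

theorem meta2_ab {H : Type u} [CommGroup H] [Finite H] (hX : IsPGroup 2 H) (n₀ g : H)
    (hgen : ∀ x : H, ∃ i j : ℕ, x = g ^ j * n₀ ^ i) (q : ℕ) (hqp : q.Prime) (hq2 : q ≠ 2)
    (γ : MulAut H) (hγq : γ ^ q = 1) (hγ1 : γ ≠ 1) :
    ∃ k : ℕ, Nonempty (H ≃* Multiplicative (ZMod (2 ^ k)) × Multiplicative (ZMod (2 ^ k))) := by
  classical
  haveI : Fact (Nat.Prime 2) := ⟨Nat.prime_two⟩
  have hidx := sq_index_le (Q := H) n₀ g hgen
  obtain ⟨k, hk1, hidx4, ⟨e⟩⟩ := ab2_core (p := 2) hX (powMonoidHom 2) (fun x => rfl) hidx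
    (fun c n hc0 hcn hstep hinv => by
      obtain ⟨k, hk⟩ := two_pow_of_chain hX c n hc0 hcn hstep γ
        (fun i => hinv i γ) (fun i => hinv i γ⁻¹)
      apply hγ1
      have h1 : orderOf γ ∣ q := orderOf_dvd_of_pow_eq_one hγq
      have h2 : orderOf γ ∣ 2 ^ k := orderOf_dvd_of_pow_eq_one hk
      rcases (Nat.dvd_prime hqp).mp h1 with h | h
      · exact orderOf_eq_one_iff.mp h
      · exfalso
        rw [h] at h2
        exact hq2 ((Nat.prime_dvd_prime_iff_eq hqp Nat.prime_two).mp (hqp.dvd_of_dvd_pow h2)))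
  exact ⟨k, ⟨e.trans (MulEquiv.prodMultiplicative _ _)⟩⟩

theorem meta2_main {X : Type u} [Group X] [Finite X] (hX : IsPGroup 2 X)
    (hm : Cfsg.IsMetacyclic X) (hA : ¬ IsPGroup 2 (MulAut X)) :
    Nonempty (X ≃* QuaternionGroup 2) ∨
      ∃ n : ℕ, Nonempty (X ≃* Multiplicative (ZMod (2 ^ n)) × Multiplicative (ZMod (2 ^ n))) := by
  classical
  haveI : Fact (Nat.Prime 2) := ⟨Nat.prime_two⟩
  obtain ⟨q, hqp, hq2, γ, hγ⟩ : ∃ q : ℕ, q.Prime ∧ q ≠ 2 ∧ ∃ β : MulAut X, orderOf β = q := by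
    by_contra hno
    push Not at hno
    apply hA
    have hcard : Nat.card (MulAut X) = 2 ^ (Nat.card (MulAut X)).primeFactorsList.length := by
      apply Nat.eq_prime_pow_of_unique_prime_dvd Nat.card_pos.ne'
      intro d hd hdvd
      by_contra hd2
      have : Fact d.Prime := ⟨hd⟩
      obtain ⟨β, hβ⟩ := exists_prime_orderOf_dvd_card' d hdvd
      exact hno d hd hd2 β hβ
    exact IsPGroup.of_card hcard
  have hγq : γ ^ q = 1 := by rw [← hγ]; exact pow_orderOf_eq_one γ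
  have hγ1 : γ ≠ 1 := by
    intro h
    rw [h, orderOf_one] at hγ
    exact hqp.one_lt.ne hγ
  obtain ⟨N, hN, n₀, g, hn₀, hNc, hQc, hNgen, hgen⟩ := meta_gen hm
  by_cases hab : ∀ a b : X, a * b = b * a
  · right
    letI : CommGroup X := { (inferInstance : Group X) with mul_comm := hab }
    exact meta2_ab (H := X) hX n₀ g hgen q hqp hq2 γ hγq hγ1
  · left
    obtain ⟨k, hk1, hidx, hpow, hP⟩ := meta_abq hX n₀ g hgen q hqp hq2 γ hγq hγ1
    rcases Nat.lt_or_ge k 2 with hk | hk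
    · have hk1' : k = 1 := by omega
      subst hk1'
      exact Cfsg.Agent.Lib.Helper8.h8_s4189 hX
        (fun h => hab (fun a b => h.is_comm.comm a b)) (by rw [hidx]; norm_num) hA
    · exact (meta_pow_false hX N hNc hQc n₀ g hgen hab γ k hk hidx hpow hP).elim

end Cfsg.Agent.Lib.Helper1
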