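import Mathlib
import Cfsg.Prelude.Def_FusionSystem
import Cfsg.Prelude.Def_OddOrderLocal
import Cfsg.Prelude.Def_CaseTheorems
import Cfsg.Agent.Lib.Helper1.MetaSub
import Cfsg.Agent.Lib.Helper1.Metacyclic2
import Cfsg.Agent.Lib.Helper1.FusAlp
import Cfsg.Agent.Lib.Helper1.FusNormal
import Cfsg.Agent.Lib.Helper1.FusStab
import Cfsg.Agent.Lib.Helper7.PCore
import Cfsg.Agent.S5080
import Cfsg.Agent.S5083

set_option autoImplicit false

universe u

namespace Cfsg.Agent.Lib.Helper1

open Cfsg Cfsg.Agent.Lib.Helper7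

theorem mf_aut_top {X : Type u} [Group X] [Finite X] (hX : IsPGroup 2 X)
    (hm : Cfsg.IsMetacyclic X)
    (hh : ¬ ∃ n k : ℕ, Nonempty (X ≃* Multiplicative (Fin k → ZMod (2 ^ n))))
    (hq : ¬ ∃ m : ℕ, Nonempty (X ≃* QuaternionGroup m)) : IsPGroup 2 (MulAut X) := by
  by_contra hA
  rcases meta2_main hX hm hA with he | ⟨n, he⟩
  · exact hq ⟨2, he⟩
  · obtain ⟨e⟩ := he
    obtain ⟨c⟩ := homo_conv n
    exact hh ⟨n, 2, ⟨e.trans c⟩⟩

variable {Ω : Type u} [Group Ω] {S : Subgroup Ω}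

theorem mf_ess_false [Finite S] (hS : IsPGroup 2 S) (F : Cfsg.FusionSystem S)
    (hm : Cfsg.IsMetacyclic ↥S)
    (hh : ¬ ∃ n k : ℕ, Nonempty (↥S ≃* Multiplicative (Fin k → ZMod (2 ^ n))))
    (hd : ¬ ∃ m : ℕ, Nonempty (↥S ≃* DihedralGroup m))
    (hq : ¬ ∃ m : ℕ, Nonempty (↥S ≃* QuaternionGroup m))
    (hsd : ¬ Cfsg.IsQuasiDihedral ↥S) (P : Subgroup Ω) (hess : F.IsEssential 2 P) : False := by
  classical
  haveI : Fact (Nat.Prime 2) := ⟨Nat.prime_two⟩
  obtain ⟨hcen, hfn, hI, M, hM⟩ := hess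
  have hPS := hfn.1
  haveI : Finite P := fs_finite_of_le hPS
  have hO := Cfsg.Agent.S5080.pCore_eq_bot_of_spe hM
  have hnot : ¬ IsPGroup 2 (F.autGroup P) := by
    intro h
    have hXp : IsPGroup 2 (↥(F.autGroup P) ⧸ (Cfsg.Inn P).subgroupOf (F.autGroup P)) :=
      h.to_quotient _
    have htop : (⊤ : Subgroup (↥(F.autGroup P) ⧸ (Cfsg.Inn P).subgroupOf (F.autGroup P))) ≤
        Cfsg.pCore 2 (↥(F.autGroup P) ⧸ (Cfsg.Inn P).subgroupOf (F.autGroup P)) :=
      le_pCore Subgroup.normal_top (hXp.to_subgroup _)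
    rw [hO] at htop
    have hcard : Nat.card (↥(F.autGroup P) ⧸ (Cfsg.Inn P).subgroupOf (F.autGroup P)) = 1 := by
      rw [← Subgroup.card_top, le_bot_iff.mp htop, Subgroup.card_bot]
    have := hM.1
    rw [hcard] at this
    exact (Fact.out : (2 : ℕ).Prime).one_lt.ne' (Nat.dvd_one.mp this)
  have hP2 : IsPGroup 2 ↥P := hS.to_le hPS
  have hPm : Cfsg.IsMetacyclic ↥P :=
    meta_of_injective (Subgroup.inclusion hPS) (Subgroup.inclusion_injective hPS) hm
  have hA : ¬ IsPGroup 2 (MulAut ↥P) := fun h => hnot (h.to_subgroup _)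
  rcases meta2_main hP2 hPm hA with he | ⟨n, he⟩
  · obtain ⟨e⟩ := he
    rcases meta_q8 hS hm ((Subgroup.inclusion hPS).comp e.symm.toMonoidHom)
        ((Subgroup.inclusion_injective hPS).comp e.symm.injective) with h | h | h
    · exact hd h
    · exact hsd h
    · exact hq h
  · obtain ⟨e⟩ := he
    obtain ⟨hPab, hPexp, hPcard, hProot⟩ := homo_facts n e
    have hCP : FusionSystem.centralizerIn S P ≤ P := hcen.2 P (fs_isConj_refl F hPS)
    have hPne : P ≠ S := by
      intro hPeq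
      obtain ⟨c⟩ := homo_conv n
      exact hh ⟨n, 2, ⟨((MulEquiv.subgroupCongr hPeq).symm.trans e).trans c⟩⟩
    have hlt : P < S := lt_of_le_of_ne hPS hPne
    have hNlt := fs_lt_normalizerIn hS hlt
    obtain ⟨s, hsN, hsP⟩ : ∃ s, s ∈ FusionSystem.normalizerIn S P ∧ s ∉ P := by
      by_contra hno
      push Not at hno
      exact hNlt.ne (le_antisymm hNlt.le (fun s hs => hno s hs))
    have hsS : s ∈ S := (Subgroup.mem_inf.mp hsN).1
    have hsn : s ∈ Subgroup.normalizer (P : Set Ω) := (Subgroup.mem_inf.mp hsN).2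
    obtain ⟨K, hK⟩ := hS ⟨s, hsS⟩
    have hsK : s ^ (2 ^ K) = 1 := by
      have := congrArg Subtype.val hK
      simpa using this
    have hex : ∃ k : ℕ, s ^ (2 ^ k) ∈ P := ⟨K, by rw [hsK]; exact P.one_mem⟩
    obtain ⟨k0, hk0, hmin⟩ : ∃ k0, s ^ (2 ^ k0) ∈ P ∧ ∀ j < k0, s ^ (2 ^ j) ∉ P :=
      ⟨Nat.find hex, Nat.find_spec hex, fun j hj => Nat.find_min hex hj⟩
    have hk0pos : k0 ≠ 0 := by
      rintro rfl
      rw [pow_zero, pow_one] at hk0
      exact hsP hk0
    obtain ⟨t, ht⟩ : ∃ t, t = s ^ (2 ^ (k0 - 1)) := ⟨_, rfl⟩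
    have htP : t ∉ P := by rw [ht]; exact hmin (k0 - 1) (by omega)
    have ht2P : t ^ 2 ∈ P := by
      rw [ht, ← pow_mul, ← pow_succ]
      have h1 : k0 - 1 + 1 = k0 := by omega
      rw [h1]; exact hk0
    have htS : t ∈ S := by rw [ht]; exact S.pow_mem hsS _
    have htn : t ∈ Subgroup.normalizer (P : Set Ω) := by
      rw [ht]; exact Subgroup.pow_mem _ hsn _
    have hconj : ∀ x ∈ P, t⁻¹ * x * t ∈ P := fun x hx =>
      (Subgroup.mem_normalizer_iff''.mp htn x).mp hx
    have hact : ∃ a : ↥P, a ^ 2 = 1 ∧ t * (a : Ω) * t⁻¹ ≠ a := by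
      by_contra hno
      push Not at hno
      obtain ⟨ct, hct⟩ : ∃ ct : MulAut ↥P, ct = P.normalizerMonoidHom ⟨t, htn⟩ := ⟨_, rfl⟩
      have hctA : ct ∈ F.autGroup P := by
        rw [hct]; exact fs_nmh_mem_autGroup F hPS ⟨t, htn⟩ htS
      have hctfix : ∀ x : ↥P, x ^ 2 = 1 → ct x = x := by
        intro x hx
        apply Subtype.ext
        rw [hct]
        exact hno x hx
      obtain ⟨L₀, hL₀⟩ : ∃ L₀ : Subgroup (MulAut ↥P),
          ∀ β, β ∈ L₀ ↔ ∀ x : ↥P, x ^ 2 = 1 → β x = x :=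
        ⟨{ carrier := {β | ∀ x : ↥P, x ^ 2 = 1 → β x = x}
           mul_mem' := fun {β γ} hβ hγ x hx => by
             show β (γ x) = x
             rw [hγ x hx, hβ x hx]
           one_mem' := fun x _ => rfl
           inv_mem' := fun {β} hβ x hx => by
             show β⁻¹ x = x
             have h1 := hβ x hx
             nth_rewrite 1 [← h1]
             exact MulAut.inv_apply_self _ _ _ }, fun β => Iff.rfl⟩
      have hL₀n : L₀.Normal := by
        constructor
        intro β hβ γ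
        rw [hL₀] at hβ ⊢
        intro x hx
        show γ (β (γ⁻¹ x)) = x
        have h1 : (γ⁻¹ x) ^ 2 = 1 := by rw [← map_pow, hx, map_one]
        rw [hβ _ h1]; exact MulAut.apply_inv_self _ _ _
      have hL₀p : IsPGroup 2 L₀ :=
        isPGroup_of_forall_pow 2 L₀ (fun β hβ => omega_chain hP2 hPab β ((hL₀ β).mp hβ))
      obtain ⟨L, hL⟩ : ∃ L : Subgroup ↥(F.autGroup P), L = L₀.subgroupOf (F.autGroup P) :=
        ⟨_, rfl⟩
      have hLn : L.Normal := by rw [hL]; exact hL₀n.subgroupOf _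
      have hLp : IsPGroup 2 L := by
        rw [hL]; exact hL₀p.comap_subtype
      have hmapn : (L.map (QuotientGroup.mk' ((Cfsg.Inn P).subgroupOf (F.autGroup P)))).Normal :=
        hLn.map _ (QuotientGroup.mk'_surjective _)
      have hmapp : IsPGroup 2 (L.map (QuotientGroup.mk' ((Cfsg.Inn P).subgroupOf (F.autGroup P)))) :=
        hLp.map _
      have hle := le_pCore hmapn hmapp
      rw [hO] at hle
      have hctL : (⟨ct, hctA⟩ : ↥(F.autGroup P)) ∈ L := by
        rw [hL, Subgroup.mem_subgroupOf]; exact (hL₀ ct).mpr hctfix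
      have h1 : (QuotientGroup.mk' ((Cfsg.Inn P).subgroupOf (F.autGroup P))) ⟨ct, hctA⟩ = 1 :=
        Subgroup.mem_bot.mp (hle (Subgroup.mem_map_of_mem _ hctL))
      have h2 : (⟨ct, hctA⟩ : ↥(F.autGroup P)) ∈ (Cfsg.Inn P).subgroupOf (F.autGroup P) :=
        (QuotientGroup.eq_one_iff _).mp h1
      rw [Subgroup.mem_subgroupOf] at h2
      obtain ⟨p, hp⟩ := h2
      apply htP
      apply hCP
      refine Subgroup.mem_inf.mpr ⟨htS, ?_⟩
      rw [Subgroup.mem_centralizer_iff]
      intro x hx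
      have h3 : ct ⟨x, hx⟩ = ⟨x, hx⟩ := by
        have h5 : ct = MulAut.conj p := hp.symm
        rw [h5]
        show p * ⟨x, hx⟩ * p⁻¹ = ⟨x, hx⟩
        rw [hPab p ⟨x, hx⟩, mul_inv_cancel_right]
      have h4 : t * x * t⁻¹ = x := by
        have h5 := congrArg Subtype.val h3
        rw [hct] at h5
        exact h5
      exact (mul_inv_eq_iff_eq_mul.mp h4).symm
    obtain ⟨a, ha2, hat⟩ := hact
    have hat' : t * (a : Ω) ≠ (a : Ω) * t := by
      intro h
      apply hat
      rw [h, mul_inv_cancel_right]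
    have ha2Ω : (a : Ω) ^ 2 = 1 := by
      have := congrArg Subtype.val ha2
      simpa using this
    rcases Nat.lt_or_ge n 2 with hn | hn
    · interval_cases n
      · have h1 := hPexp a
        rw [pow_zero, pow_one] at h1
        apply hat'
        rw [h1]; simp
      · have hc4 : Nat.card ↥P = 4 := by rw [hPcard]; norm_num
        rcases v4_selfcent hS (P.subgroupOf S)
            (by rw [Nat.card_congr (Subgroup.subgroupOfEquivOfLe hPS).toEquiv]; exact hc4)
            (by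
              intro x hx y hy
              apply Subtype.ext
              have h5 := congrArg Subtype.val
                (hPab ⟨x, Subgroup.mem_subgroupOf.mp hx⟩ ⟨y, Subgroup.mem_subgroupOf.mp hy⟩)
              exact h5)
            (by
              intro g hg
              rw [Subgroup.mem_subgroupOf]
              apply hCP
              refine Subgroup.mem_inf.mpr ⟨g.2, ?_⟩
              rw [Subgroup.mem_centralizer_iff]
              intro y hy
              have h5 := congrArg Subtype.val (Subgroup.mem_centralizer_iff.mp hg ⟨y, hPS hy⟩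
                (Subgroup.mem_subgroupOf.mpr hy))
              exact h5)
            ⟨(a : Ω), hPS a.2⟩ ⟨t, htS⟩ (Subgroup.mem_subgroupOf.mpr a.2)
            (Subtype.ext ha2Ω) (fun h => hat' (congrArg Subtype.val h)) with h | h | h
        · exact hd h
        · exact hsd h
        · exact hPne (Subgroup.eq_of_le_of_card_ge hPS (by rw [hc4, h]))
    · obtain ⟨x, hx⟩ := hProot (by omega) a ha2
      have hxa : (x : Ω) ^ (2 ^ (n - 1)) = a := by
        have := congrArg Subtype.val hx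
        simpa using this
      apply meta_noswap hS hm n hn ⟨(x : Ω), hPS x.2⟩ ⟨t, htS⟩
      · apply Subtype.ext
        have h5 := congrArg Subtype.val (hPab x ⟨t⁻¹ * x * t, hconj x x.2⟩)
        exact h5
      · apply Subtype.ext
        have h5 := congrArg Subtype.val (hPab ⟨t ^ 2, ht2P⟩ x)
        exact h5
      · intro k
        apply Subtype.ext
        have h5 := congrArg Subtype.val
          (hPexp ⟨((t ^ 2) ^ k)⁻¹ * x, P.mul_mem (P.inv_mem (P.pow_mem ht2P k)) x.2⟩)
        exact h5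
      · intro h
        apply hat'
        have h1 : (x : Ω) ^ (2 ^ (n - 1)) = (t⁻¹ * (x : Ω) * t) ^ (2 ^ (n - 1)) :=
          congrArg Subtype.val h
        have e : (t⁻¹ * (x : Ω) * t) ^ (2 ^ (n - 1)) = t⁻¹ * (x : Ω) ^ (2 ^ (n - 1)) * t := by
          have := conj_pow (a := t⁻¹) (b := (x : Ω)) (i := 2 ^ (n - 1))
          rwa [inv_inv] at this
        rw [e, hxa] at h1
        calc t * (a : Ω) = t * (t⁻¹ * (a : Ω) * t) := by rw [← h1]
          _ = (a : Ω) * t := by group

theorem mf_main [Finite S] (hS : IsPGroup 2 S) (F : Cfsg.FusionSystem S) (hF : F.IsSaturated 2)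
    (hm : Cfsg.IsMetacyclic ↥S)
    (hh : ¬ ∃ n k : ℕ, Nonempty (↥S ≃* Multiplicative (Fin k → ZMod (2 ^ n))))
    (hd : ¬ ∃ m : ℕ, Nonempty (↥S ≃* DihedralGroup m))
    (hq : ¬ ∃ m : ℕ, Nonempty (↥S ≃* QuaternionGroup m))
    (hsd : ¬ Cfsg.IsQuasiDihedral ↥S) :
    ∀ P : Subgroup Ω, F.Hom P = (Cfsg.innerFusionSystem S).Hom P := by
  haveI : Fact (Nat.Prime 2) := ⟨Nat.prime_two⟩
  have hle : ∀ (P : Subgroup Ω) (φ : P →* Ω), φ ∈ F.Hom P →
      φ ∈ (Cfsg.innerFusionSystem S).Hom P := by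
    apply fs_alperin 2 hS F hF
    rintro P (rfl | hess)
    · have hfn : F.IsFullyNormalized P := by
        refine ⟨le_rfl, fun Q _ => ?_⟩
        have e : Cfsg.FusionSystem.normalizerIn P P = P := inf_eq_left.mpr Subgroup.le_normalizer
        rw [e]
        exact Subgroup.card_le_of_le inf_le_left
      obtain ⟨-, R, hR⟩ := fs_fullyAutomized_of_fullyNormalized 2 hS F hF P hfn
      have hAP : IsPGroup 2 (F.autGroup P) := (mf_aut_top hS hm hh hq).to_subgroup _
      have hRtop := Cfsg.Agent.S5083.sylow_eq_top_of_isPGroup hAP R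
      intro α hα
      have h1 : (⟨α, hα⟩ : ↥(F.autGroup P)) ∈ (R : Subgroup ↥(F.autGroup P)) := by
        rw [hRtop]; exact Subgroup.mem_top _
      rw [hR, Subgroup.mem_subgroupOf] at h1
      exact Cfsg.Agent.S5083.autInducedBy_le_inner P le_rfl h1
    · exact (mf_ess_false hS F hm hh hd hq hsd P hess).elim
  intro P
  apply Set.Subset.antisymm
  · exact fun φ hφ => hle P φ hφ
  · rintro φ ⟨hP, g, hg, hφ⟩
    have h1 := F.conj_mem (g := g) hP hg
    have e : Cfsg.conjHom P g = φ := by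
      ext x
      exact (hφ x).symm
    rwa [e] at h1

end Cfsg.Agent.Lib.Helper1
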