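import Cfsg.Agent.Lib.Helper1.MetaCD

set_option autoImplicit false

namespace Cfsg.Agent.Lib.Helper1

theorem geomE_add (ρ s t : ℕ) : geomE ρ (s + t) = geomE ρ s + ρ ^ s * geomE ρ t := by
  induction s with
  | zero => simp [geomE]
  | succ s ih =>
    have e1 : geomE ρ (s + 1 + t) = 1 + ρ * geomE ρ (s + t) := by
      have : s + 1 + t = (s + t) + 1 := by omega
      rw [this]; rfl
    have e2 : geomE ρ (s + 1) = 1 + ρ * geomE ρ s := rfl
    rw [e1, e2, ih]; ring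

theorem geomE_mul (ρ m n : ℕ) : geomE ρ (m * n) = geomE ρ m * geomE (ρ ^ m) n := by
  induction n with
  | zero => simp [geomE]
  | succ n ih =>
    have e2 : geomE (ρ ^ m) (n + 1) = 1 + ρ ^ m * geomE (ρ ^ m) n := rfl
    rw [Nat.mul_succ, Nat.add_comm, geomE_add, ih, e2]; ring

theorem geomE_ppow (p : ℕ) (hpp : p.Prime) (hp2 : p ≠ 2) (k : ℕ) :
    ∀ ρ : ℕ, ρ % p = 1 → ∃ u : ℕ, geomE ρ (p ^ k) = p ^ k * u ∧ ¬ p ∣ u := by
  induction k with
  | zero =>
    intro ρ _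
    refine ⟨1, ?_, Nat.Prime.not_dvd_one hpp⟩
    rw [pow_zero]; rfl
  | succ k ih =>
    intro ρ hρ
    obtain ⟨u, hu, hpu⟩ := ih ρ hρ
    have h1 : (ρ ^ (p ^ k)) % p = 1 := by
      rw [Nat.pow_mod, hρ, one_pow, Nat.mod_eq_of_lt hpp.one_lt]
    have h2 : p * (ρ ^ (p ^ k) / p) + 1 = ρ ^ (p ^ k) := by
      have := Nat.div_add_mod (ρ ^ (p ^ k)) p
      rw [h1] at this; exact this
    obtain ⟨u', hu', hpu'⟩ := geomE_prime p (ρ ^ (p ^ k) / p) hpp hp2
    rw [h2] at hu'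
    refine ⟨u * u', ?_, ?_⟩
    · rw [pow_succ, geomE_mul, hu, hu']; ring
    · intro h
      rcases (Nat.Prime.dvd_mul hpp).mp h with h | h
      · exact hpu h
      · exact hpu' h

theorem mul_pow_geom {G : Type*} [Group G] (z y : G) (ρ : ℕ) (hρ : y * z * y⁻¹ = z ^ ρ) (n : ℕ) :
    (z * y) ^ n = z ^ (geomE ρ n) * y ^ n := by
  induction n with
  | zero => simp [geomE]
  | succ n ih =>
    have h1 : y * z ^ (geomE ρ n) * y⁻¹ = z ^ (ρ * geomE ρ n) := by
      rw [← conj_pow, hρ, ← pow_mul]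
    have h2 : y * z ^ (geomE ρ n) = z ^ (ρ * geomE ρ n) * y := mul_inv_eq_iff_eq_mul.mp h1
    have e2 : geomE ρ (n + 1) = 1 + ρ * geomE ρ n := rfl
    rw [pow_succ', ih, e2, pow_add, pow_one, pow_succ' y n]
    calc z * y * (z ^ geomE ρ n * y ^ n) = z * ((y * z ^ geomE ρ n) * y ^ n) := by
          simp only [mul_assoc]
      _ = z * ((z ^ (ρ * geomE ρ n) * y) * y ^ n) := by rw [h2]
      _ = z * z ^ (ρ * geomE ρ n) * (y * y ^ n) := by simp only [mul_assoc]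

theorem meta_split_aux {G : Type*} [Group G] [Finite G] {p : ℕ} [Fact p.Prime] (hp : p ≠ 2)
    (hG : IsPGroup p G) (x y : G) (a : ℕ) (ha : orderOf x = p ^ a)
    (hconj : ∃ ρ : ℕ, 1 ≤ ρ ∧ y * x * y⁻¹ = x ^ ρ) (k : ℕ)
    (hy : y ^ (p ^ k) ∈ Subgroup.zpowers (x ^ (p ^ k))) :
    ∃ c : ℕ, (x ^ c * y) ^ (p ^ k) = 1 := by
  have hpp : p.Prime := Fact.out
  by_cases ha0 : a = 0
  · subst ha0
    have hx1 : x = 1 := by rw [← orderOf_eq_one_iff, ha, pow_zero]
    refine ⟨0, ?_⟩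
    rw [hx1, one_pow, Subgroup.zpowers_one_eq_bot, Subgroup.mem_bot] at hy
    rw [pow_zero, one_mul, hy]
  obtain ⟨ρ, hρ1, hρ⟩ := hconj
  obtain ⟨e, he⟩ := hG y
  have hρp : p ∣ ρ - 1 := meta_rho_dvd x y a ρ e ha ha0 hρ1 hρ he
  have hρm : ρ % p = 1 := by
    obtain ⟨c, hc⟩ := hρp
    have : ρ = p * c + 1 := by omega
    rw [this, Nat.mul_add_mod]; exact Nat.mod_eq_of_lt hpp.one_lt
  obtain ⟨u, hu, hpu⟩ := geomE_ppow p hpp hp k ρ hρm
  have h1 : x ^ (p ^ k) ∈ Subgroup.zpowers (x ^ (p ^ k * u)) := by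
    rw [pow_mul]; exact mem_zpowers_pow_of_not_dvd hG (x ^ (p ^ k)) u hpu
  have h2 : (y ^ (p ^ k))⁻¹ ∈ Subgroup.zpowers (x ^ (p ^ k * u)) :=
    Subgroup.inv_mem _ ((Subgroup.zpowers_le.mpr h1) hy)
  rw [← mem_powers_iff_mem_zpowers, Submonoid.mem_powers_iff] at h2
  obtain ⟨c, hc⟩ := h2
  refine ⟨c, ?_⟩
  have hz : y * x ^ c * y⁻¹ = (x ^ c) ^ ρ := by
    rw [← conj_pow, hρ, ← pow_mul, ← pow_mul, mul_comm]
  rw [mul_pow_geom (x ^ c) y ρ hz, hu, ← pow_mul, mul_comm c, pow_mul, hc, inv_mul_cancel]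

theorem meta_split {G : Type*} [Group G] [Finite G] {p : ℕ} [Fact p.Prime] (hp : p ≠ 2)
    (hG : IsPGroup p G) (hmc : Cfsg.IsMetacyclic G) :
    ∃ A B : Subgroup G, IsCyclic ↥A ∧ IsCyclic ↥B ∧ A ⊓ B = ⊥ ∧
      Nat.card ↥A * Nat.card ↥B = Nat.card G := by
  have hpp : p.Prime := Fact.out
  obtain ⟨N, x, y, a, hN, hxN, hgen, hy, ha, hconj, -, -⟩ := meta_setup hp hG hmc
  have hNeq : N = Subgroup.zpowers x :=
    le_antisymm (fun n hn => hgen n hn) (Subgroup.zpowers_le.mpr hxN)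
  have hNcard : Nat.card ↥N = p ^ a := by rw [hNeq, Nat.card_zpowers, ha]
  obtain ⟨m, hm⟩ := (IsPGroup.iff_orderOf.mp (hG.to_quotient N)) (QuotientGroup.mk y : G ⧸ N)
  have hyN : ∀ t : ℕ, y ^ t ∈ N ↔ p ^ m ∣ t := by
    intro t
    rw [← hm, orderOf_dvd_iff_pow_eq_one, ← QuotientGroup.mk_pow, QuotientGroup.eq_one_iff]
  have hGcard : Nat.card G = p ^ a * p ^ m := by
    have h := card_cyclic_ext N ⊤ le_top y (Subgroup.mem_top y) (p ^ m) (pow_pos hpp.pos m)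
      (fun u _ => hy u) hyN
    rw [Subgroup.card_top, hNcard] at h
    exact h
  -- generic facts about b = x^c * y'
  have hquot : ∀ (c : ℕ) (y' : G) (t : ℕ), (x ^ c * y') ^ t ∈ N ↔ y' ^ t ∈ N := by
    intro c y' t
    have e : (QuotientGroup.mk (x ^ c * y') : G ⧸ N) = QuotientGroup.mk y' := by
      rw [QuotientGroup.mk_mul, (QuotientGroup.eq_one_iff (x ^ c)).mpr (N.pow_mem hxN c), one_mul]
    rw [← QuotientGroup.eq_one_iff, ← QuotientGroup.eq_one_iff, QuotientGroup.mk_pow,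
      QuotientGroup.mk_pow, e]
  have hnat : ∀ (b g : G), g ∈ Subgroup.zpowers b → ∃ t : ℕ, b ^ t = g := by
    intro b g hg
    rw [← mem_powers_iff_mem_zpowers, Submonoid.mem_powers_iff] at hg
    exact hg
  by_cases hc1 : y ^ (p ^ m) ∈ Subgroup.zpowers (x ^ (p ^ m))
  · obtain ⟨c, hc⟩ := meta_split_aux hp hG x y a ha (hconj y) m hc1
    have hbN : ∀ t : ℕ, (x ^ c * y) ^ t ∈ N ↔ p ^ m ∣ t := fun t =>
      (hquot c y t).trans (hyN t)
    have hbo : orderOf (x ^ c * y) = p ^ m :=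
      Nat.dvd_antisymm (orderOf_dvd_of_pow_eq_one hc)
        ((hbN _).mp (by rw [pow_orderOf_eq_one]; exact N.one_mem))
    refine ⟨N, Subgroup.zpowers (x ^ c * y), ?_, inferInstance, ?_, ?_⟩
    · rw [hNeq]; infer_instance
    · rw [Subgroup.eq_bot_iff_forall]
      rintro g ⟨hgN, hgB⟩
      obtain ⟨t, rfl⟩ := hnat _ _ hgB
      obtain ⟨s, rfl⟩ := (hbN t).mp hgN
      rw [pow_mul, hc, one_pow]
    · rw [hNcard, Nat.card_zpowers, hbo, hGcard]
  · -- find k < m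
    have hfind : ∀ m' : ℕ, y ^ (p ^ m) ∉ Subgroup.zpowers (x ^ (p ^ m')) →
        ∃ k : ℕ, k < m' ∧ y ^ (p ^ m) ∈ Subgroup.zpowers (x ^ (p ^ k)) ∧
          y ^ (p ^ m) ∉ Subgroup.zpowers (x ^ (p ^ (k + 1))) := by
      intro m'
      induction m' with
      | zero =>
        intro h
        exfalso; apply h
        rw [pow_zero, pow_one]
        exact hgen _ ((hyN _).mpr dvd_rfl)
      | succ m' ih =>
        intro h
        by_cases h' : y ^ (p ^ m) ∈ Subgroup.zpowers (x ^ (p ^ m'))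
        · exact ⟨m', Nat.lt_succ_self m', h', h⟩
        · obtain ⟨k, hk, hk1, hk2⟩ := ih h'
          exact ⟨k, Nat.lt_succ_of_lt hk, hk1, hk2⟩
    obtain ⟨k, hkm, hk1, hk2⟩ := hfind m hc1
    have hy1 : y ^ (p ^ m) ≠ 1 := by
      intro h; apply hc1; rw [h]; exact Subgroup.one_mem _
    have hmk : p ^ m = p ^ (m - k) * p ^ k := by rw [← pow_add]; congr 1; omega
    have hy'k : (y ^ (p ^ (m - k))) ^ (p ^ k) = y ^ (p ^ m) := by rw [← pow_mul, ← hmk]
    obtain ⟨c, hc⟩ := meta_split_aux hp hG x (y ^ (p ^ (m - k))) a ha (hconj _) k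
      (by rw [hy'k]; exact hk1)
    have hbN : ∀ t : ℕ, (x ^ c * y ^ (p ^ (m - k))) ^ t ∈ N ↔ p ^ k ∣ t := by
      intro t
      rw [hquot c _ t, ← pow_mul, hyN, hmk]
      exact Nat.mul_dvd_mul_iff_left (pow_pos hpp.pos _)
    have hbo : orderOf (x ^ c * y ^ (p ^ (m - k))) = p ^ k :=
      Nat.dvd_antisymm (orderOf_dvd_of_pow_eq_one hc)
        ((hbN _).mp (by rw [pow_orderOf_eq_one]; exact N.one_mem))
    have hAN : ∀ g ∈ Subgroup.zpowers (x ^ c * y ^ (p ^ (m - k))), g ∈ N → g = 1 := by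
      intro g hgA hgN
      obtain ⟨t, rfl⟩ := hnat _ _ hgA
      obtain ⟨s, rfl⟩ := (hbN t).mp hgN
      rw [pow_mul, hc, one_pow]
    -- k ≤ a
    have hka : k ≤ a := by
      by_contra hlt
      have hx1 : ∀ j : ℕ, k ≤ j → x ^ (p ^ j) = 1 := by
        intro j hj
        rw [← orderOf_dvd_iff_pow_eq_one, ha]
        exact pow_dvd_pow p (by omega)
      apply hk2
      rw [hx1 (k + 1) (by omega)]
      rw [hx1 k le_rfl] at hk1
      exact hk1
    -- y^(p^m) = (x^(p^k))^w with p ∤ w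
    obtain ⟨w, hw⟩ := hnat _ _ hk1
    have hpw : ¬ p ∣ w := by
      rintro ⟨w', rfl⟩
      apply hk2
      rw [← hw, ← pow_mul, ← mul_assoc, ← pow_succ, pow_mul]
      exact Subgroup.pow_mem _ (Subgroup.mem_zpowers _) _
    have hord : orderOf (y ^ (p ^ m)) = orderOf (x ^ (p ^ k)) := by
      rw [← hw]
      apply Nat.Coprime.orderOf_pow
      obtain ⟨e, he⟩ := IsPGroup.iff_orderOf.mp hG (x ^ (p ^ k))
      rw [he]
      exact Nat.Coprime.pow_left _ ((Nat.Prime.coprime_iff_not_dvd hpp).mpr hpw)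
    have hpmy : p ^ m ∣ orderOf y := (hyN _).mp (by rw [pow_orderOf_eq_one]; exact N.one_mem)
    have hoy : orderOf (y ^ (p ^ m)) = orderOf y / p ^ m :=
      orderOf_pow_of_dvd (pow_pos hpp.pos m).ne' hpmy
    have hox : orderOf (x ^ (p ^ k)) = orderOf x / p ^ k :=
      orderOf_pow_of_dvd (pow_pos hpp.pos k).ne' (by rw [ha]; exact pow_dvd_pow p hka)
    have hoy2 : orderOf y = p ^ m * p ^ (a - k) := by
      have e1 : orderOf y = p ^ m * (orderOf y / p ^ m) := (Nat.mul_div_cancel' hpmy).symm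
      rw [e1, ← hoy, hord, hox, ha, Nat.pow_div hka hpp.pos]
    refine ⟨Subgroup.zpowers (x ^ c * y ^ (p ^ (m - k))), Subgroup.zpowers y, inferInstance,
      inferInstance, ?_, ?_⟩
    · rw [Subgroup.eq_bot_iff_forall]
      rintro g ⟨hgA, hgB⟩
      by_contra hg1
      obtain ⟨e, he⟩ := IsPGroup.iff_orderOf.mp hG g
      have he0 : e ≠ 0 := by
        rintro rfl
        rw [pow_zero, orderOf_eq_one_iff] at he
        exact hg1 he
      have hh1 : g ^ (p ^ (e - 1)) ≠ 1 := by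
        apply pow_ne_one_of_lt_orderOf (pow_pos hpp.pos _).ne'
        rw [he]
        exact Nat.pow_lt_pow_right hpp.one_lt (by omega)
      have hhp : (g ^ (p ^ (e - 1))) ^ p = 1 := by
        rw [← pow_mul, ← pow_succ, ← orderOf_dvd_iff_pow_eq_one, he]
        exact pow_dvd_pow p (by omega)
      have hhA : g ^ (p ^ (e - 1)) ∈ Subgroup.zpowers (x ^ c * y ^ (p ^ (m - k))) :=
        Subgroup.pow_mem _ hgA _
      have hhB : g ^ (p ^ (e - 1)) ∈ Subgroup.zpowers y := Subgroup.pow_mem _ hgB _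
      obtain ⟨s, hs⟩ := hnat _ _ hhB
      have hsN : y ^ s ∈ N := by
        rw [hyN]
        have h3 : orderOf y ∣ s * p := by
          rw [orderOf_dvd_iff_pow_eq_one, pow_mul, hs, hhp]
        obtain ⟨f, hf⟩ := IsPGroup.iff_orderOf.mp hG y
        have hfm : m < f := by
          by_contra hle
          apply hy1
          rw [← orderOf_dvd_iff_pow_eq_one, hf]
          exact pow_dvd_pow p (by omega)
        have h4 : p ^ m * p ∣ s * p := by
          rw [← pow_succ]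
          exact dvd_trans (by rw [hf]; exact pow_dvd_pow p (by omega)) h3
        exact (Nat.mul_dvd_mul_iff_right hpp.pos).mp h4
      rw [hs] at hsN
      exact hh1 (hAN _ hhA hsN)
    · rw [Nat.card_zpowers, Nat.card_zpowers, hbo, hoy2, hGcard]
      have e3 : p ^ a = p ^ k * p ^ (a - k) := by rw [← pow_add]; congr 1; omega
      rw [e3]; ring

end Cfsg.Agent.Lib.Helper1
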