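import Mathlib
import Cfsg.Agent.Lib.Helper1.ChainP
import Cfsg.Agent.Lib.Helper1.FusCoprime
import Cfsg.Agent.Lib.Helper2.PGroup
import Cfsg.Agent.Lib.Helper6.Frattini
import Cfsg.Agent.Lib.Helper8.Q8Aut

set_option autoImplicit false

universe u

namespace Cfsg.Agent.Lib.Helper1

open scoped commutatorElement

/-- groups of order `p³` admitting a group of automorphisms `A` with a quotient `A/N` having
trivial `O_p` and order divisible by `p` -/
theorem pcube_main {P : Type u} [Group P] [Finite P] {p : ℕ} [Fact p.Prime]
    (hcard : Nat.card P = p ^ 3)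
    (A : Subgroup (MulAut P)) (N : Subgroup A) [N.Normal]
    (hO : Cfsg.pCore p (↥A ⧸ N) = ⊥) (hpd : p ∣ Nat.card (↥A ⧸ N)) :
    ((∀ a b : P, a * b = b * a) ∧ ∀ a : P, a ^ p = 1) ∨
      (Odd p ∧ Cfsg.IsExtraspecial p P ∧ ∀ x : P, x ^ p = 1) ∨
      (p = 2 ∧ Nonempty (P ≃* QuaternionGroup 2)) := by
  classical
  have hp := (Fact.out : p.Prime)
  have hP : IsPGroup p P := IsPGroup.of_card hcard
  have hle : ∀ H₁ H₂ : Subgroup P, Nat.card H₁ = p → H₁ ⊓ H₂ ≠ ⊥ → H₁ ≤ H₂ := by
    intro H₁ H₂ h1 hne
    have hd : Nat.card ↥(H₁ ⊓ H₂) ∣ p := h1 ▸ Subgroup.card_dvd_of_le inf_le_left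
    rcases (Nat.dvd_prime hp).mp hd with h | h
    · exact absurd (Subgroup.card_eq_one.mp h) hne
    · have : H₁ ⊓ H₂ = H₁ := Subgroup.eq_of_le_of_card_ge inf_le_left (by rw [h, h1])
      rw [← this]; exact inf_le_right
  by_cases hcomm : ∀ a b : P, a * b = b * a
  · by_cases hexp : ∀ a : P, a ^ p = 1
    · exact Or.inl ⟨hcomm, hexp⟩
    · exfalso
      push_neg at hexp
      obtain ⟨x₀, hx₀⟩ := hexp
      obtain ⟨π, hπ⟩ : ∃ π : P →* P, ∀ x, π x = x ^ p :=
        ⟨{ toFun := fun x => x ^ p, map_one' := one_pow p,
           map_mul' := fun a b => (Commute.mul_pow (hcomm a b) p) }, fun x => rfl⟩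
      have hK : ∀ x, x ∈ π.ker ↔ x ^ p = 1 := fun x => by rw [MonoidHom.mem_ker, hπ]
      have hprod : Nat.card π.range * Nat.card π.ker = p ^ 3 := by
        rw [← Subgroup.index_ker, Subgroup.index_mul_card, hcard]
      have hR1 : π.range ≠ ⊥ := by
        intro h
        have : π x₀ ∈ π.range := ⟨x₀, rfl⟩
        rw [h, Subgroup.mem_bot, hπ] at this
        exact hx₀ this
      have hKR : π.ker ⊓ π.range ≠ ⊥ := by
        have hRp : IsPGroup p π.range := hP.to_subgroup _
        have hdvd : p ∣ Nat.card π.range := by
          obtain ⟨k, hk⟩ := IsPGroup.iff_card.mp hRp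
          have : k ≠ 0 := by
            rintro rfl; apply hR1; rw [pow_zero] at hk; exact Subgroup.card_eq_one.mp hk
          rw [hk]; exact dvd_pow_self p this
        obtain ⟨y, hy⟩ := exists_prime_orderOf_dvd_card' p hdvd
        intro h
        have hy1 : (y : P) ^ p = 1 := by
          have := pow_orderOf_eq_one y; rw [hy] at this
          exact_mod_cast congrArg Subtype.val this
        have hmem : (y : P) ∈ π.ker ⊓ π.range := ⟨(hK _).mpr hy1, y.2⟩
        rw [h, Subgroup.mem_bot] at hmem
        have : y = 1 := Subtype.ext hmem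
        rw [this, orderOf_one] at hy
        exact hp.one_lt.ne hy
      have hK1 : π.ker ≠ ⊥ := fun h => hKR (by rw [h, bot_inf_eq])
      obtain ⟨i, hi, hci⟩ := (Nat.dvd_prime_pow hp).mp
        (hcard ▸ Subgroup.card_subgroup_dvd_card π.ker)
      have hcr : Nat.card π.range = p ^ (3 - i) := by
        have : p ^ (3 - i) * p ^ i = p ^ 3 := by rw [← pow_add]; congr 1; omega
        rw [hci, ← this] at hprod
        exact Nat.eq_of_mul_eq_mul_right (pow_pos hp.pos i) hprod
      have hi0 : i ≠ 0 := by
        rintro rfl; rw [pow_zero] at hci; exact hK1 (Subgroup.card_eq_one.mp hci)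
      have hi3 : i ≠ 3 := by
        rintro rfl; rw [Nat.sub_self, pow_zero] at hcr; exact hR1 (Subgroup.card_eq_one.mp hcr)
      have invK : ∀ α : MulAut P, ∀ x ∈ π.ker, α x ∈ π.ker := by
        intro α x hx; rw [hK] at hx ⊢; rw [← map_pow, hx, map_one]
      have invR : ∀ α : MulAut P, ∀ x ∈ π.range, α x ∈ π.range := by
        rintro α _ ⟨y, rfl⟩; exact ⟨α y, by rw [hπ, hπ, map_pow]⟩
      have nK : π.ker.Normal := inferInstance
      have nR : π.range.Normal :=
        ⟨fun n hn g => by rw [hcomm g n, mul_inv_cancel_right]; exact hn⟩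
      have hi12 : i = 1 ∨ i = 2 := by omega
      rcases hi12 with rfl | rfl
      · exact chain_false hcard A N hO hpd π.ker π.range nK nR
          (hle _ _ (by rw [hci, pow_one]) hKR) (by rw [hci, pow_one]) hcr
          (fun α _ => invK α) (fun α _ => invR α)
      · exact chain_false hcard A N hO hpd π.range π.ker nR nK
          (hle _ _ (by rw [hcr]; norm_num) (by rw [inf_comm]; exact hKR))
          (by rw [hcr]; norm_num) hci (fun α _ => invR α) (fun α _ => invK α)
  · have hZ : Nat.card (Subgroup.center P) = p := by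
      haveI : Nontrivial P := by
        rw [← Finite.one_lt_card_iff_nontrivial, hcard]
        exact Nat.one_lt_pow (by norm_num) hp.one_lt
      have h1 : Subgroup.center P ≠ ⊥ := (hP.bot_lt_center).ne'
      obtain ⟨i, hi, hci⟩ := (Nat.dvd_prime_pow hp).mp
        (hcard ▸ Subgroup.card_subgroup_dvd_card (Subgroup.center P))
      have hi0 : i ≠ 0 := by
        rintro rfl; rw [pow_zero] at hci; exact h1 (Subgroup.card_eq_one.mp hci)
      have hq : Nat.card (P ⧸ Subgroup.center P) = p ^ (3 - i) := by
        have h2 := Subgroup.card_eq_card_quotient_mul_card_subgroup (Subgroup.center P)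
        rw [hcard, hci] at h2
        have : p ^ (3 - i) * p ^ i = p ^ 3 := by rw [← pow_add]; congr 1; omega
        rw [← this] at h2
        exact (Nat.eq_of_mul_eq_mul_right (pow_pos hp.pos i) h2).symm
      by_contra hne
      have hi2 : i = 2 ∨ i = 3 := by
        rcases (by omega : i = 1 ∨ i = 2 ∨ i = 3) with h | h | h
        · exact absurd (by rw [hci, h, pow_one]) hne
        · exact Or.inl h
        · exact Or.inr h
      haveI : IsCyclic (P ⧸ Subgroup.center P) := by
        rcases hi2 with rfl | rfl
        · exact isCyclic_of_prime_card (p := p) (by rw [hq]; norm_num)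
        · have : Nat.card (P ⧸ Subgroup.center P) = 1 := by rw [hq]; norm_num
          haveI : Subsingleton (P ⧸ Subgroup.center P) := (Nat.card_eq_one_iff_unique.mp this).1
          exact isCyclic_of_subsingleton
      have := MonoidHom.isMulCommutative_of_isCyclic_of_ker_le_center
        (QuotientGroup.mk' (Subgroup.center P)) (by rw [QuotientGroup.ker_mk'])
      exact hcomm (fun a b => this.is_comm.comm a b)
    have hq : Nat.card (P ⧸ Subgroup.center P) = p ^ 2 := by
      have h2 := Subgroup.card_eq_card_quotient_mul_card_subgroup (Subgroup.center P)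
      rw [hcard, hZ] at h2
      have : p ^ 2 * p = p ^ 3 := by ring
      rw [← this] at h2
      exact (Nat.eq_of_mul_eq_mul_right hp.pos h2).symm
    have hqc : IsMulCommutative (P ⧸ Subgroup.center P) :=
      IsPGroup.isMulCommutative_of_card_eq_prime_sq hq
    have hcomZ : commutator P ≤ Subgroup.center P :=
      Subgroup.Normal.quotient_commutative_iff_commutator_le.mp hqc
    have hcmem : ∀ a b : P, a * b * a⁻¹ * b⁻¹ ∈ Subgroup.center P := fun a b =>
      hcomZ (Subgroup.commutator_mem_commutator (Subgroup.mem_top a) (Subgroup.mem_top b))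
    have hcom_ne : commutator P ≠ ⊥ := by
      intro h
      apply hcomm
      intro a b
      have : ⁅a, b⁆ ∈ commutator P :=
        Subgroup.commutator_mem_commutator (Subgroup.mem_top a) (Subgroup.mem_top b)
      rw [h, Subgroup.mem_bot] at this
      exact commutatorElement_eq_one_iff_mul_comm.mp this
    have hcomeq : commutator P = Subgroup.center P := by
      have hd : Nat.card (commutator P) ∣ p := hZ ▸ Subgroup.card_dvd_of_le hcomZ
      rcases (Nat.dvd_prime hp).mp hd with h | h
      · exact absurd (Subgroup.card_eq_one.mp h) hcom_ne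
      · exact Subgroup.eq_of_le_of_card_ge hcomZ (by rw [h, hZ])
    have hpowZ : ∀ x : P, x ^ p ∈ Subgroup.center P := by
      intro x
      by_contra hx
      have hord : orderOf (QuotientGroup.mk x : P ⧸ Subgroup.center P) = p ^ 2 := by
        have hd : orderOf (QuotientGroup.mk x : P ⧸ Subgroup.center P) ∣ p ^ 2 :=
          hq ▸ orderOf_dvd_natCard _
        obtain ⟨k, hk, hok⟩ := (Nat.dvd_prime_pow hp).mp hd
        have hk2 : k = 2 := by
          by_contra hk2
          have hk1 : k ≤ 1 := by omega
          apply hx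
          have h1 : orderOf (QuotientGroup.mk x : P ⧸ Subgroup.center P) ∣ p := by
            rw [hok]
            calc p ^ k ∣ p ^ 1 := pow_dvd_pow p hk1
              _ = p := pow_one p
          have h2 := orderOf_dvd_iff_pow_eq_one.mp h1
          rw [← QuotientGroup.mk_pow, QuotientGroup.eq_one_iff] at h2
          exact h2
        rw [hok, hk2]
      haveI : IsCyclic (P ⧸ Subgroup.center P) :=
        isCyclic_of_orderOf_eq_card _ (by rw [hord, hq])
      have := MonoidHom.isMulCommutative_of_isCyclic_of_ker_le_center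
        (QuotientGroup.mk' (Subgroup.center P)) (by rw [QuotientGroup.ker_mk'])
      exact hcomm (fun a b => this.is_comm.comm a b)
    have hZpow : ∀ z ∈ Subgroup.center P, z ^ p = 1 := by
      intro z hz
      have := pow_card_eq_one' (G := Subgroup.center P) (x := ⟨z, hz⟩)
      rw [hZ] at this
      exact congrArg Subtype.val this
    by_cases hp2 : p = 2
    · subst hp2
      right; right
      refine ⟨rfl, ?_⟩
      apply Cfsg.Agent.Lib.Helper8.h8_s4189 hP (fun h => hcomm (fun a b => h.is_comm.comm a b))
      · have h1 := Subgroup.index_mul_card (commutator P)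
        rw [hcomeq, hZ, hcard] at h1
        rw [hcomeq]
        omega
      · intro hAut
        have hA2 : IsPGroup 2 (↥A ⧸ N) := (hAut.to_subgroup A).to_quotient N
        have h1 : (⊤ : Subgroup (↥A ⧸ N)) ≤ Cfsg.pCore 2 (↥A ⧸ N) :=
          Cfsg.Agent.Lib.Helper7.le_pCore Subgroup.normal_top (hA2.to_subgroup ⊤)
        rw [hO] at h1
        have hc1 : Nat.card (↥A ⧸ N) = 1 := by
          rw [← Subgroup.card_top, ← top_le_iff.mp h1, Subgroup.card_bot]
        rw [hc1] at hpd
        norm_num at hpd
    · have hodd : Odd p := hp.odd_of_ne_two hp2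
      by_cases hexp : ∀ x : P, x ^ p = 1
      · right; left
        refine ⟨hodd, ⟨⟨hP, ?_, hcomeq⟩, hZ⟩, hexp⟩
        apply le_antisymm
        · exact Cfsg.Agent.Lib.Helper6.fr_le_of_elem_quotient (Subgroup.center P) hcmem hpowZ
        · rw [← hcomeq]; exact Cfsg.Agent.Lib.Helper2.commutator_le_frattini_of_pGroup hP
      · exfalso
        push_neg at hexp
        obtain ⟨x₀, hx₀⟩ := hexp
        have hmulpow : ∀ a b : P, (a * b) ^ p = a ^ p * b ^ p := by
          intro a b
          obtain ⟨c, hc⟩ : ∃ c, c = b⁻¹ * a⁻¹ * b * a := ⟨_, rfl⟩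
          have hcZ : c ∈ Subgroup.center P := by
            rw [hc]
            have := hcmem b⁻¹ a⁻¹
            simpa using this
          have hcc : ∀ g : P, c * g = g * c := fun g => (Subgroup.mem_center_iff.mp hcZ g).symm
          have h1 : b * a = a * b * c := by rw [hc]; group
          obtain ⟨_, h2⟩ := cop_class2 a b c h1 (hcc a) (hcc b) p
          rw [h2]
          have hcp : c ^ p = 1 := hZpow c hcZ
          obtain ⟨m, hm⟩ := hodd
          have e : p * (p - 1) / 2 = p * m := by
            rw [hm]
            have : (2 * m + 1) * (2 * m + 1 - 1) = 2 * ((2 * m + 1) * m) := by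
              simp; ring
            rw [this, Nat.mul_div_cancel_left _ (by norm_num)]
          rw [e, pow_mul, hcp, one_pow, mul_one]
        obtain ⟨π, hπ⟩ : ∃ π : P →* P, ∀ x, π x = x ^ p :=
          ⟨{ toFun := fun x => x ^ p, map_one' := one_pow p, map_mul' := hmulpow },
            fun x => rfl⟩
        have hK : ∀ x, x ∈ π.ker ↔ x ^ p = 1 := fun x => by rw [MonoidHom.mem_ker, hπ]
        have hRZ : π.range ≤ Subgroup.center P := by
          rintro _ ⟨y, rfl⟩; rw [hπ]; exact hpowZ y
        have hR1 : π.range ≠ ⊥ := by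
          intro h
          have : π x₀ ∈ π.range := ⟨x₀, rfl⟩
          rw [h, Subgroup.mem_bot, hπ] at this
          exact hx₀ this
        have hcr : Nat.card π.range = p := by
          have hd : Nat.card π.range ∣ p := hZ ▸ Subgroup.card_dvd_of_le hRZ
          rcases (Nat.dvd_prime hp).mp hd with h | h
          · exact absurd (Subgroup.card_eq_one.mp h) hR1
          · exact h
        have hck : Nat.card π.ker = p ^ 2 := by
          have hprod : Nat.card π.range * Nat.card π.ker = p ^ 3 := by
            rw [← Subgroup.index_ker, Subgroup.index_mul_card, hcard]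
          rw [hcr] at hprod
          have : p * p ^ 2 = p ^ 3 := by ring
          rw [← this] at hprod
          exact Nat.eq_of_mul_eq_mul_left hp.pos hprod
        have hZK : Subgroup.center P ≤ π.ker := by
          intro z hz
          rw [hK]
          exact hZpow z hz
        refine chain_false hcard A N hO hpd (Subgroup.center P) π.ker inferInstance inferInstance
          hZK hZ hck (fun α _ x hx => ?_)
          (fun α _ x hx => by rw [hK] at hx ⊢; rw [← map_pow, hx, map_one])
        rw [Subgroup.mem_center_iff] at hx ⊢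
        intro g
        have h1 := hx (α⁻¹ g)
        have h2 := congrArg α h1
        simpa using h2

end Cfsg.Agent.Lib.Helper1
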